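import Cfsg.Agent.P83.Defs

/-! The images of the letters in `O₈⁺(2)`: normal forms. -/

set_option autoImplicit false

namespace Cfsg.Agent.P83

open Subgroup H97 H15 H11 CO1 CO2 QuadraticMap H4.GF

/-- the image of a word -/
noncomputable def ow (w : List ℕ) : OG Q8 := (w.map ol).prod

/-- an additive injective map that preserves the form is an isometry -/
theorem bv_mk (f : V8 → V8) (add : ∀ x y, f (x + y) = f x + f y) (inj : ∀ x, f x = 0 → x = 0)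
    (hQ : ∀ x, Q8 (f x) = Q8 x) : ∃ g : OG Q8, ∀ x, ap g x = f x :=
  have hi : Function.Injective ((AddMonoidHom.mk' f add).toZModLinearMap 2) :=
    (injective_iff_map_eq_zero _).2 inj
  ⟨⟨LinearEquiv.ofBijective _ ⟨hi, Finite.surjective_of_injective hi⟩, hQ⟩, fun _ => rfl⟩

theorem bv_xor (A a b : ℕ) : apn A (a ^^^ b) = apn A a ^^^ apn A b :=
  F2.dec_inj (n := 8) (apn_lt _ _) (Nat.xor_lt_two_pow (n := 8) (apn_lt _ _) (apn_lt _ _)) (by
    rw [F2.dec_xor, apn, apn, apn, ← F2.linM_dec, ← F2.linM_dec, ← F2.linM_dec, F2.dec_xor, map_add])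

theorem bv_is {A : ℕ} (h : ∀ a < 256, M8.testBit (apn A a) = M8.testBit a ∧ (apn A a = 0 → a = 0))
    (h' : ∀ i < 8, apn A (2 ^ i) = H14.app 8 256 A i) : Is dc8 (og A) A := by
  choose c hc ec using cd_dc8.surj
  have e : ∀ a < 256, c (dc8 a) = a := fun a ha => cd_dc8.inj _ (hc _) _ ha (ec _)
  obtain ⟨g, hg⟩ := bv_mk (fun v => dc8 (apn A (c v))) (fun x y => by
      rw [← cd_dc8.xor, ← bv_xor, ← e _ (Nat.xor_lt_two_pow (hc x) (hc y)), cd_dc8.xor, ec, ec])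
    (fun x hx => by
      rw [← ec x, (h _ (hc x)).2 (cd_dc8.inj _ (apn_lt _ _) 0 (by norm_num) (hx.trans cd_dc8.zero.symm)),
        cd_dc8.zero])
    fun x => by rw [cd_dc8.q _ (apn_lt _ _), (h _ (hc x)).1, ← cd_dc8.q _ (hc x), ec]
  have k : ∃ g : OG Q8, Is dc8 g A := ⟨g, fun i hi => by
    rw [hg, e _ (Nat.pow_lt_pow_right (by norm_num) hi), h' i hi]⟩
  rw [og, dif_pos k]
  exact k.choose_spec

theorem is_ol : ∀ i ∈ nq, Is dc8 (ol i) (cc i) := fun i hi =>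
  bv_is (by revert i; decide +kernel) (by revert i; decide +kernel)

theorem bv_cons (i : ℕ) (w : List ℕ) : ow (i :: w) = ol i * ow w := List.prod_cons

theorem bv_one (i : ℕ) : ow [i] = ol i := by rw [bv_cons]; exact mul_one _

theorem bv_app (u w : List ℕ) : ow (u ++ w) = ow u * ow w := by
  rw [ow, List.map_append, List.prod_append]; rfl

theorem bv_rep (n i : ℕ) : ow (List.replicate n i) = ol i ^ n := by
  rw [ow, List.map_replicate, List.prod_replicate]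

theorem is_ow {w : List ℕ} (h : ∀ i ∈ w, i ∈ nq) : Is dc8 (ow w) (cW w) := by
  induction w with
  | nil => exact Is.one
  | cons i w ih =>
    rw [bv_cons]
    exact (is_ol i (h i List.mem_cons_self)).mul cd_dc8 (ih fun j hj => h j (List.mem_cons_of_mem _ hj))

theorem is_eq_iff {g k : OG Q8} {A B : ℕ} (hg : Is dc8 g A) (hk : Is dc8 k B) :
    g = k ↔ ∀ i < 8, H14.app 8 256 A i = H14.app 8 256 B i :=
  ⟨fun e i hi => cd_dc8.inj _ (app_lt _ _) _ (app_lt _ _) (by rw [← hg i hi, e, hk i hi]),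
    fun e => Is.ext cd_dc8 hg fun i hi => by rw [hk i hi, e i hi]⟩

theorem bv_pack (w : List ℕ) : cW w = H14.pack 8 8 fun i => H14.app 8 256 (cW w) i := by
  cases w with
  | nil => decide +kernel
  | cons i w => exact H14.pack_congr fun j hj => (app_mmn _ _ hj).symm

theorem ow_eq {u w : List ℕ} (hu : ∀ i ∈ u, i ∈ nq) (hw : ∀ i ∈ w, i ∈ nq) :
    ow u = ow w ↔ cW u = cW w := by
  rw [is_eq_iff (is_ow hu) (is_ow hw)]
  exact ⟨fun e => by rw [bv_pack u, bv_pack w]; exact H14.pack_congr e, fun e => by rw [e]; exact fun _ _ => rfl⟩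

theorem ap_ow {w : List ℕ} (h : ∀ i ∈ w, i ∈ nq) {c : ℕ} (hc : c < 256) :
    ap (ow w) (dc8 c) = dc8 (apn (cW w) c) := (is_ow h).ap_dc cd_dc8 hc

theorem exists_is (g : OG Q8) : ∃ A, Is dc8 g A := by
  choose c hc ec using cd_dc8.surj
  exact ⟨H14.pack 8 8 fun i => c (ap g (dc8 (2 ^ i))), fun i hi => by
    rw [show H14.app 8 256 _ i = _ from H14.app_pack (k := 8) (fun _ _ => hc _) hi, ec]⟩

theorem ol_mem_go {l : List ℕ} {i : ℕ} (h : i ∈ l) : ol i ∈ go l := subset_closure ⟨i, h, rfl⟩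

theorem bv_le {l : List ℕ} {H : Subgroup (OG Q8)} (h : ∀ i ∈ l, ol i ∈ H) : go l ≤ H :=
  (closure_le _).2 (by rintro _ ⟨i, hi, rfl⟩; exact h i hi)

theorem bv_mem {l w : List ℕ} (h : ∀ i ∈ w, i ∈ l) : ow w ∈ go l :=
  (go l).list_prod_mem fun _ hx => let ⟨i, hi, e⟩ := List.mem_map.1 hx; e ▸ ol_mem_go (h i hi)

theorem bv_fin : Finite (OG Q8) :=
  Finite.of_injective (fun g : OG Q8 => ap g) fun _ _ e => OG_ext (congrFun e)

theorem bv_cl {l : List ℕ} {S : OG Q8 → Prop} (h1 : S 1) (hm : ∀ i ∈ l, ∀ s, S s → S (ol i * s))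
    {g : OG Q8} (hg : g ∈ go l) : S g := by
  haveI := bv_fin
  induction hg using closure_induction_left with
  | one => exact h1
  | mul_left x hx y _ hy => obtain ⟨i, hi, rfl⟩ := hx; exact hm i hi y hy
  | inv_mul_cancel x hx y _ hy =>
    obtain ⟨i, hi, rfl⟩ := hx
    obtain ⟨n, hn⟩ := mem_powers_iff_mem_zpowers.2 (inv_mem (mem_zpowers (ol i)))
    rw [← hn]
    clear hn
    induction n with
    | zero => simpa using hy
    | succ n ih => simpa only [pow_succ', mul_assoc] using hm i hi _ ih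

theorem bv_aL : ∀ k < 16, ∀ i ∈ aL k, i ∈ nq := by decide +kernel

theorem bv_nf {l : List ℕ} {n : ℕ} (hn : n ≤ 16) (h0 : 0 < n) (hl : ∀ i ∈ l, i ∈ nq)
    (h1 : ∀ k < n, ∀ i ∈ aL k, i ∈ l) (h2 : ∀ i ∈ l, ∀ k < n, ∃ j < n, cW (i :: aL k) = cW (aL j)) {g : OG Q8} :
    g ∈ go l ↔ ∃ k < n, g = ow (aL k) := by
  refine ⟨bv_cl (S := fun g => ∃ k < n, g = ow (aL k)) ⟨0, h0, rfl⟩ ?_, by rintro ⟨k, hk, rfl⟩; exact bv_mem (h1 k hk)⟩
  rintro i hi _ ⟨k, hk, rfl⟩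
  obtain ⟨j, hj, e⟩ := h2 i hi k hk
  exact ⟨j, hj, (bv_cons _ _).symm.trans ((ow_eq (List.forall_mem_cons.2 ⟨hl i hi, bv_aL k (by omega)⟩)
    (bv_aL j (by omega))).2 e)⟩

theorem mem_AA {g : OG Q8} : g ∈ AA ↔ ∃ k < 8, g = ow (aL k) :=
  bv_nf (by norm_num) (by norm_num) (by decide) (by decide +kernel) (by decide +kernel)

theorem mem_A16 {g : OG Q8} : g ∈ A16 ↔ ∃ k < 16, g = ow (aL k) :=
  bv_nf (by norm_num) (by norm_num) (by decide) (by decide +kernel) (by decide +kernel)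

theorem bv_card {H : Subgroup (OG Q8)} {n : ℕ} (hn : n ≤ 16) (h : ∀ g, g ∈ H ↔ ∃ k < n, g = ow (aL k)) :
    Nat.card H = n := by
  have t : ∀ k < 16, ∀ j < 16, cW (aL k) = cW (aL j) → k = j := by decide +kernel
  have hb : Function.Bijective fun k : Fin n => (⟨ow (aL k), (h _).2 ⟨k, k.2, rfl⟩⟩ : H) :=
    ⟨fun k j e => Fin.ext (t k (by omega) j (by omega) ((ow_eq (bv_aL k (by omega)) (bv_aL j (by omega))).1
      (congrArg Subtype.val e))), fun g => let ⟨k, hk, e⟩ := (h g).1 g.2; ⟨⟨k, hk⟩, Subtype.ext e.symm⟩⟩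
  rw [← Nat.card_eq_of_bijective _ hb, Nat.card_fin]

theorem card_AA : Nat.card AA = 8 := bv_card (by norm_num) fun _ => mem_AA

theorem card_A16 : Nat.card A16 = 16 := bv_card (by norm_num) fun _ => mem_A16

theorem AA_le : AA ≤ A16 := bv_le fun i hi => ol_mem_go (by revert i; decide)

theorem DD_le : DD ≤ EE := bv_le fun i hi => ol_mem_go (by revert i; decide)

/-- the normal forms in `DD` -/
abbrev bv_D (i j k : ℕ) : List ℕ := List.replicate i 23 ++ List.replicate j 25 ++ List.replicate k 27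

/-- the normal forms in `EE` -/
abbrev bv_E (i j k l : ℕ) : List ℕ := bv_D i j k ++ List.replicate l 32

theorem bv_Dl (i j k : ℕ) : ∀ x ∈ bv_D i j k, x ∈ [23, 25, 27] := by
  simp only [List.mem_append, List.mem_replicate, List.mem_cons]
  tauto

theorem bv_El (i j k l : ℕ) : ∀ x ∈ bv_E i j k l, x ∈ [23, 25, 27, 32] := by
  simp only [List.mem_append, List.mem_replicate, List.mem_cons]
  tauto

theorem bv_Dq (i j k : ℕ) : ∀ x ∈ bv_D i j k, x ∈ nq := fun x hx =>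
  (by decide : ∀ x ∈ [23, 25, 27], x ∈ nq) x (bv_Dl i j k x hx)

theorem bv_Eq (i j k l : ℕ) : ∀ x ∈ bv_E i j k l, x ∈ nq := fun x hx =>
  (by decide : ∀ x ∈ [23, 25, 27, 32], x ∈ nq) x (bv_El i j k l x hx)

/-- the next exponent -/
def bv_nx (x a i : ℕ) : ℕ := if x = a then (i + 1) % 3 else i

theorem bv_nx_lt (x a : ℕ) {i : ℕ} (h : i < 3) : bv_nx x a i < 3 := by
  unfold bv_nx; split_ifs <;> omega

theorem mem_DD {g : OG Q8} : g ∈ DD ↔ ∃ i < 3, ∃ j < 3, ∃ k < 3,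
    g = ow (List.replicate i 23 ++ List.replicate j 25 ++ List.replicate k 27) := by
  have t : ∀ x ∈ [23, 25, 27], x ∈ nq ∧ ∀ i < 3, ∀ j < 3, ∀ k < 3,
      cW (x :: bv_D i j k) = cW (bv_D (bv_nx x 23 i) (bv_nx x 25 j) (bv_nx x 27 k)) := by decide +kernel
  refine ⟨bv_cl (S := fun g => ∃ i < 3, ∃ j < 3, ∃ k < 3, g = ow (bv_D i j k))
    ⟨0, by norm_num, 0, by norm_num, 0, by norm_num, rfl⟩ ?_, by
    rintro ⟨i, -, j, -, k, -, rfl⟩; exact bv_mem (bv_Dl i j k)⟩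
  rintro x hx _ ⟨i, hi, j, hj, k, hk, rfl⟩
  exact ⟨_, bv_nx_lt x 23 hi, _, bv_nx_lt x 25 hj, _, bv_nx_lt x 27 hk, (bv_cons _ _).symm.trans
    ((ow_eq (List.forall_mem_cons.2 ⟨(t x hx).1, bv_Dq i j k⟩) (bv_Dq _ _ _)).2 ((t x hx).2 i hi j hj k hk))⟩

theorem mem_EE {g : OG Q8} : g ∈ EE ↔ ∃ i < 3, ∃ j < 3, ∃ k < 3, ∃ l < 3,
    g = ow (List.replicate i 23 ++ List.replicate j 25 ++ List.replicate k 27 ++ List.replicate l 32) := by
  have t : ∀ x ∈ [23, 25, 27, 32], x ∈ nq ∧ ∀ i < 3, ∀ j < 3, ∀ k < 3, ∀ l < 3, cW (x :: bv_E i j k l) =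
      cW (bv_E (bv_nx x 23 i) (bv_nx x 25 j) (bv_nx x 27 k) (bv_nx x 32 l)) := by decide +kernel
  refine ⟨bv_cl (S := fun g => ∃ i < 3, ∃ j < 3, ∃ k < 3, ∃ l < 3, g = ow (bv_E i j k l))
    ⟨0, by norm_num, 0, by norm_num, 0, by norm_num, 0, by norm_num, rfl⟩ ?_, by
    rintro ⟨i, -, j, -, k, -, l, -, rfl⟩; exact bv_mem (bv_El i j k l)⟩
  rintro x hx _ ⟨i, hi, j, hj, k, hk, l, hl, rfl⟩
  exact ⟨_, bv_nx_lt x 23 hi, _, bv_nx_lt x 25 hj, _, bv_nx_lt x 27 hk, _, bv_nx_lt x 32 hl,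
    (bv_cons _ _).symm.trans ((ow_eq (List.forall_mem_cons.2 ⟨(t x hx).1, bv_Eq i j k l⟩) (bv_Eq _ _ _ _)).2
      ((t x hx).2 i hi j hj k hk l hl))⟩

theorem bv_two (i j : ℕ) : ow [i, j] = ol i * ol j := by rw [bv_cons, bv_one]

theorem EE_comm : ∀ g ∈ EE, ∀ k ∈ EE, g * k = k * g := by
  have t : ∀ x ∈ [23, 25, 27, 32], ∀ y ∈ [23, 25, 27, 32], (∀ i ∈ [x, y], i ∈ nq) ∧ (∀ i ∈ [y, x], i ∈ nq) ∧
      cW [x, y] = cW [y, x] := by decide +kernel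
  have : EE ≤ centralizer (EE : Set (OG Q8)) := bv_le fun x hx => by
    rw [EE, go, centralizer_closure]
    rintro _ ⟨y, hy, rfl⟩
    rw [← bv_two, ← bv_two]
    exact (ow_eq (t y hy x hx).1 (t y hy x hx).2.1).2 (t y hy x hx).2.2
  exact fun g hg k hk => this hk g hg

theorem EE_cube : ∀ g ∈ EE, g ^ 3 = 1 := fun g hg => by
  have t : ∀ i < 3, ∀ j < 3, ∀ k < 3, ∀ l < 3,
      cW (bv_E i j k l ++ bv_E i j k l ++ bv_E i j k l) = cW [] := by decide +kernel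
  obtain ⟨i, hi, j, hj, k, hk, l, hl, rfl⟩ := mem_EE.1 hg
  have q := bv_Eq i j k l
  rw [pow_succ, pow_two, ← bv_app, ← bv_app]
  exact (ow_eq (List.forall_mem_append.2 ⟨List.forall_mem_append.2 ⟨q, q⟩, q⟩) (by simp)).2 (t i hi j hj k hk l hl)

theorem bv_sup {l : List ℕ} (hl : ∀ d ∈ l, d ∈ [23, 25, 27, 32]) {g : OG Q8} :
    g ∈ go l ⊔ AA ↔ ∃ d ∈ go l, ∃ a ∈ AA, g = d * a := by
  have t : ∀ a ∈ [29, 30, 31], ∀ d ∈ [23, 25, 27, 32], (∀ i ∈ [a, d], i ∈ nq) ∧ (∀ i ∈ [d, a], i ∈ nq) ∧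
      (∀ i ∈ [d, d, a], i ∈ nq) ∧ (cW [a, d] = cW [d, a] ∨ cW [a, d] = cW [d, d, a]) := by decide +kernel
  refine ⟨fun hg => ?_, by rintro ⟨d, hd, a, ha, rfl⟩; exact mul_mem (mem_sup_left hd) (mem_sup_right ha)⟩
  have e : go l ⊔ AA ≤ go (l ++ [29, 30, 31]) := sup_le (bv_le fun i hi => ol_mem_go (List.mem_append_left _ hi))
    (bv_le fun i hi => ol_mem_go (List.mem_append_right _ hi))
  refine bv_cl (S := fun g => ∃ d ∈ go l, ∃ a ∈ AA, g = d * a) ⟨1, one_mem _, 1, one_mem _, (mul_one _).symm⟩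
    ?_ (e hg)
  rintro x hx _ ⟨d, hd, a, ha, rfl⟩
  rcases List.mem_append.1 hx with hx | hx
  · exact ⟨_, mul_mem (ol_mem_go hx) hd, a, ha, (mul_assoc _ _ _).symm⟩
  · refine ⟨ol x * d * (ol x)⁻¹, bv_le (H := (go l).comap (MulAut.conj (ol x)).toMonoidHom) (fun y hy => ?_) hd,
      _, mul_mem (ol_mem_go hx) ha, by group⟩
    obtain ⟨q1, q2, q3, e | e⟩ := t x hx y (hl y hy)
    · have := (ow_eq q1 q2).2 e
      rw [bv_two, bv_two] at this
      show ol x * ol y * (ol x)⁻¹ ∈ go l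
      rw [this, mul_inv_cancel_right]
      exact ol_mem_go hy
    · have := (ow_eq q1 q3).2 e
      rw [bv_two, bv_cons, bv_two, ← mul_assoc] at this
      show ol x * ol y * (ol x)⁻¹ ∈ go l
      rw [this, mul_inv_cancel_right]
      exact mul_mem (ol_mem_go hy) (ol_mem_go hy)

theorem mem_DA {g : OG Q8} : g ∈ DD ⊔ AA ↔ ∃ d ∈ DD, ∃ a ∈ AA, g = d * a := bv_sup (by decide)

theorem mem_EA {g : OG Q8} : g ∈ EE ⊔ AA ↔ ∃ d ∈ EE, ∃ a ∈ AA, g = d * a := bv_sup (by decide)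

theorem om_nmem : ol 32 ∉ DD ⊔ AA := fun h => by
  have t : ∀ i < 3, ∀ j < 3, ∀ k < 3, ∀ m < 8, cW [32] ≠ cW (bv_D i j k ++ aL m) := by decide +kernel
  obtain ⟨d, hd, a, ha, e⟩ := mem_DA.1 h
  obtain ⟨i, hi, j, hj, k, hk, rfl⟩ := mem_DD.1 hd
  obtain ⟨m, hm, rfl⟩ := mem_AA.1 ha
  rw [← bv_app, ← bv_one] at e
  exact t i hi j hj k hk m hm
    ((ow_eq (by decide) (List.forall_mem_append.2 ⟨bv_Dq i j k, bv_aL m (by omega)⟩)).1 e)

/-- the test for `cen_EA` -/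
def bv_P (w : List ℕ) : Prop := apn (cW w) 1 = 1 → cW (w ++ [36]) = cW (36 :: w) → cW (w ++ [8]) = cW (8 :: w) →
  ∃ x < 2, ∃ y < 3, cW w = cW (List.replicate x 36 ++ List.replicate y 8)

noncomputable instance (w : List ℕ) : Decidable (bv_P w) := by unfold bv_P; infer_instance

theorem cen_EA {g : OG Q8} (h : g ∈ EE ⊔ AA) (h1 : ap g (dc8 1) = dc8 1) (h2 : g * ol 36 = ol 36 * g)
    (h3 : g * ol 8 = ol 8 * g) : ∃ i < 2, ∃ j < 3, g = ol 36 ^ i * ol 8 ^ j := by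
  have t : ∀ i < 3, ∀ j < 3, ∀ k < 3, ∀ l < 3, ∀ m < 8, bv_P (bv_E i j k l ++ aL m) := by
    decide +kernel
  obtain ⟨d, hd, a, ha, rfl⟩ := mem_EA.1 h
  obtain ⟨i, hi, j, hj, k, hk, l, hl, rfl⟩ := mem_EE.1 hd
  obtain ⟨m, hm, rfl⟩ := mem_AA.1 ha
  have q : ∀ x ∈ bv_E i j k l ++ aL m, x ∈ nq := List.forall_mem_append.2 ⟨bv_Eq i j k l, bv_aL m (by omega)⟩
  rw [← bv_app] at h1 h2 h3 ⊢
  rw [← bv_cons, ← bv_one, ← bv_app] at h2 h3
  rw [ap_ow q (by norm_num)] at h1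
  obtain ⟨x, hx, y, hy, e⟩ := t i hi j hj k hk l hl m hm (cd_dc8.inj _ (apn_lt _ _) _ (by norm_num) h1)
    ((ow_eq (List.forall_mem_append.2 ⟨q, by decide⟩) (List.forall_mem_cons.2 ⟨by decide, q⟩)).1 h2)
    ((ow_eq (List.forall_mem_append.2 ⟨q, by decide⟩) (List.forall_mem_cons.2 ⟨by decide, q⟩)).1 h3)
  refine ⟨x, hx, y, hy, ?_⟩
  rw [← bv_rep, ← bv_rep, ← bv_app]
  exact (ow_eq q (List.forall_mem_append.2 ⟨fun _ h => (List.eq_of_mem_replicate h).symm ▸ by decide,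
    fun _ h => (List.eq_of_mem_replicate h).symm ▸ by decide⟩)).2 e

end Cfsg.Agent.P83
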