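import Cfsg.Agent.P83.BaseQ
import Cfsg.Agent.P83.BaseV
import Cfsg.Agent.H22.Core

/-! Basic consequences of the hypotheses. -/

set_option autoImplicit false

namespace Cfsg.Agent.P83

open Subgroup H97 H15 H11 CO1 CO2 QuadraticMap H4.GF

variable {G : Type*} [Group G] {φ ψ : Y → G} {K : Subgroup Y} {bd : ℕ} {π : G → V8} {ρ : G → OG Q8}

theorem H0.le (h : H0 φ K bd) : KL ≤ K := by
  rcases h.cases with ⟨rfl, -⟩ | ⟨rfl, -⟩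
  exacts [le_rfl, KL_le_KO]

theorem H0.bd_le (h : H0 φ K bd) : bd ≤ 8192 := by
  rcases h.cases with ⟨-, rfl⟩ | ⟨-, rfl⟩ <;> omega

theorem H0.injOn (h : H0 φ K bd) {x y : Y} (hx : x ∈ K) (hy : y ∈ K) (e : φ x = φ y) : x = y :=
  mul_inv_eq_one.1 (h.inj _ (mul_mem hx (inv_mem hy)) (by
    rw [h.mul _ hx _ (inv_mem hy), h.mul.inv hy, e, mul_inv_cancel]))

theorem H0.ev (h : H0 φ K bd) {w : List ℕ} (hw : ∀ i ∈ w, el i ∈ K) :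
    φ (ev w) = (w.map fun i => φ (el i)).prod := by
  rw [P83.ev, h.mul.prod fun _ hx => let ⟨i, hi, e⟩ := List.mem_map.1 hx; e ▸ hw i hi, List.map_map]
  rfl

namespace BG

theorem Q0_C1 : Q0 ≤ C1 := Q0_le_T0.trans T0_le_C1

theorem C1_K (h : H0 φ K bd) : C1 ≤ K := C1_le_KL.trans h.le

theorem cz {θ : Y → G} {C : Subgroup Y} (h : MulOn θ C) (z0 : el 13 ∈ C) {x : Y} (hx : x ∈ C)
    (hz : x ∈ Cz (el 13)) : θ x ∈ Cz (θ (el 13)) :=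
  mem_Cz.2 (by rw [← h _ hx _ z0, mem_Cz.1 hz, h _ z0 _ hx])

theorem card_img (h : H0 φ K bd) {A : Subgroup Y} (hA : A ≤ K) :
    Nat.card ((A.subgroupOf K).map h.mul.hom) = Nat.card A := by
  rw [card_map_of_injective fun a b e => Subtype.ext (h.injOn a.2 b.2 e)]
  exact Nat.card_congr (subgroupOfEquivOfLe hA).toEquiv

theorem mem_img (h : H0 φ K bd) {A : Subgroup Y} {g : G} :
    g ∈ (A.subgroupOf K).map h.mul.hom ↔ ∃ x ∈ A, x ∈ K ∧ φ x = g :=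
  ⟨fun ⟨x, hx, e⟩ => ⟨x, hx, x.2, e⟩, fun ⟨x, hx, k, e⟩ => ⟨⟨x, k⟩, hx, e⟩⟩

theorem oz_conj {g z a : G} (ha : a ∈ Oz z) : g * a * g⁻¹ ∈ Oz (g * z * g⁻¹) := by
  obtain ⟨⟨a, ha0⟩, ha, rfl⟩ := ha
  let e : Cz z ≃* Cz (g * z * g⁻¹) :=
    { toFun := fun x => ⟨g * x * g⁻¹, mem_Cz.2 (by rw [conj_mul, mem_Cz.1 x.2, conj_mul])⟩
      invFun := fun x => ⟨g⁻¹ * x * g, mem_Cz.2 (by
        have := mem_Cz.1 x.2
        calc _ = g⁻¹ * (x * (g * z * g⁻¹)) * g := by group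
          _ = _ := by rw [this]; group)⟩
      left_inv := fun x => Subtype.ext (by simp [mul_assoc])
      right_inv := fun x => Subtype.ext (by simp [mul_assoc])
      map_mul' := fun x y => Subtype.ext (by simp [mul_assoc]) }
  exact ⟨e ⟨a, ha0⟩, (H22.mem_pCore_equiv e _).2 ha, rfl⟩

theorem w_conj : el 5 * el 13 * (el 5)⁻¹ = el 14 := by
  have := (ev_eq [5, 13, 5] [14]).2 (by decide +kernel)
  rwa [ev_cons, ev_cons, ev_one, ev_one, ← mul_assoc, show el 5 * el 13 * el 5 = el 5 * el 13 * (el 5)⁻¹ by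
    rw [el_inv]; rfl] at this

variable (h : Fr φ K bd π ρ) {θ : Y → G} {C : Subgroup Y} (hm : MulOn θ C) (hQ : Q0 ≤ C)
  (he : ∀ x ∈ Q0, θ x = φ x)
include h hm hQ he

theorem rho {x : Y} {M : ℕ} (hx : x ∈ C) (hz : x ∈ Cz (el 13)) (hM : ActQ x M) : Is dc8 (ρ (θ x)) M := by
  intro i hi
  have c := cz hm (hQ z_mem) hx hz
  rw [he _ z_mem] at c
  have o : ∀ c, φ (qw c) ∈ Oz (φ (el 13)) := fun c => (h.oz _).2 ⟨_, qw_mem c, rfl⟩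
  rw [← h.pi _ (Nat.pow_lt_pow_right one_lt_two hi), ← h.cx.act _ c _ (o _), ← he _ (qw_mem _),
    ← hm.conj hx (hQ (qw_mem _)), qw_pow hi, ← h.pi _ (app_lt M i)]
  rcases hM i hi with e | e <;> rw [e]
  · rw [he _ (qw_mem _)]
  · rw [hm _ (hQ z_mem) _ (hQ (qw_mem _)), he _ z_mem, he _ (qw_mem _), h.cx.π_zmul (o _)]

theorem cr (hC : C ≤ Cz (el 13)) {l : List ℕ} (hl : ∀ i ∈ l ++ [29, 30, 31], i ∈ nq ∧ el i ∈ C) {g : G}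
    (hg : g ∈ CR (φ (el 13)) ρ (go l)) : ∃ x ∈ C, θ x = g := by
  have c : ∀ x ∈ C, θ x ∈ Cz (φ (el 13)) := fun x hx => he _ z_mem ▸ cz hm (hQ z_mem) hx (hC hx)
  let S : Subgroup (OG Q8) :=
    { carrier := {γ | ∃ x ∈ C, ρ (θ x) = γ}
      one_mem' := ⟨1, one_mem _, by rw [hm.one, h.cx.ρ_one]⟩
      mul_mem' := by
        rintro _ _ ⟨x, hx, rfl⟩ ⟨y, hy, rfl⟩
        exact ⟨x * y, mul_mem hx hy, by rw [hm _ hx _ hy, h.cx.ρ_mul (c x hx) (c y hy)]⟩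
      inv_mem' := by
        rintro _ ⟨x, hx, rfl⟩
        exact ⟨x⁻¹, inv_mem hx, by rw [hm.inv hx, h.cx.ρ_inv (c x hx)]⟩ }
  have k : ∀ l' : List ℕ, (∀ i ∈ l', i ∈ nq ∧ el i ∈ C) → go l' ≤ S := fun l' hl' => (closure_le _).2 (by
    rintro _ ⟨i, hi, rfl⟩
    obtain ⟨h1, h2⟩ := hl' i hi
    exact ⟨el i, h2, Is.ext cd_dc8 (rho h hm hQ he h2 (nq_Cz i h1) (actQ_el i h1)) (is_ol i h1)⟩)
  obtain ⟨x, hx, e⟩ := sup_le (k l fun i hi => hl i (List.mem_append_left _ hi))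
    (k [29, 30, 31] fun i hi => hl i (List.mem_append_right _ hi)) hg.2
  obtain ⟨q, hq, e'⟩ := (h.oz _).1 (h.cx.mem_of_ρ hg.1 (c x hx) e.symm)
  exact ⟨q * x, mul_mem (hQ hq) hx, by rw [hm _ (hQ hq) _ hx, he q hq, e', inv_mul_cancel_right]⟩

end BG

theorem H0.cz (h : H0 φ K bd) {x : Y} (hx : x ∈ K) (hz : x ∈ Cz (el 13)) : φ x ∈ Cz (φ (el 13)) :=
  BG.cz h.mul (BG.C1_K h (BG.Q0_C1 z_mem)) hx hz

/-- the image of `T1 ⊓ K` is a Sylow subgroup -/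
theorem H0.exists_T [Finite G] (h : H0 φ K bd) : ∃ T : Sylow 2 G, Nat.card T = bd ∧
    ∀ g, g ∈ (T : Subgroup G) ↔ ∃ x ∈ T1, x ∈ K ∧ φ x = g := by
  have hP : IsPGroup 2 ((T1.subgroupOf K).map h.mul.hom) :=
    ((IsPGroup.of_card (n := 13) card_T1).comap_subtype).map _
  have hc : bd ≤ Nat.card ((T1.subgroupOf K).map h.mul.hom) := by
    rcases h.cases with ⟨-, e⟩ | ⟨e, e'⟩
    · exact (e.trans (card_T0.symm.trans (BG.card_img h (T0_le_C1.trans (BG.C1_K h))).symm)).le.trans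
        (card_le_of_le (map_mono (comap_mono T0_le_T1)))
    · rw [BG.card_img h (T1_le_KO.trans e.ge), card_T1, e']
  obtain ⟨T, hT⟩ := hP.exists_le_sylow
  have e := eq_of_le_of_card_ge hT ((h.syl _ T.isPGroup').trans hc)
  exact ⟨T, le_antisymm (h.syl _ T.isPGroup') (hc.trans (card_le_of_le hT)), fun g => e ▸ BG.mem_img h⟩

theorem H0.t_conj (h : H0 φ K bd) : φ (el 5) * φ (el 13) * (φ (el 5))⁻¹ = φ (el 14) := by
  rw [← h.mul.conj (h.le (el_mem_gp (by decide))) (BG.C1_K h (BG.Q0_C1 z_mem)), BG.w_conj]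

theorem Fr.h1 (h : Fr φ K bd π ρ) : H1 φ K bd := by
  refine ⟨h.h0, fun g hg => h.cx.lx.large g fun a ha => ?_, fun g hg x hx => ?_⟩
  · obtain ⟨x, hx, rfl⟩ := (h.oz a).1 ha
    exact hg x hx
  · obtain ⟨y, hy, e⟩ := (h.oz _).1 (h.cx.norm hg ((h.oz _).2 ⟨x, hx, rfl⟩))
    exact ⟨y, hy, e.symm⟩

set_option linter.unusedVariables false in
theorem Fr.card_Q [Finite G] (h : Fr φ K bd π ρ) : Nat.card (Oz (φ (el 13))) = 512 := by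
  have le := BG.Q0_C1.trans (BG.C1_K h.h0)
  rw [← card_Q0, ← BG.card_img h.h0 le]
  congr 2
  ext g
  rw [h.oz, BG.mem_img h.h0]
  exact ⟨fun ⟨x, hx, e⟩ => ⟨x, hx, le hx, e⟩, fun ⟨x, hx, _, e⟩ => ⟨x, hx, e⟩⟩

theorem Fr.rho (h : Fr φ K bd π ρ) {x : Y} {M : ℕ} (hx : x ∈ K) (hz : x ∈ Cz (el 13)) (hM : ActQ x M) :
    Is dc8 (ρ (φ x)) M :=
  BG.rho h h.h0.mul (BG.Q0_C1.trans (BG.C1_K h.h0)) (fun _ _ => rfl) hx hz hM

theorem Fr.rho_el (h : Fr φ K bd π ρ) {i : ℕ} (hi : i ∈ nq) (hx : el i ∈ K) : ρ (φ (el i)) = ol i :=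
  Is.ext cd_dc8 (h.rho hx (nq_Cz i hi) (actQ_el i hi)) (is_ol i hi)

theorem Fr.rho_ev (h : Fr φ K bd π ρ) {w : List ℕ} (hw : ∀ i ∈ w, i ∈ nq ∧ el i ∈ K) :
    ρ (φ (ev w)) = ow w :=
  Is.ext cd_dc8 (h.rho (ev_mem fun i hi => (hw i hi).2) (ev_mem fun i hi => nq_Cz i (hw i hi).1)
    (actQ_ev fun i hi => (hw i hi).1)) (is_ow fun i hi => (hw i hi).1)

theorem Fr.cr_D (h : Fr φ K bd π ρ) {g : G} (hg : g ∈ CR (φ (el 13)) ρ DD) : ∃ x ∈ C1, φ x = g :=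
  BG.cr h (h.h0.mul.mono (BG.C1_K h.h0)) BG.Q0_C1 (fun _ _ => rfl) (C1_le_C0.trans C0_le_Cz) (l := [23, 25, 27])
    (fun i hi => ⟨by revert i; decide, mem_C1 i (by revert i; decide)⟩) hg

theorem Fr.ps_cz (h : Fr φ K bd π ρ) (p : Ps φ ψ ρ) {x : Y} (hx : x ∈ C0) : ψ x ∈ Cz (φ (el 13)) :=
  have _ := h
  p.eq _ (BG.Q0_C1 z_mem) ▸ BG.cz p.mul (C1_le_C0 (BG.Q0_C1 z_mem)) hx (C0_le_Cz hx)

theorem Fr.ps_rho (h : Fr φ K bd π ρ) (p : Ps φ ψ ρ) {i : ℕ} (hi : i ∈ nq) (hx : el i ∈ C0) :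
    ρ (ψ (el i)) = ol i :=
  Is.ext cd_dc8 (BG.rho h p.mul (BG.Q0_C1.trans C1_le_C0) (fun x hx => p.eq x (BG.Q0_C1 hx)) hx (nq_Cz i hi)
    (actQ_el i hi)) (is_ol i hi)

theorem Fr.cr_E (h : Fr φ K bd π ρ) (p : Ps φ ψ ρ) {g : G} (hg : g ∈ CR (φ (el 13)) ρ EE) :
    ∃ x ∈ C0, ψ x = g := by
  refine BG.cr h p.mul (BG.Q0_C1.trans C1_le_C0) (fun x hx => p.eq x (BG.Q0_C1 hx)) C0_le_Cz (l := [23, 25, 27, 32])
    (fun i hi => ⟨by revert i; decide, ?_⟩) hg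
  by_cases e : i = 32
  · exact mem_C0 i (by rw [e]; decide)
  · exact C1_le_C0 (mem_C1 i (by revert i; decide))

theorem Fr.oz_t (h : Fr φ K bd π ρ) {g : G} :
    g ∈ Oz (φ (el 14)) ↔ ∃ x ∈ Q0, φ (el 5 * x * (el 5)⁻¹) = g := by
  have le := BG.Q0_C1.trans (BG.C1_K h.h0)
  have w : el 5 ∈ K := h.h0.le (el_mem_gp (by decide))
  rw [← h.h0.t_conj]
  refine ⟨fun a => ?_, ?_⟩
  · have := BG.oz_conj (g := (φ (el 5))⁻¹) a
    rw [show (φ (el 5))⁻¹ * (φ (el 5) * φ (el 13) * (φ (el 5))⁻¹) * (φ (el 5))⁻¹⁻¹ = φ (el 13) by group] at this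
    obtain ⟨x, hx, e⟩ := (h.oz _).1 this
    exact ⟨x, hx, by rw [h.h0.mul.conj w (le hx), e]; group⟩
  · rintro ⟨x, hx, rfl⟩
    rw [h.h0.mul.conj w (le hx)]
    exact BG.oz_conj ((h.oz _).2 ⟨x, hx, rfl⟩)

end Cfsg.Agent.P83
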