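import Cfsg.Agent.P83.Defs

/-! The model: memberships, normal forms in `Q0`, `T0`, `T1`, the action on `Q / z`. -/

set_option autoImplicit false
set_option maxRecDepth 100000

namespace Cfsg.Agent.P83

open Subgroup H97 H15 H11 CO1 CO2 QuadraticMap H4.GF

namespace BQ

theorem tab {l L : List ℕ} (t : List (ℕ × List ℕ))
    (h : ∀ i ∈ L, i ∈ l ∨ ∃ p ∈ t, p.1 = i ∧ (∀ j ∈ p.2, j ∈ l ∨ Il.getD j 0 ∈ l) ∧
      eqp (wC [i]) (wC p.2) = true) : ∀ i ∈ L, el i ∈ gp l := fun i hi => by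
  rcases h i hi with k | ⟨p, -, -, k, e⟩
  · exact el_mem_gp k
  · rw [← ev_one, (ev_eq _ _).2 e]; exact ev_mem_gp k

theorem sub {l L : List ℕ} (h : ∀ i ∈ l, i ∈ L) : gp l ≤ gp L := gp_le fun i hi => el_mem_gp (h i hi)

/-- induction over words, by multiplication on the right -/
theorem ind {l : List ℕ} {p : Y → Prop} (h1 : p 1) (hm : ∀ x, p x → ∀ i ∈ l, p (x * el i)) :
    ∀ x ∈ gp l, p x := by
  intro x hx
  induction hx using closure_induction_right with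
  | one => exact h1
  | mul_right x _ y hy h => obtain ⟨i, hi, rfl⟩ := hy; exact hm x h i hi
  | mul_inv_cancel x _ y hy h =>
    obtain ⟨i, hi, rfl⟩ := hy
    obtain ⟨n, hn⟩ : (el i)⁻¹ ∈ Submonoid.powers (el i) :=
      mem_powers_iff_mem_zpowers.2 (inv_mem (mem_zpowers _))
    rw [← hn]
    clear hn
    induction n with
    | zero => simpa using h
    | succ n ih => simp only [pow_succ, ← mul_assoc]; exact hm _ ih i hi

def tb1 : List (ℕ × List ℕ) := [(13, [4,6,4,6,4,6]), (13, [1,4,1,10,1,10,4,10,1,10]), (14, [3,1,10,1,3,10]),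
  (15, [10,1,4,1,4,10]), (16, [2,10,1,4,1,4,2,10]), (17, [1,4,1,4]), (18, [1,2,4,1,4,2]), (19, [2,10,4,2,10]),
  (20, [10,4,10]), (21, [2,4,2]), (22, [4]), (23, [6,10,6,10]), (24, [7,10,7,10]), (25, [6,10,7,10]),
  (26, [7,10,6,10]), (27, [3,2]), (28, [2,3]), (29, [1,3,10,1,4,1,4,3]), (30, [10]), (31, [2,3,2]),
  (36, [4,3,10,1,3,10,4])]

def tb2 : List (ℕ × List ℕ) := [(9, [9]), (32, [3,2,8]), (33, [9,2,3]), (37, [8,2]), (11, [3,5,9,2,5,3,2]),
  (34, [8,5,9,5,8,4,5]), (35, [5,4,9,5,8,5,9])]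

def tb3 : List (ℕ × List ℕ) := [(1, [19,15,29,21,30]), (2, [31,28]), (3, [31,27]), (4, [22]), (6, [24,26]),
  (10, [30]), (8, [28,32]), (36, [29,30]), (13, [15,19,15,19])]

end BQ

open BQ

theorem mem_C1 : ∀ i ∈ [13, 14, 15, 16, 17, 18, 19, 20, 21, 22, 23, 24, 25, 26, 27, 28, 29, 30, 31, 36],
    el i ∈ C1 := tab tb1 (by decide +kernel)
theorem mem_B0 : ∀ i ∈ [13, 14, 15, 16, 17, 18, 19, 20, 21, 22, 27, 28, 29, 30, 31, 36], el i ∈ B0 :=
  tab tb1 (by decide +kernel)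
theorem mem_C0 : ∀ i ∈ [8, 9, 32, 33, 37], el i ∈ C0 := tab tb2 (by decide +kernel)
theorem mem_N0 : ∀ i ∈ [8, 9, 11, 34, 35, 37], el i ∈ N0 := tab tb2 (by decide +kernel)
theorem C1_le_KL : C1 ≤ KL := sub (by decide)
theorem C1_le_C0 : C1 ≤ C0 := sub (by decide)
theorem B0_le_KL : B0 ≤ KL := sub (by decide)
theorem B0_le_N0 : B0 ≤ N0 := sub (by decide)
theorem KL_le_KO : KL ≤ KO := sub (by decide)
theorem Q0_le_T0 : Q0 ≤ T0 := sub (by decide)
theorem T0_le_T1 : T0 ≤ T1 := sub (by decide)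
theorem T0_le_C1 : T0 ≤ C1 := gp_le fun i hi => mem_C1 i (by revert i; decide)
theorem T0_le_B0 : T0 ≤ B0 := gp_le fun i hi => mem_B0 i (by revert i; decide)
theorem T1_le_KO : T1 ≤ KO := gp_le fun i hi => by
  by_cases h : i = 12
  · exact h ▸ el_mem_gp (by decide)
  · exact KL_le_KO (C1_le_KL (mem_C1 i (by revert i; decide)))
theorem F5_le_T0 : F5 ≤ T0 := gp_le (tab tb3 (by decide +kernel))

theorem nq_Cz : ∀ i ∈ nq, el i ∈ Cz (el 13) := fun i hi => by
  have k : ∀ i ∈ nq, eqp (wC [i, 13]) (wC [13, i]) = true := by decide +kernel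
  have := (ev_eq _ _).2 (k i hi)
  rwa [ev_cons i, ev_one, ev_cons 13, ev_one, ← mem_Cz] at this

theorem C0_le_Cz : C0 ≤ Cz (el 13) := gp_le fun i hi => nq_Cz i (by revert i; decide)
theorem T1_le_Cz : T1 ≤ Cz (el 13) := gp_le fun i hi => nq_Cz i (by revert i; decide)
theorem C1_eq : C1 = gp [15, 16, 17, 18, 19, 20, 21, 22, 23, 25, 27, 29, 30, 31] :=
  le_antisymm (gp_le (tab tb3 (by decide +kernel))) (gp_le fun i hi => mem_C1 i (by revert i; decide))
theorem C0_eq : C0 = gp [15, 16, 17, 18, 19, 20, 21, 22, 23, 25, 27, 29, 30, 31, 32] :=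
  le_antisymm (gp_le (tab tb3 (by decide +kernel))) (gp_le fun i hi => by
    by_cases h : i = 32
    · exact h ▸ mem_C0 32 (by decide)
    · exact C1_le_C0 (mem_C1 i (by revert i; decide)))
theorem z_mem : el 13 ∈ Q0 := tab (L := [13]) tb3 (by decide +kernel) 13 (by decide)
theorem z_ne : el 13 ≠ 1 := fun e => by
  have := ((has_el 13).eq_iff Has.one).1 e
  revert this
  decide +kernel
theorem z_sq : el 13 * el 13 = 1 := (((has_el 13).mul (has_el 13)).eq_iff Has.one).2 (by decide +kernel)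

namespace BQ

theorem bw_sub {l : List ℕ} {c i : ℕ} (h : i ∈ bw l c) : i ∈ l := by
  obtain ⟨j, hj, rfl⟩ := List.mem_map.1 h
  have := List.mem_range.1 (List.mem_filter.1 hj).1
  rw [List.getD_eq_getElem _ _ this]
  exact List.getElem_mem _

/-- equality up to the factor `z` -/
def Ez (x y : Y) : Prop := x = y ∨ x = el 13 * y

theorem Ez.rfl {x : Y} : Ez x x := Or.inl (Eq.refl x)

theorem Ez.symm {x y : Y} (h : Ez x y) : Ez y x :=
  h.imp Eq.symm fun e => by rw [e, ← mul_assoc, z_sq, one_mul]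

theorem Ez.trans {x y w : Y} (h : Ez x y) (k : Ez y w) : Ez x w := by
  rcases h with rfl | rfl <;> rcases k with rfl | rfl
  exacts [Or.inl (Eq.refl _), Or.inr (Eq.refl _), Or.inr (Eq.refl _),
    Or.inl (by rw [← mul_assoc, z_sq, one_mul])]

theorem Ez.right {x y : Y} (h : Ez x y) (w : Y) : Ez (x * w) (y * w) :=
  h.imp (fun e => by rw [e]) fun e => by rw [e, mul_assoc]

theorem Ez.left {x y w : Y} (h : Ez x y) (hw : w ∈ Cz (el 13)) : Ez (w * x) (w * y) :=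
  h.imp (fun e => by rw [e]) fun e => by rw [e, ← mul_assoc, mem_Cz.1 hw, mul_assoc]

theorem ez_ev {u w : List ℕ} :
    Ez (ev u) (ev w) ↔ (eqp (wC u) (wC w) || eqp (wC u) (wC (13 :: w))) = true := by
  rw [Bool.or_eq_true, ← ev_eq, ← ev_eq, ev_cons]; rfl

/-- partial products -/
noncomputable def qs (m c : ℕ) : Y :=
  ev (((List.range m).filter c.testBit).map fun i => [15, 16, 17, 18, 19, 20, 21, 22].getD i 0)

theorem qs_succ {m : ℕ} (h : m < 8) (c : ℕ) :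
    qs (m + 1) c = qs m c * if c.testBit m then el (15 + m) else 1 := by
  have e : [15, 16, 17, 18, 19, 20, 21, 22].getD m 0 = 15 + m := by revert m; decide
  rw [qs, List.range_succ, List.filter_append, List.map_append, ev_append]
  congr 1
  by_cases k : c.testBit m = true
  · rw [if_pos k, List.filter_cons_of_pos k, List.filter_nil, List.map_singleton, ev_one, e]
  · rw [if_neg k, List.filter_cons_of_neg k]; rfl

theorem q_Cz {i : ℕ} (h : i < 8) : el (15 + i) ∈ Cz (el 13) := nq_Cz _ (by revert i; decide)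

theorem qs_Cz {m : ℕ} (hm : m ≤ 8) (c : ℕ) : qs m c ∈ Cz (el 13) := by
  induction m with
  | zero => exact one_mem _
  | succ m ih =>
    rw [qs_succ hm]
    refine mul_mem (ih (Nat.le_of_succ_le hm)) ?_
    split_ifs
    exacts [q_Cz hm, one_mem _]

theorem q_comm {i j : ℕ} (hi : i < 8) (hj : j < 8) :
    Ez (el (15 + i) * el (15 + j)) (el (15 + j) * el (15 + i)) := by
  have k : ∀ i < 8, ∀ j < 8, (eqp (wC [15 + i, 15 + j]) (wC [15 + j, 15 + i]) ||
    eqp (wC [15 + i, 15 + j]) (wC [13, 15 + j, 15 + i])) = true := by decide +kernel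
  have := ez_ev.2 (k i hi j hj)
  rwa [ev_cons (15 + i), ev_one, ev_cons (15 + j), ev_one] at this

theorem q_sq {i : ℕ} (hi : i < 8) : el (15 + i) * el (15 + i) = 1 :=
  (((has_el _).mul (has_el _)).eq_iff Has.one).2
    ((by decide +kernel : ∀ i < 8, eqp (mu (mc (15 + i)) (mc (15 + i))) ID = true) i hi)

theorem qs_comm {m j : ℕ} (hm : m ≤ 8) (hj : j < 8) (d : ℕ) :
    Ez (el (15 + j) * qs m d) (qs m d * el (15 + j)) := by
  induction m with
  | zero => exact Or.inl ((mul_one _).trans (one_mul _).symm)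
  | succ m ih =>
    have hm' := Nat.le_of_succ_le hm
    rw [qs_succ hm]
    split_ifs
    · rw [← mul_assoc, mul_assoc (qs m d)]
      refine ((ih hm').right _).trans ?_
      rw [mul_assoc]
      exact (q_comm hj hm).left (qs_Cz hm' d)
    · rw [mul_one]; exact ih hm'

theorem qs_mul {m : ℕ} (hm : m ≤ 8) (c d : ℕ) : Ez (qs m c * qs m d) (qs m (c ^^^ d)) := by
  induction m with
  | zero => exact Or.inl (mul_one _)
  | succ m ih =>
    have hm' := Nat.le_of_succ_le hm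
    have k := ((qs_comm hm' hm d).left (qs_Cz hm' c)).trans
      (mul_assoc (qs m c) _ _ ▸ (ih hm').right (el (15 + m)))
    rw [qs_succ hm, qs_succ hm, qs_succ hm, Nat.testBit_xor]
    cases c.testBit m <;> cases d.testBit m <;>
      simp only [Bool.xor_false, Bool.xor_true, Bool.not_true, Bool.not_false, Bool.false_eq_true, if_true,
        if_false, mul_one]
    · exact ih hm'
    · rw [← mul_assoc]; exact (ih hm').right _
    · rw [mul_assoc]; exact k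
    · have := k.right (el (15 + m))
      rw [mul_assoc (qs m (c ^^^ d)), q_sq hm, mul_one] at this
      simpa only [mul_assoc] using this

theorem xlt {c d : ℕ} (hc : c < 256) (hd : d < 256) : c ^^^ d < 256 := Nat.xor_lt_two_pow (n := 8) hc hd

end BQ

theorem qw_mem (c : ℕ) : qw c ∈ Q0 := ev_mem fun _ hi => el_mem_gp (bw_sub hi)
theorem qw_zero : qw 0 = 1 := (ev_eq _ []).2 (by decide +kernel)
theorem qw_pow {i : ℕ} (h : i < 8) : qw (2 ^ i) = el (15 + i) := by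
  have k : ∀ i < 8, qL (2 ^ i) = [15 + i] := by decide
  rw [qw, k i h, ev_one]

theorem BQ.Q0_Cz {x : Y} (h : x ∈ Q0) : x ∈ Cz (el 13) := T1_le_Cz (T0_le_T1 (Q0_le_T0 h))

theorem qw_mul {c d : ℕ} (hc : c < 256) (hd : d < 256) :
    qw c * qw d = qw (c ^^^ d) ∨ qw c * qw d = el 13 * qw (c ^^^ d) := qs_mul le_rfl c d

theorem qw_inj {c d : ℕ} (hc : c < 256) (hd : d < 256) (h : qw c = qw d ∨ qw c = el 13 * qw d) : c = d := by
  have h1 : Ez (qw (c ^^^ d)) (qw 0) := by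
    have := Ez.trans (Ez.symm (qw_mul hc hd)) (Ez.trans (Ez.right h _) (qw_mul hd hd))
    rwa [Nat.xor_self] at this
  have k : ∀ e < 256, (eqp (wC (qL e)) (wC (qL 0)) || eqp (wC (qL e)) (wC (13 :: qL 0))) = true → e = 0 := by
    decide +kernel
  exact Nat.xor_eq_zero_iff.1 (k _ (xlt hc hd) (ez_ev.1 h1))

theorem qw_sq {c : ℕ} (hc : c < 256) : qw c * qw c = if M8.testBit c then el 13 else 1 := by
  have k : ∀ c < 256, eqp (wC (qL c ++ qL c)) (wC (if M8.testBit c then [13] else [])) = true := by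
    decide +kernel
  have := (ev_eq _ _).2 (k c hc)
  rw [ev_append] at this
  refine this.trans ?_
  split_ifs
  exacts [ev_one 13, ev_nil]

theorem mem_Q0 {x : Y} : x ∈ Q0 ↔ ∃ c < 256, x = qw c ∨ x = el 13 * qw c := by
  refine ⟨fun h => ind (p := fun x => ∃ c < 256, Ez x (qw c)) ⟨0, by decide, Or.inl qw_zero.symm⟩ ?_ x h, ?_⟩
  · rintro x ⟨c, hc, h⟩ i hi
    obtain ⟨j, hj, rfl⟩ : ∃ j < 8, i = 15 + j := by revert i; decide
    have h2 : 2 ^ j < 256 := Nat.pow_lt_pow_right (by decide) hj (a := 2)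
    exact ⟨_, xlt hc h2, (h.right _).trans (qw_pow hj ▸ qw_mul hc h2)⟩
  · rintro ⟨c, -, rfl | rfl⟩
    exacts [qw_mem c, mul_mem z_mem (qw_mem c)]

theorem ActQ.conj {x : Y} {M c : ℕ} (h : ActQ x M) (hx : x ∈ Cz (el 13)) (hc : c < 256) :
    x * qw c * x⁻¹ = qw (apn M c) ∨ x * qw c * x⁻¹ = el 13 * qw (apn M c) := by
  have k : ∀ m ≤ 8, Ez (x * qs m c * x⁻¹) (qw (F2.ap m 8 256 M c)) := by
    intro m hm
    induction m with
    | zero => exact Or.inl ((by rw [mul_one, mul_inv_cancel] : x * 1 * x⁻¹ = 1).trans qw_zero.symm)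
    | succ m ih =>
      rw [qs_succ hm, F2.ap_succ, ← conj_mul]
      split_ifs
      · rw [Nat.xor_comm]
        exact (((ih (Nat.le_of_succ_le hm)).right _).trans (Ez.left (h m hm) (Q0_Cz (qw_mem _)))).trans
          (qw_mul (F2.ap_lt m 8 M c) (app_lt M m))
      · rw [mul_one, mul_inv_cancel, mul_one, Nat.zero_xor]; exact ih (Nat.le_of_succ_le hm)
  exact k 8 le_rfl

theorem ActQ.mul {x y : Y} {M N : ℕ} (h : ActQ x M) (hx : x ∈ Cz (el 13)) (k : ActQ y N) :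
    ActQ (x * y) (mmn M N) := fun i hi => by
  rw [app_mmn M N hi, show x * y * el (15 + i) * (x * y)⁻¹ = x * (y * el (15 + i) * y⁻¹) * x⁻¹ by group]
  exact Ez.trans ((Ez.left (k i hi) hx).right _) (h.conj hx (app_lt N i))

theorem ActQ.uniq {x : Y} {M N : ℕ} (h : ActQ x M) (k : ActQ x N) :
    ∀ i < 8, H14.app 8 256 M i = H14.app 8 256 N i := fun i hi =>
  qw_inj (app_lt M i) (app_lt N i) (Ez.trans (Ez.symm (h i hi)) (k i hi))

theorem actQ_Q0 {x : Y} (h : x ∈ Q0) : ActQ x I8 := fun i hi => by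
  obtain ⟨c, hc, e⟩ := mem_Q0.1 h
  have h2 : 2 ^ i < 256 := Nat.pow_lt_pow_right (by decide) hi (a := 2)
  rw [(by decide +kernel : ∀ m < 8, H14.app 8 256 I8 m = 2 ^ m) i hi, ← qw_pow hi]
  have h3 : Ez (x * qw (2 ^ i)) (qw (2 ^ i) * x) :=
    ((Ez.right e _).trans (qw_mul hc h2)).trans (Ez.symm
      ((Ez.left e (Q0_Cz (qw_mem _))).trans (Nat.xor_comm c _ ▸ qw_mul h2 hc)))
  have := h3.right x⁻¹
  rwa [mul_inv_cancel_right] at this

theorem actQ_el : ∀ i ∈ nq, ActQ (el i) (cc i) := fun i hi j hj => by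
  have k : ∀ i ∈ nq, ∀ j < 8, (eqp (wC [i, 15 + j, Il.getD i 0]) (wC (qL (H14.app 8 256 (cc i) j))) ||
      eqp (wC [i, 15 + j, Il.getD i 0]) (wC (13 :: qL (H14.app 8 256 (cc i) j)))) = true := by decide +kernel
  have := ez_ev.2 (k i hi j hj)
  rwa [ev_cons, ev_cons, ev_one, ← el_inv, ← mul_assoc] at this

theorem actQ_ev {w : List ℕ} (h : ∀ i ∈ w, i ∈ nq) : ActQ (ev w) (cW w) := by
  induction w with
  | nil => exact actQ_Q0 (one_mem _)
  | cons i w ih =>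
    rw [ev_cons]
    exact (actQ_el i (h i List.mem_cons_self)).mul (nq_Cz i (h i List.mem_cons_self))
      (ih fun j hj => h j (List.mem_cons_of_mem _ hj))

namespace BQ

theorem aL_nq (k : ℕ) : ∀ i ∈ aL k, i ∈ nq := fun i hi =>
  (by decide : ∀ i ∈ [29, 30, 31, 12], i ∈ nq) i (bw_sub hi)

theorem conj_Q0 {x q : Y} {M : ℕ} (h : ActQ x M) (hx : x ∈ Cz (el 13)) (hq : q ∈ Q0) : x * q * x⁻¹ ∈ Q0 := by
  obtain ⟨c, hc, e⟩ := mem_Q0.1 hq
  exact mem_Q0.2 ⟨_, apn_lt M c, Ez.trans ((Ez.left e hx).right _) (h.conj hx hc)⟩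

theorem nf {n : ℕ} {l L : List ℕ} (hn : 0 < n) (h1 : ∀ i ∈ L, i ∈ [15, 16, 17, 18, 19, 20, 21, 22] ∨ i ∈ l)
    (h2 : ∀ k < n, ∀ j ∈ l, ∃ m < n, eqp (wC (aL k ++ [j])) (wC (aL m)) = true) :
    ∀ x ∈ gp L, ∃ q ∈ Q0, ∃ k < n, x = q * ev (aL k) := by
  refine ind ⟨1, one_mem _, 0, hn, (one_mul _).symm⟩ ?_
  rintro _ ⟨q, hq, k, hk, rfl⟩ i hi
  rcases h1 i hi with h | h
  · exact ⟨_, mul_mem hq (conj_Q0 (actQ_ev (aL_nq k)) (ev_mem fun j hj => nq_Cz j (aL_nq k j hj))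
      (el_mem_gp h)), k, hk, by group⟩
  · obtain ⟨m, hm, e⟩ := h2 k hk i h
    exact ⟨q, hq, m, hm, by rw [← (ev_eq _ _).2 e, ev_append, ev_one, mul_assoc]⟩

theorem aL_tab : ∀ k < 16, ∀ l < 16, H14.force (mmn I8 (cW (aL k))) (fun A => H14.force (mmn I8 (cW (aL l)))
    fun B => H14.allN 8 fun i => Nat.beq (H14.app 8 256 A i) (H14.app 8 256 B i)) = true → k = l := by
  decide +kernel

theorem aL_inj {q r : Y} (hq : q ∈ Q0) (hr : r ∈ Q0) {a b : ℕ} (ha : a < 16) (hb : b < 16)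
    (e : q * ev (aL a) = r * ev (aL b)) : a = b := by
  have h1 := (actQ_Q0 hq).mul (Q0_Cz hq) (actQ_ev (aL_nq a))
  have h2 := (actQ_Q0 hr).mul (Q0_Cz hr) (actQ_ev (aL_nq b))
  rw [e] at h1
  refine aL_tab a ha b hb ?_
  simp only [H14.force_eq, H14.allN_iff, H14.beq_iff]
  exact h1.uniq h2

theorem card_nf {n : ℕ} (hn : n ≤ 16) {T : Subgroup Y}
    (h : ∀ x, x ∈ T ↔ ∃ q ∈ Q0, ∃ k < n, x = q * ev (aL k)) : Nat.card T = Nat.card Q0 * n := by
  let f : Q0 × Fin n → T := fun p => ⟨p.1 * ev (aL p.2), (h _).2 ⟨_, p.1.2, _, p.2.2, Eq.refl _⟩⟩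
  have hf : Function.Bijective f := by
    constructor
    · rintro ⟨q, a⟩ ⟨r, b⟩ e
      have e' : (q : Y) * ev (aL a) = r * ev (aL b) := congrArg Subtype.val e
      have ab : a = b := Fin.ext (aL_inj q.2 r.2 (a.2.trans_le hn) (b.2.trans_le hn) e')
      subst ab
      exact Prod.ext (Subtype.ext (mul_right_cancel e')) (Eq.refl _)
    · rintro ⟨x, hx⟩
      obtain ⟨q, hq, a, ha, e⟩ := (h x).1 hx
      exact ⟨(⟨q, hq⟩, ⟨a, ha⟩), Subtype.ext e.symm⟩
  rw [← Nat.card_eq_of_bijective f hf, Nat.card_prod, Nat.card_fin]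

end BQ

theorem mem_T0 {x : Y} : x ∈ T0 ↔ ∃ q ∈ Q0, ∃ k < 8, x = q * ev (aL k) := by
  refine ⟨nf (l := [29, 30, 31]) (by decide) (by decide) (by decide +kernel) x, ?_⟩
  rintro ⟨q, hq, k, hk, rfl⟩
  exact mul_mem (Q0_le_T0 hq) (ev_mem fun i hi => el_mem_gp (by revert i; revert k; decide))

theorem mem_T1 {x : Y} : x ∈ T1 ↔ ∃ q ∈ Q0, ∃ k < 16, x = q * ev (aL k) := by
  refine ⟨nf (l := [29, 30, 31, 12]) (by decide) (by decide) (by decide +kernel) x, ?_⟩
  rintro ⟨q, hq, k, hk, rfl⟩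
  exact mul_mem (T0_le_T1 (Q0_le_T0 hq)) (ev_mem fun i hi => el_mem_gp (by revert i; revert k; decide))

theorem mem_F5 {x : Y} : x ∈ F5 ↔ ∃ k < 16, x = ev (bw [15, 16, 13, 36] k) := by
  have h2 : ∀ k < 16, ∀ j ∈ [15, 16, 13, 36], ∃ m < 16,
      eqp (wC (bw [15, 16, 13, 36] k ++ [j])) (wC (bw [15, 16, 13, 36] m)) = true := by decide +kernel
  refine ⟨ind (p := fun x => ∃ k < 16, x = ev (bw [15, 16, 13, 36] k)) ⟨0, by decide, rfl⟩ ?_ x, ?_⟩
  · rintro _ ⟨k, hk, rfl⟩ i hi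
    obtain ⟨m, hm, e⟩ := h2 k hk i hi
    exact ⟨m, hm, by rw [← (ev_eq _ _).2 e, ev_append, ev_one]⟩
  · rintro ⟨k, -, rfl⟩
    exact ev_mem fun i hi => el_mem_gp (bw_sub hi)

theorem card_Q0 : Nat.card Q0 = 512 := by
  let f : Fin 256 ⊕ Fin 256 → Q0 :=
    Sum.elim (fun c => ⟨qw c, qw_mem _⟩) fun c => ⟨el 13 * qw c, mul_mem z_mem (qw_mem _)⟩
  have hf : Function.Bijective f := by
    constructor
    · have k : ∀ c d : Fin 256, qw c ≠ el 13 * qw d := fun c d e => by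
        rw [qw_inj c.2 d.2 (Or.inr e)] at e
        exact z_ne (right_eq_mul.1 e)
      rintro (c | c) (d | d) e <;> have e' := congrArg Subtype.val e
      · exact congrArg _ (Fin.ext (qw_inj c.2 d.2 (Or.inl e')))
      · exact absurd e' (k c d)
      · exact absurd e'.symm (k d c)
      · exact congrArg _ (Fin.ext (qw_inj c.2 d.2 (Or.inl (mul_left_cancel (a := el 13) e'))))
    · rintro ⟨x, hx⟩
      obtain ⟨c, hc, e | e⟩ := mem_Q0.1 hx
      exacts [⟨Sum.inl ⟨c, hc⟩, Subtype.ext e.symm⟩, ⟨Sum.inr ⟨c, hc⟩, Subtype.ext e.symm⟩]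
  rw [← Nat.card_eq_of_bijective f hf, Nat.card_sum, Nat.card_fin]

theorem card_T0 : Nat.card T0 = 4096 := by rw [card_nf (by decide) fun _ => mem_T0, card_Q0]
theorem card_T1 : Nat.card T1 = 8192 := by rw [card_nf (by decide) fun _ => mem_T1, card_Q0]

end Cfsg.Agent.P83
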