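import Cfsg.Agent.P83.Ent
import Cfsg.Agent.S0296

/-! Orders in the model. -/

set_option autoImplicit false

namespace Cfsg.Agent.P83

open Subgroup H97 H15 H11 CO1 CO2 QuadraticMap H4.GF

theorem card_KL : Nat.card KL = 174182400 := by
  obtain ⟨β, h1, -, h3⟩ := exists_beta
  rw [← h3, card_map_of_injective h1, H96.card_comm_O8p]

theorem card_KO : Nat.card KO = 348364800 := by
  obtain ⟨β, h1, h2, -⟩ := exists_beta
  rw [← h2, ← Nat.card_congr (MonoidHom.ofInjective h1).toEquiv, H96.card_O8p]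

theorem KL_equiv : Nonempty (KL ≃* POmega (ZMod 2) (quadFormPlus 4 (ZMod 2))) := by
  obtain ⟨β, h1, -, h3⟩ := exists_beta
  have hZ : center (commutator H96.O8p) = ⊥ := eq_bot_iff.2 fun x hx => mem_bot.2 (Subtype.ext
    (mem_bot.1 (H96.cent_comm_O8p ▸ fun y hy => congrArg Subtype.val (mem_center_iff.1 hx ⟨y, hy⟩))))
  have e1 : POmega (ZMod 2) (quadFormPlus 4 (ZMod 2)) ≃* commutator H96.O8p :=
    (QuotientGroup.quotientMulEquivOfEq hZ).trans QuotientGroup.quotientBot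
  exact ⟨((e1.trans (equivMapOfInjective _ β h1)).trans (MulEquiv.subgroupCongr h3)).symm⟩

theorem simple_KL : IsSimpleGroup KL :=
  have := S0296.result (F := ZMod 2) 4 le_rfl
  KL_equiv.some.isSimpleGroup

theorem KL_normal : ∀ g ∈ KO, ∀ x ∈ KL, g * x * g⁻¹ ∈ KL := by
  obtain ⟨β, -, h2, h3⟩ := exists_beta
  rw [← h2, ← h3]
  rintro _ ⟨a, rfl⟩ _ ⟨b, hb, rfl⟩
  exact ⟨a * b * a⁻¹, (inferInstance : (commutator H96.O8p).Normal).conj_mem b hb a, by
    rw [map_mul, map_mul, map_inv]⟩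

theorem cen_KL : ∀ g ∈ KO, (∀ x ∈ KL, g * x = x * g) → g = 1 := by
  obtain ⟨β, h1, h2, h3⟩ := exists_beta
  rw [← h2, ← h3]
  rintro _ ⟨a, rfl⟩ h
  have : a ∈ centralizer (commutator H96.O8p : Set H96.O8p) := fun b hb => h1 (by
    rw [map_mul, map_mul]; exact (h _ ⟨b, hb, rfl⟩).symm)
  rw [H96.cent_comm_O8p, mem_bot] at this
  rw [this, map_one]

theorem eq_KL_or {K : Subgroup Y} (h1 : KL ≤ K) (h2 : K ≤ KO) : K = KL ∨ K = KO := by
  obtain ⟨a, ha⟩ := card_dvd_of_le h1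
  obtain ⟨b, hb⟩ := card_dvd_of_le h2
  rw [ha, card_KL, card_KO, mul_assoc] at hb
  rcases (Nat.dvd_prime Nat.prime_two).1 (⟨b, by omega⟩ : a ∣ 2) with rfl | rfl
  · exact Or.inl (eq_of_le_of_card_ge h1 (by rw [ha, mul_one])).symm
  · exact Or.inr (eq_of_le_of_card_ge h2 (by rw [ha, card_KL, card_KO]))

theorem o_nmem : el 12 ∉ KL := fun h => by
  have k : ∀ i ∈ [1, 2, 3, 4, 5, 6, 10, 12], i = 12 ∨ i ∈ [1, 2, 3, 4, 5, 6, 10] := by decide
  have := card_le_of_le (show KO ≤ KL from gp_le fun i hi => (k i hi).elim (fun e => e ▸ h) el_mem_gp)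
  rw [card_KL, card_KO] at this
  omega

end Cfsg.Agent.P83
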