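import Cfsg.Agent.P83.Crd

/-! Two index bounds in the model. -/

set_option autoImplicit false
set_option maxRecDepth 100000

namespace Cfsg.Agent.P83

open Subgroup H97 H15 H11 CO1 CO2 QuadraticMap H4.GF

namespace Crd2

/-- words in distinct cosets -/
theorem cos_bound {H L : Subgroup Y} (hl : H ≤ L) (ws : List (List ℕ)) (hm : ∀ w ∈ ws, ev w ∈ L)
    (hp : ws.Pairwise fun u w => (ev u)⁻¹ * ev w ∉ H) : ws.length * Nat.card H ≤ Nat.card L := by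
  have e : ws.length * Nat.card H = Nat.card (Fin ws.length × H) := by rw [Nat.card_prod, Nat.card_fin]
  rw [e]
  refine Nat.card_le_card_of_injective
    (fun p => (⟨ev ws[p.1] * p.2, L.mul_mem (hm _ (List.getElem_mem _)) (hl p.2.2)⟩ : L)) ?_
  have k : ∀ (i j : Fin ws.length) (a b : H), ev ws[i] * a = ev ws[j] * b → ¬ i < j := fun i j a b h hij => by
    refine List.pairwise_iff_getElem.1 hp i j i.2 j.2 hij ?_
    have h' : ev ws[(i : ℕ)] * a = ev ws[(j : ℕ)] * b := h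
    rw [show (ev ws[(i : ℕ)])⁻¹ * ev ws[(j : ℕ)] = a * (b : Y)⁻¹ by
      rw [inv_mul_eq_iff_eq_mul, ← mul_assoc, h', mul_inv_cancel_right]]
    exact H.mul_mem a.2 (H.inv_mem b.2)
  rintro ⟨i, a⟩ ⟨j, b⟩ h
  have h' : ev ws[i] * a = ev ws[j] * b := congrArg Subtype.val h
  obtain rfl : i = j := le_antisymm (not_lt.1 (k j i b a h'.symm)) (not_lt.1 (k i j a b h'))
  exact Prod.ext rfl (Subtype.ext (mul_left_cancel h'))

theorem neg_neg_code {B : ℕ} (h : H63.OkM 8 3 12 B) : mu NEG (mu NEG B) = B := by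
  obtain ⟨h1, e1⟩ := mu_spec ok_NEG h
  obtain ⟨h2, e2⟩ := mu_spec ok_NEG h1
  refine H63.decM_inj (by decide) h2 h (e2.trans ?_)
  rw [e1]
  change dec NEG * (dec NEG * dec B) = dec B
  rw [dec_NEG, neg_one_mul, neg_one_mul, neg_neg]

/-- an invariant of the conjugate of `o` by a word -/
noncomputable def kp (w : List ℕ) : ℕ :=
  H14.force (wC (w ++ 12 :: iw w)) fun A => H14.force (mu NEG A) fun B => Nat.mod (min A B) 100003

theorem kp_eq {u w : List ℕ} (h : ev u * el 12 * (ev u)⁻¹ = ev w * el 12 * (ev w)⁻¹) : kp u = kp w := by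
  have e : ∀ w, ev (w ++ 12 :: iw w) = ev w * el 12 * (ev w)⁻¹ := fun w => by
    rw [ev_append, ev_cons, ev_iw, mul_assoc]
  have h1 := (ev_eq _ _).1 ((e u).trans (h.trans (e w).symm))
  simp only [eqp, H14.force_eq, Bool.or_eq_true, H14.beq_iff] at h1
  simp only [kp, H14.force_eq]
  rcases h1 with h1 | h1
  · rw [h1]
  · rw [h1, neg_neg_code (has_ev _).1, min_comm]

/-- `120` words -/
def W1 : List (List ℕ) := [[], [10], [4, 10], [5, 10], [6, 10], [7, 10], [2, 4, 10], [3, 4, 10], [5, 4, 10], [6, 4, 10], [7, 4, 10],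
  [10, 4, 10], [5, 6, 10], [10, 6, 10], [5, 7, 10], [10, 7, 10], [6, 2, 4, 10], [7, 2, 4, 10], [6, 3, 4, 10],
  [7, 3, 4, 10], [5, 6, 4, 10], [10, 6, 4, 10], [5, 7, 4, 10], [10, 7, 4, 10], [2, 5, 6, 10], [3, 5, 6, 10], [6,
  5, 6, 10], [7, 5, 6, 10], [10, 5, 6, 10], [1, 10, 6, 10], [5, 10, 6, 10], [2, 5, 7, 10], [3, 5, 7, 10], [6, 5,
  7, 10], [7, 5, 7, 10], [1, 10, 7, 10], [5, 10, 7, 10], [10, 6, 2, 4, 10], [5, 7, 2, 4, 10], [10, 7, 2, 4, 10],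
  [5, 6, 3, 4, 10], [5, 7, 3, 4, 10], [2, 5, 6, 4, 10], [3, 5, 6, 4, 10], [6, 5, 6, 4, 10], [7, 5, 6, 4, 10],
  [5, 10, 6, 4, 10], [2, 5, 7, 4, 10], [3, 5, 7, 4, 10], [6, 5, 7, 4, 10], [7, 5, 7, 4, 10], [5, 10, 7, 4, 10],
  [4, 2, 5, 6, 10], [6, 2, 5, 6, 10], [7, 2, 5, 6, 10], [10, 2, 5, 6, 10], [4, 3, 5, 6, 10], [5, 3, 5, 6, 10],
  [6, 3, 5, 6, 10], [7, 3, 5, 6, 10], [10, 3, 5, 6, 10], [10, 6, 5, 6, 10], [10, 7, 5, 6, 10], [5, 1, 10, 6,
  10], [1, 5, 10, 6, 10], [2, 5, 10, 6, 10], [3, 5, 10, 6, 10], [7, 5, 10, 6, 10], [10, 5, 10, 6, 10], [4, 2, 5,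
  7, 10], [6, 2, 5, 7, 10], [7, 2, 5, 7, 10], [4, 3, 5, 7, 10], [6, 3, 5, 7, 10], [7, 3, 5, 7, 10], [10, 6, 5,
  7, 10], [5, 1, 10, 7, 10], [2, 5, 10, 7, 10], [3, 5, 10, 7, 10], [2, 5, 7, 2, 4, 10], [3, 5, 7, 2, 4, 10], [2,
  5, 6, 3, 4, 10], [3, 5, 6, 3, 4, 10], [2, 5, 7, 3, 4, 10], [3, 5, 7, 3, 4, 10], [7, 2, 5, 6, 4, 10], [7, 3, 5,
  6, 4, 10], [10, 6, 5, 6, 4, 10], [10, 7, 5, 6, 4, 10], [2, 5, 10, 6, 4, 10], [3, 5, 10, 6, 4, 10], [7, 5, 10,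
  6, 4, 10], [7, 3, 5, 7, 4, 10], [10, 6, 5, 7, 4, 10], [2, 5, 10, 7, 4, 10], [3, 5, 10, 7, 4, 10], [10, 4, 2,
  5, 6, 10], [10, 6, 2, 5, 6, 10], [10, 7, 2, 5, 6, 10], [10, 4, 3, 5, 6, 10], [10, 5, 3, 5, 6, 10], [10, 6, 3,
  5, 6, 10], [10, 7, 3, 5, 6, 10], [2, 5, 1, 10, 6, 10], [3, 5, 1, 10, 6, 10], [2, 1, 5, 10, 6, 10], [3, 1, 5,
  10, 6, 10], [7, 2, 5, 10, 6, 10], [10, 2, 5, 10, 6, 10], [1, 3, 5, 10, 6, 10], [4, 3, 5, 10, 6, 10], [7, 3, 5,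
  10, 6, 10], [10, 3, 5, 10, 6, 10], [10, 4, 2, 5, 7, 10], [10, 6, 2, 5, 7, 10], [10, 4, 3, 5, 7, 10], [10, 6,
  3, 5, 7, 10], [2, 5, 1, 10, 7, 10], [10, 7, 2, 5, 6, 4, 10], [10, 7, 3, 5, 6, 4, 10]]

theorem W1_kp : W1.map kp = [47733, 31728, 21542, 8307, 19770, 9300, 86505, 85689, 50637, 83787, 35302, 25626, 3956, 43192, 50406, 24308,
  64788, 13002, 48668, 59406, 70300, 85243, 41138, 97606, 9275, 78608, 20921, 97085, 19958, 68089, 84564, 6183,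
  8624, 24268, 46217, 80948, 35610, 58254, 92609, 77634, 40437, 50501, 28340, 63966, 31862, 96749, 71571, 95681,
  82850, 11227, 30326, 14001, 75982, 95391, 97942, 4123, 79157, 81962, 42141, 20046, 30478, 5328, 76140, 77298,
  19882, 99102, 20703, 55621, 51630, 36473, 70651, 62909, 10067, 62328, 94448, 52520, 39029, 42853, 67141,
  62323, 81364, 7888, 81130, 85445, 81344, 11175, 981, 14392, 37062, 29260, 63663, 88730, 77682, 98352, 86005,
  48968, 72900, 94655, 79776, 27088, 62741, 90544, 17216, 61377, 44647, 4729, 39451, 95160, 29182, 10651, 82912,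
  46329, 5187, 58051, 99354, 45552, 51946, 37420, 88275, 32156] := by
  decide +kernel

theorem W1_nodup : (W1.map kp).Nodup := by rw [W1_kp]; decide +kernel

theorem S6_le : S6 ≤ centralizer {el 12} := gp_le fun i hi => mem_centralizer_singleton_iff.2 (by
  have k : ∀ i ∈ [1, 2, 3, 4, 5, 6], eqp (wC [i, 12]) (wC [12, i]) = true := by decide +kernel
  have := (ev_eq _ _).2 (k i hi)
  rwa [ev_cons, ev_one, ev_cons, ev_one] at this)

/-- the sign changes on the affine planes -/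
def VL : List (List ℕ) := [[], [13], [14], [13, 14], [16, 18], [13, 16, 18], [14, 16, 18], [13, 14, 16, 18]]

/-- the group of these sign changes -/
def VS : Set Y := ev '' {v | v ∈ VL}

instance : Finite VS := inferInstance

theorem B0_le : B0 ≤ normalizer VS := gp_le fun i hi => mem_normalizer_fintype (by
  rintro _ ⟨v, hv, rfl⟩
  have k : ∀ i ∈ [1, 2, 3, 4, 5, 10], ∀ v ∈ VL, ∃ u ∈ VL, eqp (wC u) (wC (i :: v ++ iw [i])) = true := by
    decide +kernel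
  obtain ⟨u, hu, e⟩ := k i hi v hv
  refine ⟨u, hu, ((ev_eq _ _).2 e).trans ?_⟩
  rw [ev_append, ev_cons, ev_iw, ev_one])

/-- `15` words -/
def W2 : List (List ℕ) := [[], [8], [9], [5, 8], [5, 9], [8, 5, 8], [9, 5, 8], [8, 5, 9], [9, 5, 9], [2, 5, 9], [3, 5, 9], [4, 8, 5, 8],
  [4, 9, 5, 8], [3, 8, 5, 9], [2, 9, 5, 9]]

/-- the conjugate of `v` lies outside -/
noncomputable def out (u w v : List ℕ) : Bool :=
  H14.force (wC (iw u ++ w ++ v ++ iw (iw u ++ w))) fun A => VL.all fun x => !eqp (wC x) A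

theorem W2_out : W2.Pairwise fun u w => out u w [13] = true ∨ out u w [14] = true := by decide +kernel

theorem out_spec {u w v : List ℕ} (hv : v ∈ VL) (h : out u w v = true) : (ev u)⁻¹ * ev w ∉ B0 := fun k => by
  obtain ⟨x, hx, e⟩ := (mem_set_normalizer_iff.1 (B0_le k) (ev v)).1 ⟨v, hv, rfl⟩
  simp only [out, H14.force_eq, List.all_eq_true, Bool.not_eq_true'] at h
  have := h x hx
  rw [(ev_eq _ _).1 (by rw [e, ev_append, ev_append, ev_iw, ev_append, ev_iw])] at this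
  exact absurd this (by decide)

end Crd2

theorem card_S6 : Nat.card S6 ≤ 1451520 := by
  have h := Crd2.cos_bound (H := S6) (L := KL) (gp_le fun i hi => el_mem_gp (by
    simp only [List.mem_cons, List.not_mem_nil, or_false] at hi ⊢; tauto)) Crd2.W1
    (fun w hw => ev_mem_gp ((by decide : ∀ w ∈ Crd2.W1, ∀ i ∈ w,
      i ∈ [1, 2, 3, 4, 5, 6, 10] ∨ Il.getD i 0 ∈ [1, 2, 3, 4, 5, 6, 10]) w hw))
    ((List.pairwise_map.1 Crd2.W1_nodup).imp fun {u w} hn k => hn (Crd2.kp_eq (by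
      have e := mem_centralizer_singleton_iff.1 (Crd2.S6_le k)
      calc ev u * el 12 * (ev u)⁻¹ = ev u * (el 12 * ((ev u)⁻¹ * ev w)) * (ev w)⁻¹ := by group
        _ = _ := by rw [← e]; group)))
  rw [card_KL, show Crd2.W1.length = 120 from rfl] at h
  omega

theorem card_N0 : 15 * Nat.card B0 ≤ Nat.card N0 :=
  Crd2.cos_bound (H := B0) (L := N0) (gp_le fun i hi => el_mem_gp (by
    simp only [List.mem_cons, List.not_mem_nil, or_false] at hi ⊢; tauto)) Crd2.W2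
    (fun w hw => ev_mem_gp ((by decide : ∀ w ∈ Crd2.W2, ∀ i ∈ w,
      i ∈ [1, 2, 3, 4, 5, 8, 10] ∨ Il.getD i 0 ∈ [1, 2, 3, 4, 5, 8, 10]) w hw))
    (Crd2.W2_out.imp fun h => h.elim (Crd2.out_spec (by decide)) (Crd2.out_spec (by decide)))

end Cfsg.Agent.P83
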