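import Cfsg.Agent.P83.Defs
import Cfsg.Agent.H96.OutK
import Cfsg.Agent.H96.OutT
import Cfsg.Agent.H39.WeylCard
import Cfsg.Agent.H78.TCHom

/-! The group `KO` is `O₈⁺(2)`. -/

set_option autoImplicit false
set_option maxRecDepth 100000

namespace Cfsg.Agent.P83

open Subgroup H97 H15 H11 CO1 CO2 QuadraticMap H4.GF

namespace Ent

open H14 H78 H96 H96.O22
open scoped commutatorElement

abbrev E7 : Enc (Fin 120) (nat_lit 120) (nat_lit 7) (nat_lit 128) := pE

/-- eight transvections -/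
def LE : List ℕ := [nat_lit 0xefdbaf4d7ab3f0dfbb6dee7cade8e39a964c78b0e08bb275cd36acd8af5a154a7968c19f766a6972a4b18f1afc45d568402ef9ea176e9c9d6ed8db4501e4305f0c28c56954b34f315241e89e203e79c1c6a68b187e64a89264801046385ac1a10a08641968a0608091, nat_lit 0xefdbaf0e7cb674dfa36f1d7ab4eebd9b2e4c75aa60bf9eec9b76a3d87d8aae1774a8b86f395cc972ae48b31a2c44708e9a7f5debca6e83509ed8a1358458b05e3d6b39aa948c4e9928386890a03e7a09c1300c982e5813568219105c386a81628d9200e42844854087, nat_lit 0xefdb5f4e79b170dfbadd6ebab4e8cfca3649dc70e06d7aedcdb6a0d8afb1854a74a8d05d8e6ba972a49e3b962a1870aca84ef92bc7731cb81f7c93466558d55f3d6ac56a8b407e99ea4468a2053f2239c3630c982ea590826d41106e1009a16284940e1900e0644680, nat_lit 0xefdbaf4e3cb9eddfbb86ccfab4e3d7872e4d18b359bf7aedcb76b04faf2aad4a74a8d0b13a6cc9759d488ee62c4870a0c07ec1ea84f263256e91ab442c98be5eb96ac3c754bc7699c362c5599324ad51c36407982e8d10b407c51a323848c28446880e182800608084, nat_lit 0xefdb1e1bbcb8d495bb6ec9dab4e8cf992e4eb8ba2f2d7b9beb76ac9c935aaf056aa8d09faddcc97bebc88ef4ca0870a0c07f7232d9ae9cb86ea48b466518b0c0b9e2ca749b284e9b2a446882c43e78ed8006a2902f7c4322609a981e3868c16283951219084064809b,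 nat_lit 0xdfdbaf4e77f8f0ef4f6ecd7174bbcedb2e44f89222e578bdcb660ad86958283dd4a8879efe6cc392a4c8051b54486b59409c4c73cd0e9c806f99ad767058a05eba12c56294a8c69826147810b03e788cb3668cdaba5ac947c48e901ef468c16a8488a01aaa5a91c0b8, nat_lit 0xeddfaf4e7cb8f0dfbb6ecd7ab4e8cf9afe4c78b0d8cb7aed3b7467e09b5a454b916d43b33abbf9729dd56eda944a0c574098ad4bc929d2238f19ab466ca11e39056ac7c65ea8745cb3970890a03ec07af36695184c94a9426488903a3868c16284880e0c2840c08080, nat_lit 0xef93adce7578c9dfb9d6cd709368cec32f6c789f600b7aef4992ec90a95b957a74a8d0353a6dbb52b8488f196a959aa0b77f85e9977b5cb88081a8346c98e65e322c356aa20f4fa52936688b363e78e98373de1c2e84a9448488d850386ae16284880e1af846808080]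
def wE : List (List ℕ) := [[6, 0, 4, 2, 6, 8, 6, 4, 2, 6, 0], [8], [4, 8, 4], [10, 8, 12, 14, 12, 10, 8], [12, 14, 16, 14, 12], [14, 16, 10, 14, 12, 16, 18, 20, 22, 20, 18, 16, 14, 12, 16, 10, 14], [24], [14, 18, 20, 22, 24, 26, 28, 26, 24, 22, 20, 18, 14]]

theorem validE : allL LE (valid (nat_lit 7) (nat_lit 128) (nat_lit 120)) = true := by decide +kernel

theorem liftE : CoxeterMatrix.E₈.IsLiftable fun i : Fin 8 => elP E7 LE i := fun i j => E7.pk_injective (by
  rw [E7.pk_pow, E7.pk_mul, pk_elP E7 validE, pk_elP E7 validE, E7.pk_one]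
  revert i j
  decide +kernel)

abbrev cs : CoxeterSystem CoxeterMatrix.E₈ CoxeterMatrix.E₈.Group := CoxeterMatrix.E₈.toCoxeterSystem

/-- the central involution -/
noncomputable def w0 : CoxeterMatrix.E₈.Group := ((List.finRange 8).map cs.simple).prod ^ 15

theorem map_w0 {A : Type*} [Monoid A] {s : Fin 8 → A} (h : CoxeterMatrix.E₈.IsLiftable s) :
    cs.lift ⟨s, h⟩ w0 = ((List.finRange 8).map s).prod ^ 15 := by
  rw [w0, map_pow, map_list_prod, List.map_map]
  exact congrArg (fun f => ((List.finRange 8).map f).prod ^ 15) (funext (cs.lift_apply_simple h))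

theorem exists_psi : ∃ ψ : CoxeterMatrix.E₈.Group →* O8p, Function.Surjective ψ ∧ ψ w0 = 1 := by
  obtain ⟨ι, -⟩ := H56.exists_hom H56.F2 (F := ZMod 2) rfl
  obtain ⟨φ, h⟩ := H56.model_iso ι finSumFinEquiv pE (H56.quadFormPlus_eq ι 4) pok p_ok card_O8p.le
  have hc : E7.IsChain (pcert.map LevCert.L) (E7.grp pgens) := h.chain
  let χ := cs.lift ⟨_, liftE⟩
  have h2 : ∀ i, χ (cs.simple i) = elP E7 LE i := cs.lift_apply_simple liftE
  have hr : χ.range = E7.grp pgens := by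
    refine le_antisymm ?_ (Enc.grp_le (Enc.inG_of_slpOK (gens := LE) wE (fun P hP => ?_) (by decide +kernel)))
    · rw [MonoidHom.range_eq_map, ← cs.subgroup_closure_range_simple, map_le_iff_le_comap, closure_le]
      rintro _ ⟨i, rfl⟩
      show χ (cs.simple i) ∈ E7.grp pgens
      rw [h2, hc.mem_iff_sift, pk_elP E7 validE]
      revert i
      decide +kernel
    · obtain ⟨i, rfl⟩ := (show ∀ P ∈ LE, ∃ i : Fin 8, nthD LE (idP (nat_lit 7) (nat_lit 120)) i = P by
        decide +kernel) P hP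
      exact ⟨_, ⟨_, h2 i⟩, pk_elP E7 validE i⟩
  obtain ⟨e⟩ := pmodel
  refine ⟨e.symm.toMonoidHom.comp (χ.codRestrict _ fun a => hr.le ⟨a, rfl⟩), e.symm.surjective.comp fun y => ?_,
    (map_eq_one_iff _ e.symm.injective).2 (Subtype.ext ((map_w0 liftE).trans (E7.pk_injective ?_)))⟩
  · obtain ⟨a, ha⟩ := hr.ge y.2
    exact ⟨a, Subtype.ext ha⟩
  · rw [E7.pk_pow, show (List.finRange 8).map (fun i : Fin 8 => elP E7 LE i) = (List.range 8).map (elP E7 LE) from rfl,
      pk_prod_elP E7 validE]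
    exact Eq.trans (by decide +kernel) E7.pk_one.symm

/-- conjugating words -/
def gw (i : Fin 8) : List ℕ := [[10, 2, 5, 6, 10], [5, 10], [5, 4, 10], [1, 10, 7, 10], [], [5, 10, 6, 10], [10], [6, 10]].getD i []

/-- the simple reflections -/
def sw (i : Fin 8) : List ℕ := gw i ++ 12 :: iw (gw i)

/-- the letters as even words in the simple reflections -/
def lw : List (ℕ × List (Fin 8 × Fin 8)) := [(1, [(6, 2)]), (2, [(7, 6), (0, 2), (3, 4), (5, 1), (3, 4), (2, 3), (0, 2), (1, 3), (4, 5), (6, 7), (6, 5), (4, 3), (2, 1), (3, 4), (5, 6), (5, 4), (3, 2), (1, 3), (4, 5), (2, 3), (0, 2), (1, 3), (4, 0), (2, 1), (3, 0), (2, 0)]), (3, [(3, 0), (2, 1), (3, 4), (3, 2), (1, 3), (2, 0)]), (4, [(7, 6), (5, 4), (3, 2), (1, 3), (4, 5), (6, 7), (5, 4), (3, 2), (1, 3), (4, 5), (4, 3), (2, 1), (3, 4), (3, 2), (1, 3), (2, 1)]), (5, [(2, 1), (3, 4), (5, 6), (1, 3), (4, 5), (3, 4), (1, 3), (2, 1)]), (6, [(6, 7)]), (10, [(3, 4), (5, 6), (7, 2), (3, 4), (5,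 6), (0, 2), (3, 4), (5, 1), (3, 4), (2, 3), (0, 2), (1, 3), (4, 5), (6, 7), (5, 3), (4, 2), (3, 0), (2, 1), (3, 4), (5, 6), (2, 3), (0, 2), (1, 3), (4, 5), (2, 1), (3, 4), (0, 2), (3, 0)])]

def rep (w : List ℕ) : ℕ → List ℕ
  | 0 => []
  | n + 1 => w ++ rep w n

theorem ev_rep (w : List ℕ) (n : ℕ) : ev (rep w n) = ev w ^ n := by
  induction n with
  | zero => rw [pow_zero]; rfl
  | succ n ih => rw [rep, ev_append, ih, pow_succ']

theorem dec_append (u w : List ℕ) : dec (wC (u ++ w)) = dec (wC u) * dec (wC w) := by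
  induction u with
  | nil => rw [show wC [] = ID from rfl, dec_ID, one_mul]; rfl
  | cons i u ih =>
    have k : ∀ w, dec (wC (i :: w)) = dec (mc i) * dec (wC w) := fun w => (mu_spec (has_el i).1 (has_ev w).1).2
    rw [List.cons_append, k, k, ih, mul_assoc]

theorem dec_rep (w : List ℕ) (n : ℕ) : dec (wC (rep w n)) = dec (wC w) ^ n := by
  induction n with
  | zero => rw [pow_zero]; exact dec_ID
  | succ n ih => rw [rep, dec_append, ih, pow_succ']

theorem rels : ∀ i j : Fin 8, wC (rep (sw i ++ sw j) (CoxeterMatrix.E₈ i j)) = ID := by decide +kernel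

theorem rel0 : wC (rep ((List.finRange 8).flatMap sw) 15) = NEG := by decide +kernel

theorem liftY : CoxeterMatrix.E₈.IsLiftable fun i => ev (sw i) := fun i j => by
  rw [← ev_append, ← ev_rep, ← ev_nil, ev_eq, rels]
  decide +kernel

theorem liftM : CoxeterMatrix.E₈.IsLiftable fun i => dec (wC (sw i)) := fun i j => by
  rw [← dec_append, ← dec_rep, rels, dec_ID]

theorem ev_flat {α : Type*} (f : α → List ℕ) (l : List α) : ev (l.flatMap f) = (l.map fun a => ev (f a)).prod := by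
  induction l with
  | nil => rfl
  | cons a l ih => rw [List.flatMap_cons, ev_append, ih, List.map_cons, List.prod_cons]

theorem w0_ne : w0 ≠ 1 := fun e => by
  have h := map_w0 liftM
  have k : ∀ l : List (Fin 8), (l.map fun i => dec (wC (sw i))).prod = dec (wC (l.flatMap sw)) := fun l => by
    induction l with
    | nil => exact dec_ID.symm
    | cons a l ih => rw [List.flatMap_cons, dec_append, ← ih, List.map_cons, List.prod_cons]
  rw [e, map_one, k, ← dec_rep, rel0, dec_NEG] at h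
  exact absurd (congrFun (congrFun h 0) 0) (by decide)

theorem KL_le : KL ≤ KO := gp_le fun i hi => el_mem_gp (by revert i; decide)

theorem o_sq : el 12 * el 12 = 1 := by
  have := (ev_eq [12, 12] []).2 (by decide +kernel)
  rwa [ev_cons, ev_one] at this

theorem gw_mem (i : Fin 8) : ev (gw i) ∈ KO := ev_mem_gp (by revert i; decide)

theorem ev_sw (i : Fin 8) : ev (sw i) = ev (gw i) * el 12 * (ev (gw i))⁻¹ := by
  rw [sw, ev_append, ev_cons, ev_iw, mul_assoc]

theorem KL_le_of {H : Subgroup Y} (h : ∀ i j, ev (sw i) * ev (sw j) ∈ H) : KL ≤ H := gp_le fun i hi => by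
  obtain ⟨p, hp, rfl⟩ := (by decide : ∀ i ∈ [1, 2, 3, 4, 5, 6, 10], ∃ p ∈ lw, p.1 = i) i hi
  rw [← ev_one, (ev_eq _ _).2 ((by decide +kernel : ∀ p ∈ lw,
    eqp (wC [p.1]) (wC (p.2.flatMap fun q => sw q.1 ++ sw q.2)) = true) p hp), ev_flat]
  refine H.list_prod_mem fun x hx => ?_
  obtain ⟨q, -, rfl⟩ := List.mem_map.1 hx
  exact ev_append _ _ ▸ h _ _

theorem conj_mem {G : Type*} [Group G] {o x : G} {H : Subgroup G} (h : o * o = 1) :
    x ∈ H.comap (MulAut.conj o).toMonoidHom ↔ o * x * o ∈ H := by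
  rw [mem_comap, MulEquiv.coe_toMonoidHom, MulAut.conj_apply, inv_eq_of_mul_eq_one_right h]

theorem o_conj {x : Y} (hx : x ∈ KL) : el 12 * x * el 12 ∈ KL := by
  refine (conj_mem o_sq).1 (gp_le (fun i hi => (conj_mem o_sq).2 ?_) hx)
  obtain ⟨w, hw, h, h'⟩ := (by decide +kernel : ∀ i ∈ [1, 2, 3, 4, 5, 6, 10],
    ∃ w ∈ [[i], [4, 3, 10, 1, 3, 10, 4, 10]], eqp (wC [12, i, 12]) (wC w) = true ∧
      ∀ j ∈ w, j ∈ [1, 2, 3, 4, 5, 6, 10] ∨ Il.getD j 0 ∈ [1, 2, 3, 4, 5, 6, 10]) i hi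
  have h1 := (ev_eq _ _).2 h
  rw [ev_cons, ev_cons, ev_one, ← mul_assoc] at h1
  rw [h1]
  exact ev_mem_gp h'

theorem comm_KO : ⁅KO, KO⁆ = KL := by
  have o : el 12 ∈ KO := el_mem_gp (by decide)
  have c : ∀ x, el 12 * (el 12 * x) = x := fun x => by rw [← mul_assoc, o_sq, one_mul]
  refine le_antisymm ?_ (KL_le_of fun i j => ?_)
  · let M : Subgroup Y :=
      { carrier := {g | g ∈ KL ∨ g * el 12 ∈ KL}
        one_mem' := .inl (one_mem _)
        mul_mem' := by
          rintro g k (a | a) (b | b)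
          · exact .inl (mul_mem a b)
          · exact .inr (mul_assoc g _ _ ▸ mul_mem a b)
          · exact .inr (by simpa only [mul_assoc, c] using mul_mem a (o_conj b))
          · exact .inl (by simpa only [mul_assoc, c, o_sq, mul_one] using mul_mem a (o_conj b))
        inv_mem' := by
          rintro g (a | a)
          · exact .inl (inv_mem a)
          · exact .inr (by simpa only [mul_inv_rev, mul_assoc, mul_inv_cancel_left] using o_conj (inv_mem a)) }
    have h1 : KO ≤ M := gp_le fun i hi => by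
      rcases (by decide : ∀ i ∈ [1, 2, 3, 4, 5, 6, 10, 12], i ∈ [1, 2, 3, 4, 5, 6, 10] ∨ i = 12) i hi with h | rfl
      exacts [.inl (el_mem_gp h), .inr (o_sq ▸ one_mem _)]
    have h2 : ∀ g ∈ KO, g * g ∈ KL := fun g hg => (h1 hg).elim (fun a => mul_mem a a) fun a => by
      simpa only [mul_assoc, c, o_sq, mul_one] using mul_mem a (o_conj a)
    refine commutator_le.2 fun a ha b hb => ?_
    rw [show ⁅a, b⁆ = a * a * (a⁻¹ * b * (a⁻¹ * b)) * (b⁻¹ * b⁻¹) by simp only [commutatorElement_def]; group]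
    exact mul_mem (mul_mem (h2 _ ha) (h2 _ (mul_mem (inv_mem ha) hb))) (h2 _ (inv_mem hb))
  · have := mul_mem (commutator_mem_commutator (gw_mem i) o) (commutator_mem_commutator o (gw_mem j))
    rw [ev_sw, ev_sw]
    simpa only [commutatorElement_def, mul_assoc, inv_mul_cancel_left, inv_eq_of_mul_eq_one_right o_sq, c] using this

end Ent

open Ent in
theorem exists_beta : ∃ β : H96.O8p →* Y, Function.Injective β ∧ β.range = KO ∧
    (commutator H96.O8p).map β = KL := by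
  let χ := cs.lift ⟨_, liftY⟩
  have h2 : ∀ i, χ (cs.simple i) = ev (sw i) := cs.lift_apply_simple liftY
  obtain ⟨ψ, hψ, h0⟩ := exists_psi
  have hk : Nat.card ψ.ker = 2 := by
    have := card_eq_card_quotient_mul_card_subgroup ψ.ker
    rw [H39.card_W_E8, Nat.card_congr (QuotientGroup.quotientKerEquivOfSurjective ψ hψ).toEquiv, H96.card_O8p] at this
    omega
  have hle : ψ.ker ≤ χ.ker := fun a ha => by
    obtain ⟨w, -, hw⟩ := (Nat.card_eq_two_iff' (1 : ψ.ker)).1 hk
    by_cases c : a = 1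
    · exact c ▸ one_mem _
    obtain rfl : a = w0 := congrArg Subtype.val ((hw ⟨a, ha⟩ fun t => c (congrArg Subtype.val t)).trans
      (hw ⟨w0, h0⟩ fun t => w0_ne (congrArg Subtype.val t)).symm)
    refine (map_w0 liftY).trans ?_
    rw [← ev_flat, ← ev_rep, ← ev_nil, ev_eq, rel0]
    decide +kernel
  let β := ψ.liftOfSurjective hψ ⟨χ, hle⟩
  have h3 : ∀ a, β (ψ a) = χ a := fun a => ψ.liftOfRightInverse_comp_apply _ _ ⟨χ, hle⟩ _
  have h4 : ∀ i, ev (sw i) ∈ β.range := fun i => ⟨_, (h3 _).trans (h2 i)⟩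
  have hr : β.range = KO := by
    refine le_antisymm ?_ (gp_le fun i hi => ?_)
    · rintro _ ⟨a, rfl⟩
      obtain ⟨a, rfl⟩ := hψ a
      have : ⊤ ≤ KO.comap χ := by
        rw [← cs.subgroup_closure_range_simple, closure_le]
        rintro _ ⟨i, rfl⟩
        show χ (cs.simple i) ∈ KO
        rw [h2]
        exact ev_mem_gp (by revert i; decide)
      exact h3 a ▸ this (mem_top a)
    · rcases (by decide : ∀ i ∈ [1, 2, 3, 4, 5, 6, 10, 12], i ∈ [1, 2, 3, 4, 5, 6, 10] ∨ i = 12) i hi with h | rfl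
      · exact KL_le_of (fun i j => mul_mem (h4 i) (h4 j)) (el_mem_gp h)
      · exact ev_one 12 ▸ h4 4
  have hc : (commutator H96.O8p).map β = KL := by
    rw [_root_.commutator_def, map_commutator, ← MonoidHom.range_eq_map, hr, comm_KO]
  refine ⟨β, β.ker_eq_bot_iff.1 ((H96.normal_O8p β.ker).resolve_right fun e => ?_), hr, hc⟩
  have := ((Subgroup.map_eq_bot_iff _).2 e).le (hc.ge (el_mem_gp (i := 1) (by decide)))
  rw [mem_bot, ← ev_one, ← ev_nil, ev_eq] at this
  exact absurd this (by decide +kernel)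

end Cfsg.Agent.P83
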