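import Cfsg.Agent.P83.BaseQ

/-! The normal 2-subgroups of `C(z)` in the model. -/

set_option autoImplicit false

namespace Cfsg.Agent.P83

open Subgroup H97 H15 H11 CO1 CO2 QuadraticMap H4.GF

namespace MD

theorem out : ∀ k < 16, k ≠ 0 → ∃ d ∈ [23, 25, 27], ∀ j < 16, ¬ ∀ i < 8,
    H14.app 8 256 (mmn (cc d) (mmn I8 (cW (aL k)))) i = H14.app 8 256 (mmn (mmn I8 (cW (aL j))) (cc d)) i := by
  decide +kernel

theorem aL_nq : ∀ k < 16, ∀ i ∈ aL k, i ∈ nq := by decide +kernel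

/-- the distance to the code `1` -/
def rk (c : ℕ) : ℕ := (0x433436633663322333335533553333223434636363632424333333333333332345544554333332235544554433333322545454543333232322222222222222223663433436633223553333335533332263633535636324244443443444433424222222222222222211111111111111113333333333332323554256434441120f >>> (4 * c)) % 16

theorem down : ∀ c < 256, c ≠ 0 → c = 1 ∨ (∃ i ∈ [23, 25, 27, 29, 30, 31], rk (apn (cc i) c) < rk c) ∨
    rk (c ^^^ apn (cc 29) (apn (cc 30) c)) < rk c := by decide +kernel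

theorem up : ∀ i < 8, ∃ w ∈ [[], [27], [29], [29, 27], [27, 25], [25], [29, 27, 23], [29, 23]],
    apn (cW w) 1 = 2 ^ i := by decide +kernel

theorem gn : ∀ i ∈ [23, 25, 27, 29, 30, 31], i ∈ nq ∧ el i ∈ C1 := fun i hi =>
  ⟨by revert i; decide, mem_C1 i (by revert i; decide)⟩

theorem act {x : Y} (hx : x ∈ T1) : ∃ k < 16, ActQ x (mmn I8 (cW (aL k))) ∧ (k = 0 → x ∈ Q0) := by
  obtain ⟨q, hq, k, hk, rfl⟩ := mem_T1.1 hx
  refine ⟨k, hk, (actQ_Q0 hq).mul (T1_le_Cz (T0_le_T1 (Q0_le_T0 hq))) (actQ_ev (aL_nq k hk)), ?_⟩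
  rintro rfl
  exact mul_mem hq (one_mem _)

end MD

open MD in
theorem core_T1 {P : Subgroup Y} (h1 : P ≤ T1) (hz : el 13 ∈ P) (hn : ∀ c ∈ C1, ∀ x ∈ P, c * x * c⁻¹ ∈ P) :
    (∀ x ∈ P, x = 1 ∨ x = el 13) ∨ P = Q0 := by
  have le : P ≤ Q0 := fun x hx => by
    obtain ⟨k, hk, a, e⟩ := act (h1 hx)
    refine e (by_contra fun k0 => ?_)
    obtain ⟨d, hd, n⟩ := out k hk k0
    obtain ⟨d1, d2⟩ := gn d (by clear n; revert d; decide)
    obtain ⟨j, hj, b, -⟩ := act (h1 (hn _ d2 x hx))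
    have := b.mul (T1_le_Cz (h1 (hn _ d2 x hx))) (actQ_el d d1)
    rw [inv_mul_cancel_right] at this
    exact n j hj (((actQ_el d d1).mul (nq_Cz d d1) a).uniq this)
  have z : ∀ {x c}, x ∈ P → x = qw c ∨ x = el 13 * qw c → qw c ∈ P := fun hx e =>
    e.elim (fun e => e ▸ hx) fun e => (mul_mem_cancel_left hz).1 (e ▸ hx)
  have cw : ∀ w : List ℕ, (∀ i ∈ w, i ∈ [23, 25, 27, 29, 30, 31]) → ∀ c < 256, qw c ∈ P → qw (apn (cW w) c) ∈ P :=
    fun w hw c hc h => z (hn _ (ev_mem fun i hi => (gn i (hw i hi)).2) _ h)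
      ((actQ_ev fun i hi => (gn i (hw i hi)).1).conj (ev_mem fun i hi => nq_Cz i (gn i (hw i hi)).1) hc)
  have cl : ∀ i ∈ [23, 25, 27, 29, 30, 31], ∀ c < 256, qw c ∈ P → qw (apn (cc i) c) ∈ P := fun i hi c hc h =>
    z (hn _ (gn i hi).2 _ h) ((actQ_el i (gn i hi).1).conj (nq_Cz i (gn i hi).1) hc)
  have key : ∀ n c, rk c = n → c < 256 → rk c < rk 0 → qw c ∈ P → qw 1 ∈ P := fun n => by
    induction n using Nat.strong_induction_on with
    | _ n ih =>
    rintro c rfl hc c0 h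
    rcases down c hc (fun e => by rw [e] at c0; omega) with rfl | ⟨i, hi, r⟩ | r
    · exact h
    · exact ih _ r _ rfl (apn_lt _ _) (r.trans c0) (cl i hi c hc h)
    · exact ih _ r _ rfl (Nat.xor_lt_two_pow (n := 8) hc (apn_lt _ _)) (r.trans c0) (z (mul_mem h
        (cl 29 (by decide) _ (apn_lt _ _) (cl 30 (by decide) c hc h))) (qw_mul hc (apn_lt _ _)))
  refine (em _).imp_right fun n => le_antisymm le (gp_le fun i hi => ?_)
  push Not at n
  obtain ⟨x, hx, x1, x2⟩ := n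
  obtain ⟨c, hc, e⟩ := mem_Q0.1 (le hx)
  have c0 : c ≠ 0 := by
    rintro rfl
    rw [qw_zero, mul_one] at e
    exact e.elim x1 x2
  have := key _ c rfl hc (by clear e; revert c; decide +kernel) (z hx e)
  obtain ⟨j, hj, rfl⟩ : ∃ j < 8, i = 15 + j := by revert i; decide
  obtain ⟨w, hw, e⟩ := up j hj
  rw [← qw_pow hj, ← e]
  exact cw w (by clear e; revert w; decide) 1 (by decide) this

end Cfsg.Agent.P83
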