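import Cfsg.Agent.P83.BaseG
import Cfsg.Agent.P83.ModD

/-! Coordinates on the large extraspecial subgroup. -/

set_option autoImplicit false

namespace Cfsg.Agent.P83

open Subgroup H97 H15 H11 CO1 CO2 QuadraticMap H4.GF

variable {G : Type*} [Group G] [Finite G] {φ ψ ν : Y → G} {K : Subgroup Y} {bd : ℕ} {π : G → V8} {ρ : G → OG Q8}

omit [Finite G] in
theorem frm_cx {z : G} (mem : z ∈ Oz z) (ne : z ≠ 1) (zz : z * z = 1) (le : Oz z ≤ Cz z)
    (large : ∀ g, (∀ a ∈ Oz z, g * a = a * g) → g = 1 ∨ g = z)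
    (norm : ∀ g ∈ Cz z, ∀ a ∈ Oz z, g * a * g⁻¹ ∈ Oz z)
    (add : ∀ a ∈ Oz z, ∀ b ∈ Oz z, π (a * b) = π a + π b) (ker : ∀ a ∈ Oz z, π a = 0 ↔ a = 1 ∨ a = z)
    (surj : ∀ v, ∃ a ∈ Oz z, π a = v) (sq : ∀ a ∈ Oz z, a * a = zp z (Q8 (π a))) : ∃ ρ, Cx Q8 z π ρ := by
  have zc : ∀ {c}, c ∈ Cz z → ∀ s, c * zp z s = zp z s * c := fun hc s =>
    ((Commute.pow_right (mem_Cz.1 hc) _).eq)
  have p1 : π 1 = 0 := (ker 1 (one_mem _)).2 (Or.inl rfl)
  have pz : π z = 0 := (ker z mem).2 (Or.inr rfl)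
  have pinv : ∀ a ∈ Oz z, π a⁻¹ = π a := fun a ha => by
    rw [← vadd_eq_zero, ← add _ (inv_mem ha) _ ha, inv_mul_cancel, p1]
  have eqor : ∀ a ∈ Oz z, ∀ b ∈ Oz z, π a = π b → b = a ∨ b = z * a := fun a ha b hb e =>
    ((ker (b * a⁻¹) (mul_mem hb (inv_mem ha))).1 (by rw [add _ hb _ (inv_mem ha), pinv a ha, e, vadd_self])).imp
      mul_inv_eq_one.1 mul_inv_eq_iff_eq_mul.1
  have conj : ∀ a ∈ Oz z, ∀ b ∈ Oz z, a * b * a⁻¹ = zp z (polar Q8 (π a) (π b)) * b := fun a ha b hb => by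
    have e := sq _ (mul_mem ha hb)
    rw [add a ha b hb, Q_add, zp_add zz, zp_add zz, ← sq a ha, ← sq b hb] at e
    have e2 : b * (a * a) = a * a * b := by rw [sq a ha, zc (le hb)]
    have e3 := zc (le (mul_mem (mul_mem ha ha) (mul_mem hb hb))) (polar Q8 (π a) (π b))
    calc a * b * a⁻¹ = a * b * (a * b) * (b⁻¹ * (a * a)⁻¹) := by group
      _ = zp z (polar Q8 (π a) (π b)) * (b * (a * a) * b) * (b⁻¹ * (a * a)⁻¹) := by
        rw [e, e3, e2]; group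
      _ = _ := by group
  have lx : LX (Oz z) z := by
    refine ⟨mem, ne, zz, fun a ha => mem_Cz.1 (le ha), fun a ha b hb => ?_, fun a ha => ?_, large,
      fun g hg => norm g (mem_Cz.2 hg), fun M hM hzM a ha haM => ?_⟩
    · rw [conj a ha b hb]
      rcases CO1.z2 (polar Q8 (π a) (π b)) with e | e <;> simp [e]
    · rw [sq a ha]
      rcases CO1.z2 (Q8 (π a)) with e | e <;> simp [e]
    · let W : AddSubgroup V8 :=
        { carrier := π '' M
          zero_mem' := ⟨1, one_mem _, p1⟩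
          add_mem' := by
            rintro _ _ ⟨m, hm, rfl⟩ ⟨n, hn, rfl⟩
            exact ⟨m * n, mul_mem hm hn, add m (hM hm) n (hM hn)⟩
          neg_mem' := by
            rintro _ hm
            rwa [vneg] }
      have hnot : π a ∉ AddSubgroup.toZModSubmodule 2 W := by
        rintro ⟨m, hm, e⟩
        rcases eqor m (hM hm) a ha e with rfl | rfl
        exacts [haM hm, haM (mul_mem hzM hm)]
      rw [← LinearMap.BilinForm.orthogonal_orthogonal (nd_qPlus (ZMod 2) 4).nondegenerate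
        (fun x y e => (polar_comm _ _ _).trans e) (AddSubgroup.toZModSubmodule 2 W),
        LinearMap.BilinForm.mem_orthogonal_iff] at hnot
      push Not at hnot
      obtain ⟨v, hv, hva⟩ := hnot
      obtain ⟨b, hb, rfl⟩ := surj v
      refine ⟨b, hb, fun m hm => mul_inv_eq_iff_eq_mul.1 ?_, ?_⟩
      · rw [conj b hb m (hM hm), polar_comm, show polar Q8 (π m) (π b) = 0 from hv _ ⟨m, hm, rfl⟩, CO1.zp_zero,
          one_mul]
      · rw [conj b hb a ha, z2_ne0.1 (show polar Q8 (π b) (π a) ≠ 0 from hva), CO1.zp_one]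
  have key : ∀ c, ∃ g : OG Q8, c ∈ Cz z → ∀ a ∈ Oz z, π (c * a * c⁻¹) = ap g (π a) := fun c => by
    by_cases hc : c ∈ Cz z
    swap
    · exact ⟨1, fun e => absurd e hc⟩
    choose σ hσ eσ using surj
    have wd : ∀ a ∈ Oz z, π (c * σ (π a) * c⁻¹) = π (c * a * c⁻¹) := fun a ha => by
      rcases eqor a ha _ (hσ _) (eσ _).symm with e | e <;> rw [e]
      rw [show c * (z * a) * c⁻¹ = c * z * c⁻¹ * (c * a * c⁻¹) by group, conj_eq_of_Cz hc,
        add _ mem _ (norm c hc a ha), pz, zero_add]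
    obtain ⟨g, hg⟩ := bv_mk (fun v => π (c * σ v * c⁻¹)) (fun x y => by
        rw [← add _ (norm c hc _ (hσ x)) _ (norm c hc _ (hσ y)), ← eσ x, ← eσ y, ← add _ (hσ x) _ (hσ y),
          wd _ (mul_mem (hσ x) (hσ y)), eσ, eσ]
        congr 1
        group)
      (fun x hx => by
        rw [← eσ x]
        rcases (ker _ (norm c hc _ (hσ x))).1 hx with e | e
        · rw [conj_eq_one_iff.1 e, p1]
        · rw [mul_left_cancel (mul_right_cancel (e.trans (conj_eq_of_Cz hc).symm)), pz])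
      fun x => zp_inj ne (by
        rw [← sq _ (norm c hc _ (hσ x)), conj_mul, sq _ (hσ x), eσ, zc hc, mul_inv_cancel_right])
    exact ⟨g, fun _ a ha => by rw [hg, wd a ha]⟩
  choose ρ hρ using key
  exact ⟨ρ, lx, add, ker, surj, sq, hρ⟩

theorem frm_oz (h : H1 φ K bd) (g : G) : g ∈ Oz (φ (el 13)) ↔ ∃ x ∈ Q0, φ x = g := by
  haveI : Fact (Nat.Prime 2) := ⟨Nat.prime_two⟩
  have h0 := h.h0
  have CK : C1 ≤ K := C1_le_KL.trans h0.le
  have QK : Q0 ≤ K := Q0_le_T0.trans (T0_le_C1.trans CK)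
  have QC : ∀ x ∈ Q0, φ x ∈ Cz (φ (el 13)) := fun x hx =>
    h0.cz (QK hx) (T1_le_Cz (T0_le_T1 (Q0_le_T0 hx)))
  have ge : ∀ x ∈ Q0, φ x ∈ Oz (φ (el 13)) := fun x hx => by
    have hP : IsPGroup 2 ((h0.mul.mono QK).hom.range.subgroupOf (Cz (φ (el 13)))) :=
      (((IsPGroup.of_card (n := 9) card_Q0).of_surjective _
        (h0.mul.mono QK).hom.rangeRestrict_surjective)).comap_subtype
    have hN : ((h0.mul.mono QK).hom.range.subgroupOf (Cz (φ (el 13)))).Normal := ⟨by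
      rintro ⟨_, hn⟩ ⟨y, rfl⟩ c
      obtain ⟨w, hw, e⟩ := h.norm c c.2 y y.2
      exact ⟨⟨w, hw⟩, e.symm⟩⟩
    exact ⟨⟨φ x, QC x hx⟩, H44.le_pCore hN hP ⟨⟨x, hx⟩, rfl⟩, rfl⟩
  refine ⟨fun hg => ?_, by rintro ⟨x, hx, rfl⟩; exact ge x hx⟩
  obtain ⟨T, -, hT⟩ := h0.exists_T
  have nz : ∀ c ∈ Cz (φ (el 13)), ∀ a ∈ Oz (φ (el 13)), c * a * c⁻¹ ∈ Oz (φ (el 13)) := by
    rintro c hc _ ⟨a, ha, rfl⟩
    exact ⟨_, (inferInstance : (pCore 2 (Cz (φ (el 13)))).Normal).conj_mem a ha ⟨c, hc⟩, rfl⟩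
  have OT : Oz (φ (el 13)) ≤ T := by
    have hn : (T : Subgroup G) ≤ normalizer (Oz (φ (el 13)) : Set G) := fun t ht => by
      obtain ⟨x, hx, hk, rfl⟩ := (hT t).1 ht
      exact mem_normalizer_fintype (nz _ (h0.cz hk (T1_le_Cz hx)))
    have hp : IsPGroup 2 (Oz (φ (el 13))) := H44.pCore_isPGroup.map _
    exact le_sup_left.trans (T.is_maximal' (hp.to_sup_of_normal_left' T.isPGroup' hn) le_sup_right).le
  let P : Subgroup Y := ((Oz (φ (el 13))).comap h0.mul.hom).map K.subtype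
  have mP : ∀ x, x ∈ P ↔ x ∈ K ∧ φ x ∈ Oz (φ (el 13)) := fun x =>
    ⟨by rintro ⟨y, hy, rfl⟩; exact ⟨y.2, hy⟩, fun hx => ⟨⟨x, hx.1⟩, hx.2, rfl⟩⟩
  rcases core_T1 (P := P) (fun x hx => by
      obtain ⟨y, hy, hk, e⟩ := (hT _).1 (OT ((mP x).1 hx).2)
      exact h0.injOn hk ((mP x).1 hx).1 e ▸ hy) ((mP _).2 ⟨QK z_mem, ge _ z_mem⟩) (fun c hc x hx => by
      obtain ⟨hk, ho⟩ := (mP x).1 hx
      refine (mP _).2 ⟨mul_mem (mul_mem (CK hc) hk) (inv_mem (CK hc)), ?_⟩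
      rw [h0.mul.conj (CK hc) hk]
      exact nz _ (h0.cz (CK hc) (C0_le_Cz (C1_le_C0 hc))) _ ho) with e | e
  · exact absurd (qw_inj (c := 1) (d := 0) (by norm_num) (by norm_num) (by
      rw [qw_zero, mul_one]
      exact e _ ((mP _).2 ⟨QK (qw_mem 1), ge _ (qw_mem 1)⟩))) one_ne_zero
  · obtain ⟨y, -, hk, rfl⟩ := (hT _).1 (OT hg)
    exact ⟨y, e ▸ (mP y).2 ⟨hk, hg⟩, rfl⟩

theorem H1.fr (h : H1 φ K bd) : ∃ π ρ, Fr φ K bd π ρ := by
  classical
  have h0 := h.h0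
  have oz := frm_oz h
  have QK : Q0 ≤ K := Q0_le_T0.trans (T0_le_C1.trans (C1_le_KL.trans h0.le))
  have zc : ∀ x ∈ Q0, x * el 13 = el 13 * x := fun x hx => mem_Cz.1 (T1_le_Cz (T0_le_T1 (Q0_le_T0 hx)))
  have zz : ∀ x : Y, el 13 * (el 13 * x) = x := fun x => by rw [← mul_assoc, z_sq, one_mul]
  obtain ⟨π, hπ⟩ : ∃ π : G → V8, ∀ c < 256, ∀ x, x = qw c ∨ x = el 13 * qw c → π (φ x) = dc8 c := by
    refine ⟨fun g => if e : ∃ c < 256, ∃ x, (x = qw c ∨ x = el 13 * qw c) ∧ φ x = g then dc8 e.choose else 0,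
      fun c hc x hx => ?_⟩
    have e : ∃ c < 256, ∃ y, (y = qw c ∨ y = el 13 * qw c) ∧ φ y = φ x := ⟨c, hc, x, hx, rfl⟩
    obtain ⟨hd, y, hy, e'⟩ := e.choose_spec
    simp only [dif_pos e]
    generalize e.choose = d at hd hy
    refine congrArg dc8 ?_
    obtain rfl := h0.injOn (QK (mem_Q0.2 ⟨_, hd, hy⟩)) (QK (mem_Q0.2 ⟨_, hc, hx⟩)) e'
    refine qw_inj hd hc ?_
    rcases hy with a | a <;> rcases hx with b | b
    exacts [Or.inl (a.symm.trans b), Or.inr (a.symm.trans b), Or.inr (by rw [← b, a, zz]),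
      Or.inl (mul_left_cancel (a.symm.trans b))]
  have rep : ∀ a ∈ Oz (φ (el 13)), ∃ c < 256, ∃ x, (x = qw c ∨ x = el 13 * qw c) ∧ x ∈ Q0 ∧ φ x = a :=
    fun a ha => let ⟨x, hx, e⟩ := (oz a).1 ha; let ⟨c, hc, e'⟩ := mem_Q0.1 hx; ⟨c, hc, x, e', hx, e⟩
  have zz' : φ (el 13) * φ (el 13) = 1 := by rw [← h0.mul _ (QK z_mem) _ (QK z_mem), z_sq, h0.mul.one]
  obtain ⟨ρ, hρ⟩ := frm_cx (π := π) (z := φ (el 13)) ((oz _).2 ⟨_, z_mem, rfl⟩)
    (fun e => z_ne (h0.inj _ (QK z_mem) e)) zz'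
    (fun a ha => by
      obtain ⟨x, hx, rfl⟩ := (oz a).1 ha
      exact h0.cz (QK hx) (mem_Cz.2 (zc x hx)))
    (fun g hg => h.large g fun x hx => hg _ ((oz _).2 ⟨x, hx, rfl⟩))
    (fun g hg a ha => by
      obtain ⟨x, hx, rfl⟩ := (oz a).1 ha
      obtain ⟨y, hy, e⟩ := h.norm g hg x hx
      exact (oz _).2 ⟨y, hy, e.symm⟩)
    (fun a ha b hb => by
      obtain ⟨c, hc, x, ex, hx, rfl⟩ := rep a ha
      obtain ⟨d, hd, y, ey, hy, rfl⟩ := rep b hb
      rw [← h0.mul x (QK hx) y (QK hy), hπ c hc x ex, hπ d hd y ey, ← cd_dc8.xor]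
      refine hπ _ (Nat.xor_lt_two_pow (n := 8) hc hd) _ ?_
      have e1 : qw c * (el 13 * qw d) = el 13 * (qw c * qw d) := by
        rw [← mul_assoc, zc _ (qw_mem c), mul_assoc]
      rcases ex with rfl | rfl <;> rcases ey with rfl | rfl <;> rcases qw_mul hc hd with e | e <;>
        simp only [mul_assoc, e1, zz, e, true_or, or_true])
    (fun a ha => by
      obtain ⟨c, hc, x, ex, hx, rfl⟩ := rep a ha
      rw [hπ c hc x ex]
      constructor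
      · intro e
        obtain rfl := cd_dc8.inj _ hc 0 (by norm_num) (e.trans cd_dc8.zero.symm)
        rw [qw_zero, mul_one] at ex
        exact ex.imp (fun e => by rw [e, h0.mul.one]) fun e => by rw [e]
      · intro e
        rw [← hπ c hc x ex, ← cd_dc8.zero]
        refine hπ 0 (by norm_num) x ?_
        rw [qw_zero, mul_one]
        exact e.imp (h0.inj x (QK hx)) (h0.injOn (QK hx) (QK z_mem)))
    (fun v => by
      obtain ⟨c, hc, rfl⟩ := cd_dc8.surj v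
      exact ⟨_, (oz _).2 ⟨_, qw_mem c, rfl⟩, hπ c hc _ (Or.inl rfl)⟩)
    (fun a ha => by
      obtain ⟨c, hc, x, ex, hx, rfl⟩ := rep a ha
      have e : x * x = qw c * qw c := by
        rcases ex with rfl | rfl
        · rfl
        · rw [mul_assoc, ← mul_assoc (qw c), zc _ (qw_mem c), mul_assoc, zz]
      rw [← h0.mul x (QK hx) x (QK hx), hπ c hc x ex, cd_dc8.q c hc, e, qw_sq hc]
      cases M8.testBit c
      · rw [if_neg Bool.false_ne_true, bz0.2 rfl, CO1.zp_zero, h0.mul.one]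
      · rw [if_pos rfl, bz1.2 rfl, CO1.zp_one])
  exact ⟨π, ρ, h0, hρ, oz, fun c hc => hπ c hc _ (Or.inl rfl)⟩

end Cfsg.Agent.P83
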