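import Cfsg.Agent.P83.Defs
import Cfsg.Agent.H78.TCHom

/-! Graphs of homomorphisms on the subgroups of the model. -/

set_option autoImplicit false

namespace Cfsg.Agent.P83

open Subgroup H97 H15 H11 CO1 CO2 H58

variable {G : Type*} [Group G]

/-- the inverse letters of the enumerations -/
def ivP : ℕ := 823332629626907009088

/-- the pairs of letters -/
noncomputable def pr (g : ℕ → G) (i : ℕ) : Y × G := if i < 12 then (el i, g i) else 1

/-- the subgroup generated by pairs of letters -/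
noncomputable def gr (g : ℕ → G) (l : List ℕ) : Subgroup (Y × G) := closure (pr g '' {x | x ∈ l})

theorem pr_mem {g : ℕ → G} {l : List ℕ} {i : ℕ} (h : i ∈ l) (hi : i < 12) : (el i, g i) ∈ gr g l :=
  subset_closure ⟨i, h, if_pos hi⟩

theorem el_zero : el 0 = 1 := (ev_one 0).symm.trans ((ev_eq [0] []).2 (by decide +kernel))

theorem rule_pr {g : ℕ → G} {rels : List (List ℕ)} (h0 : g 0 = 1)
    (hinv : ∀ x < 12, g (Il.getD x 0) = (g x)⁻¹) (hrel : ∀ r ∈ rels, (r.map g).prod = 1)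
    (hev : ∀ r ∈ rels, eqp (wC r) (wC []) = true) (hlt : ∀ r ∈ rels, ∀ x ∈ r, x < 12) :
    RuleOK (pr g) rels ivP := by
  have k1 : ∀ x < 12, ivf ivP x = Il.getD x 0 ∧ Il.getD x 0 < 12 := by decide +kernel
  have k2 : ∀ x < 64, ¬ x < 12 → ivf ivP x = 0 := by decide +kernel
  have p0 : pr g 0 = 1 := by rw [pr, if_pos (by decide), el_zero, h0]; rfl
  refine ⟨p0, fun x hx => ?_, fun r hr => ?_, ?_⟩
  · by_cases h : x < 12
    · rw [(k1 x h).1, pr, pr, if_pos h, if_pos (k1 x h).2, ← el_inv, hinv x h]; rfl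
    · rw [k2 x hx h, p0, pr, if_neg h, inv_one]
  · rw [List.map_congr_left (f := pr g) (g := fun i => (el i, g i)) fun i hi => if_pos (hlt r hr i hi)]
    refine Prod.ext ?_ ?_
    · have := map_list_prod (MonoidHom.fst Y G) (r.map fun i => (el i, g i))
      rw [List.map_map] at this
      exact this.trans ((ev_eq r []).2 (hev r hr))
    · have := map_list_prod (MonoidHom.snd Y G) (r.map fun i => (el i, g i))
      rw [List.map_map] at this
      exact this.trans (hrel r hr)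
  · simp only [allLt, List.all_eq_true]
    intro r hr x hx
    simpa using (hlt r hr x hx).le.trans (by decide : 12 ≤ 63)

theorem prod_eq {g : ℕ → G} {f : Y → G} {S : Subgroup Y} (h : MulOn f S) {w : List ℕ}
    (hw : ∀ i ∈ w, el i ∈ S ∧ g i = f (el i)) : (w.map g).prod = f (ev w) := by
  rw [ev, h.prod fun a ha => let ⟨i, hi, e⟩ := List.mem_map.1 ha; e ▸ (hw i hi).1, List.map_map]
  exact congrArg List.prod (List.map_congr_left fun i hi => (hw i hi).2)

theorem graph_mem {f : Y → G} {l : List ℕ} (h : MulOn f (gp l)) {D : Subgroup (Y × G)}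
    (hl : ∀ i ∈ l, (el i, f (el i)) ∈ D) {x : Y} (hx : x ∈ gp l) : (x, f x) ∈ D := by
  induction hx using closure_induction with
  | mem x hx => obtain ⟨i, hi, rfl⟩ := hx; exact hl i hi
  | one => rw [h.one]; exact D.one_mem
  | mul x y hx hy a b => rw [h x hx y hy]; exact D.mul_mem a b
  | inv x hx a => rw [h.inv hx]; exact D.inv_mem a

theorem exists_graph {f : Y → G} {S : Subgroup Y} (h : MulOn f S) :
    ∃ H : Subgroup (Y × G), (Finite H ∧ Nat.card H ≤ Nat.card S) ∧ ∀ x ∈ S, (x, f x) ∈ H :=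
  let F := S.subtype.prod h.hom
  ⟨F.range, ⟨Finite.of_surjective _ F.rangeRestrict_surjective,
    Nat.card_le_card_of_surjective _ F.rangeRestrict_surjective⟩, fun x hx => ⟨⟨x, hx⟩, rfl⟩⟩

theorem exists_ext {l : List ℕ} {D : Subgroup (Y × G)} (hl : ∀ i ∈ l, ∃ g, (el i, g) ∈ D)
    (hD : Finite D ∧ Nat.card D ≤ Nat.card (gp l)) :
    ∃ f : Y → G, MulOn f (gp l) ∧ ∀ x ∈ gp l, ∀ g, (x, g) ∈ D → f x = g := by
  classical
  obtain ⟨F, hF, -⟩ := H78.exists_hom_of_graph_le (gp l) D (fun a ha => by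
    obtain ⟨p, hp, rfl⟩ := gp_le (H := D.map (MonoidHom.fst Y G))
      (fun i hi => let ⟨g, hg⟩ := hl i hi; ⟨_, hg, rfl⟩) ha
    exact ⟨p.2, hp⟩) hD
  refine ⟨fun x => if h : x ∈ gp l then F ⟨x, h⟩ else 1, fun a ha b hb => ?_, fun x hx g hg => ?_⟩
  · simp only [dif_pos ha, dif_pos hb, dif_pos (mul_mem ha hb)]
    exact F.map_mul ⟨a, ha⟩ ⟨b, hb⟩
  · simp only [dif_pos hx]
    exact hF ⟨x, hx⟩ g hg

theorem card_gp_le {l : List ℕ} {D : Subgroup (Y × G)} [Finite D] (hl : ∀ i ∈ l, ∃ g, (el i, g) ∈ D) :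
    Nat.card (gp l) ≤ Nat.card D :=
  (card_le_of_le (gp_le (H := D.map (MonoidHom.fst Y G))
    fun i hi => let ⟨g, hg⟩ := hl i hi; ⟨_, hg, rfl⟩)).trans
    (Nat.card_le_card_of_surjective _ ((MonoidHom.fst Y G).subgroupMap_surjective D))

end Cfsg.Agent.P83
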