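import Cfsg.Agent.P83.Nu
import Cfsg.Agent.P83.Gen
import Cfsg.Agent.P83.Cert.T3159
import Cfsg.Agent.P83.Cert.T1080
import Cfsg.Agent.S0293

/-! The homomorphism from `PΩ₈⁺(3)`. -/

set_option autoImplicit false

namespace Cfsg.Agent.P83

open Subgroup H97 H15 H11 CO1 CO2 QuadraticMap H4.GF

variable {G : Type*} [Group G] [Finite G] {φ ψ ν : Y → G} {K : Subgroup Y} {bd : ℕ} {π : G → V8} {ρ : G → OG Q8}

theorem card_po3 : Nat.card (POmega (ZMod 3) (quadFormPlus 4 (ZMod 3))) = 4952179814400 := by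
  have := S0293.result (F := ZMod 3) (q := 3) rfl 4 le_rfl
  norm_num [Finset.prod_range_succ] at this
  omega

theorem el_N0 : ∀ i ∈ [1, 2, 3, 4, 5, 8, 9, 10, 11], el i ∈ N0 := fun i hi => by
  by_cases e : i = 11
  · exact mem_N0 i (by rw [e]; decide)
  · exact ev_one i ▸ ev_mem_gp (by revert i; decide)

theorem exists_hom (h : MulOn φ KL) (p : Ps φ ψ ρ) (n : Nu φ ψ ν)
    (r3 : Commute (φ (el 6)) (ν (el 11) * φ (el 6) * ν (el 11))) :
    Nonempty (X0 ≃* POmega (ZMod 3) (quadFormPlus 4 (ZMod 3))) ∧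
      ∃ Ψ : Y → G, MulOn Ψ X0 ∧ (∀ x ∈ KL, Ψ x = φ x) ∧ ∀ x ∈ C0, Ψ x = ψ x := by
  let g : ℕ → G := fun i => if i ∈ [8, 9, 11] then ν (el i) else φ (el i)
  have g1 : ∀ i ∈ [0, 1, 2, 3, 4, 5, 6, 7, 10], el i ∈ KL ∧ g i = φ (el i) := fun i hi =>
    ⟨el_KL i hi, if_neg (by revert i; decide)⟩
  have g3 : ∀ i ∈ [1, 2, 3, 4, 5, 8, 9, 10, 11], el i ∈ N0 ∧ g i = ν (el i) := fun i hi => ⟨el_N0 i hi, by
    by_cases e : i ∈ [8, 9, 11]
    · exact if_pos e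
    · rw [(g1 i (by revert i; decide)).2, n.eq _ (el_mem_gp (by revert i; decide))]⟩
  have g2 : ∀ i ∈ [1, 2, 3, 4, 6, 7, 8, 9, 10], el i ∈ C0 ∧ g i = ψ (el i) := fun i hi => ⟨el_C0 i hi, by
    by_cases e : i = 8
    · rw [e, (g3 8 (by decide)).2, n.r]
    by_cases e' : i = 9
    · rw [e', (g3 9 (by decide)).2, show el 9 = (el 8)⁻¹ from (el_inv 8).symm, n.mul.inv (el_N0 8 (by decide)),
        p.mul.inv (el_C0 8 (by decide)), n.r]
    · rw [(g1 i (by revert i; decide)).2, p.eq _ (el_C1 i (by revert i; decide))]⟩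
  have hinv : ∀ x < 12, g (Il.getD x 0) = (g x)⁻¹ := fun x hx => by
    by_cases e : x ∈ [0, 1, 2, 3, 4, 5, 6, 7, 10]
    · rw [(g1 x e).2, (g1 _ (by revert x; decide)).2, ← el_inv, h.inv (g1 x e).1]
    · have e2 : x ∈ [1, 2, 3, 4, 5, 8, 9, 10, 11] := by revert x; decide
      rw [(g3 x e2).2, (g3 _ (by clear e2; revert x; decide)).2, ← el_inv, n.mul.inv (g3 x e2).1]
  have R : ∀ rels : List (List ℕ), (∀ r ∈ rels, eqp (wC r) (wC []) = true) → (∀ r ∈ rels,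
      (∀ i ∈ r, i ∈ [0, 1, 2, 3, 4, 5, 6, 7, 10]) ∨ (∀ i ∈ r, i ∈ [1, 2, 3, 4, 6, 7, 8, 9, 10]) ∨
      (∀ i ∈ r, i ∈ [1, 2, 3, 4, 5, 8, 9, 10, 11]) ∨ r = [7, 11, 7, 11, 6, 11, 6, 11]) →
      (∀ r ∈ rels, ∀ x ∈ r, x < 12) → H58.RuleOK (pr g) rels ivP := fun rels k1 k2 k3 => by
    refine rule_pr (by rw [(g1 0 (by decide)).2, el_zero, h.one]) hinv (fun r hr => ?_) k1 k3
    have e : ev r = 1 := (ev_eq r []).2 (k1 r hr)
    rcases k2 r hr with k | k | k | rfl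
    · rw [prod_eq h fun i hi => g1 i (k i hi), e, h.one]
    · rw [prod_eq p.mul fun i hi => g2 i (k i hi), e, p.mul.one]
    · rw [prod_eq n.mul fun i hi => g3 i (k i hi), e, n.mul.one]
    · have a : g 7 = (g 6)⁻¹ := hinv 6 (by decide)
      have b : g 11 = (g 11)⁻¹ := hinv 11 (by decide)
      rw [← (g1 6 (by decide)).2, ← (g3 11 (by decide)).2] at r3
      simp only [List.map_cons, List.map_nil, List.prod_cons, List.prod_nil, mul_one]
      calc _ = (g 6)⁻¹ * (g 11 * (g 6)⁻¹ * g 11) * (g 6 * (g 11 * g 6 * g 11)) := by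
            rw [a]; simp only [mul_assoc]
        _ = (g 6)⁻¹ * ((g 11)⁻¹ * (g 6)⁻¹ * (g 11)⁻¹) * (g 11 * g 6 * g 11 * g 6) := by rw [← b, r3.eq]
        _ = 1 := by group
  have hS : S6 ≤ KL := gp_le fun i hi => el_KL i (by revert i; decide)
  obtain ⟨H, hH, hm⟩ := exists_graph (h.mono hS)
  have h2 := H58.card_le_of_relIndex (T3159.relIndex_le (R _ (by decide +kernel) (by decide +kernel)
    (by decide +kernel)) H fun x hx => by
      rw [pr, if_pos (by revert x; decide), (g1 x (by revert x; decide)).2]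
      exact hm _ (el_mem_gp hx)) ⟨hH.1, hH.2.trans card_S6⟩
  have h3 := H58.card_le_of_relIndex (T1080.relIndex_le (R _ (by decide +kernel) (by decide +kernel)
    (by decide +kernel)) (gr g [1, 2, 3, 4, 5, 6, 8, 11]) fun x hx => Subgroup.subset_closure ⟨x, hx, rfl⟩) h2
  have hl : ∀ i ∈ [1, 2, 3, 4, 5, 6, 8, 10], (el i, g i) ∈ gr g [1, 2, 3, 4, 5, 6, 8, 10, 11] := fun i hi =>
    pr_mem (by revert i; decide) (by revert i; decide)
  obtain ⟨θ, t1, t2⟩ := exists_theta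
  have c1 : Nat.card θ.range = 4952179814400 := (Nat.card_congr (θ.ofInjective t1).toEquiv).symm.trans card_po3
  have := h3.1
  have c2 : Nat.card X0 ≤ Nat.card θ.range :=
    (card_gp_le (D := gr g [1, 2, 3, 4, 5, 6, 8, 10, 11]) fun i hi => ⟨_, hl i hi⟩).trans (c1 ▸ h3.2)
  obtain ⟨Ψ, h4, h5⟩ := exists_ext (l := [1, 2, 3, 4, 5, 6, 8, 10]) (D := gr g [1, 2, 3, 4, 5, 6, 8, 10, 11])
    (fun i hi => ⟨_, hl i hi⟩) ⟨h3.1, (h3.2.trans c1.ge).trans (card_le_of_le t2)⟩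
  refine ⟨⟨(MulEquiv.subgroupCongr (eq_of_le_of_card_ge t2 c2).symm).trans (θ.ofInjective t1).symm⟩, Ψ, h4,
    fun x hx => h5 x (gp_le (fun i hi => el_mem_gp (by revert i; decide)) hx) _ (graph_mem h (fun i hi => ?_) hx),
    fun x hx => h5 x (gp_le (fun i hi => el_mem_gp (by revert i; decide)) hx) _
      (graph_mem p.mul (fun i hi => ?_) hx)⟩
  · exact (g1 i (by revert i; decide)).2 ▸ hl i (by revert i; decide)
  · exact (g2 i (by revert i; decide)).2 ▸ hl i (by revert i; decide)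

end Cfsg.Agent.P83
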