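import Cfsg.Agent.P83.LinA

/-! The three orbits of length 18 contain no image of a conjugate of `z`. -/

set_option autoImplicit false
set_option maxRecDepth 100000

namespace Cfsg.Agent.P83

open Subgroup H97 H15 H11 CO1 CO2 QuadraticMap H4.GF

namespace L1

/-- an element of order dividing three that permutes a pair fixes it -/
theorem fix_pair {α : Type*} {f : α → α} (h3 : ∀ x, f (f (f x)) = x) {a b : α} (ha : f a = a ∨ f a = b)
    (hb : f b = a ∨ f b = b) : f a = a := by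
  rcases ha with e | e
  · exact e
  · rcases hb with e' | e'
    · have := h3 a
      rw [e, e', e] at this
      rw [e, this]
    · have := h3 a
      rw [e, e', e'] at this
      rw [e, this]

/-- words that move the singular vectors outside `Th` to `1, 175, 171` -/
def ws : List (List ℕ) := [[], [23], [29], [25], [30], [27], [25, 23], [29, 23], [27, 25], [30, 27], [25, 25], [29, 25],
  [27, 27], [30, 23], [29, 27], [23, 23], [23, 29], [27, 23], [30, 25], [29, 27, 27], [29, 27, 23], [29, 25, 23],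
  [23, 29, 25], [25, 25, 23], [25, 23, 23], [29, 25, 25], [30, 23, 23], [27, 27, 23], [30, 27, 23], [30, 25, 23],
  [23, 29, 27], [27, 25, 25], [27, 27, 25], [29, 25, 25, 23], [30, 27, 23, 23], [23, 29, 25, 25], [30, 25, 23, 23],
  [29, 27, 27, 23], [25, 25, 23, 23], [23, 29, 27, 27]]

theorem ws_spec : ∀ c < 256, c = 0 ∨ M8.testBit c = true ∨ c ∈ Th ∨
    ∃ w ∈ ws, apn (cW w) c ∈ [1, 175, 171] := by decide +kernel

theorem ws_mem : ∀ w ∈ ws, ∀ i ∈ w, i ∈ nq ∧ i ∈ [23, 25, 27, 29, 30, 31] := by decide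

theorem ow_cons (i : ℕ) (w : List ℕ) : ow (i :: w) = ol i * ow w := List.prod_cons

theorem ow_app (u w : List ℕ) : ow (u ++ w) = ow u * ow w := by
  rw [ow, List.map_append, List.prod_append]; rfl

theorem ow_mem {Γ : Subgroup (OG Q8)} {w : List ℕ} (h : ∀ i ∈ w, ol i ∈ Γ) : ow w ∈ Γ :=
  Γ.list_prod_mem fun _ hx => let ⟨i, hi, e⟩ := List.mem_map.1 hx; e ▸ h i hi

theorem mem_aL {k : ℕ} (hk : k < 8) : ow (aL k) ∈ AA := mem_AA.2 ⟨k, hk, rfl⟩

theorem AA_comm {a b : OG Q8} (ha : a ∈ AA) (hb : b ∈ AA) : a * b = b * a := by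
  obtain ⟨j, hj, rfl⟩ := mem_AA.1 ha
  obtain ⟨k, hk, rfl⟩ := mem_AA.1 hb
  rw [aL_mul hj (by omega), aL_mul hk (by omega), Nat.xor_comm]

theorem two_of_sq {B : Subgroup (OG Q8)} (h : ∀ b ∈ B, b * b = 1) : IsPGroup 2 B := fun b =>
  ⟨1, Subtype.ext (by simpa [pow_two] using h b b.2)⟩

/-- the end of the argument -/
theorem fin {B : Subgroup (OG Q8)} (hB : ∀ b ∈ B, b * b = 1) (h3 : ow (aL 3) ∈ B) (h4 : ow (aL 4) ∈ B) {r : OG Q8}
    (hr : r * r * r = 1) (hc : ∀ b ∈ B, r * b = b * r) {u : V8} (hu : u ≠ 0) (hru : ap r u = u)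
    (hb : ∀ b ∈ B, ap b u = u) : r = 1 := by
  refine axb (two_of_sq hB) ((Nat.Prime.eq_one_or_self_of_dvd Nat.prime_three _
    (orderOf_dvd_of_pow_eq_one (by rw [pow_succ, pow_two, hr]))).elim (fun e => e ▸ odd_one) fun e => e ▸ by decide)
    hc fun v hv => ?_
  have fx : ∀ {x : V8}, (∀ b ∈ B, ap b x = x) → ∀ b ∈ B, ap b (ap r x) = ap r x := fun h b hb' => by
    rw [← ap_mul, ← hc b hb', ap_mul, h b hb']
  have c3 : ∀ x, ap r (ap r (ap r x)) = x := fun x => by rw [← ap_mul, ← ap_mul, hr, ap_one]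
  have four : ∀ {x : V8}, (∀ b ∈ B, ap b x = x) → x = 0 ∨ x = u ∨ x = v ∨ x = v + u ∨ v = 0 ∨ v = u := by
    intro x hx
    obtain ⟨a, ha, rfl⟩ := fix_Z (hx _ h3) (hx _ h4)
    obtain ⟨b, hb', eu⟩ := fix_Z (hb _ h3) (hb _ h4)
    obtain ⟨c, hc', ev⟩ := fix_Z (hv _ h3) (hv _ h4)
    have z0 : dc8 0 = 0 := cd_dc8.zero
    have k : ∀ a ∈ [0, 1, 4, 5], ∀ b ∈ [0, 1, 4, 5], ∀ c ∈ [0, 1, 4, 5],
        b = 0 ∨ a = 0 ∨ a = b ∨ a = c ∨ a = c ^^^ b ∨ c = 0 ∨ c = b := by decide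
    rw [eu, ev]
    rcases k a ha b hb' c hc' with e | e | e | e | e | e | e
    · exact absurd (eu.trans (e ▸ z0)) hu
    · exact Or.inl (e ▸ z0)
    · exact Or.inr (Or.inl (e ▸ rfl))
    · exact Or.inr (Or.inr (Or.inl (e ▸ rfl)))
    · exact Or.inr (Or.inr (Or.inr (Or.inl (e ▸ cd_dc8.xor _ _))))
    · exact Or.inr (Or.inr (Or.inr (Or.inr (Or.inl (e ▸ z0)))))
    · exact Or.inr (Or.inr (Or.inr (Or.inr (Or.inr (e ▸ rfl)))))
  have uu : u + u = 0 := by ext i; exact CharTwo.add_self_eq_zero _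
  rcases four (fx hv) with e | e | e | e | e | e
  · rw [ap_eq_zero.1 e, ap_zero]
  · rw [e, ap_injective r (e.trans hru.symm)]
  · exact e
  · refine fix_pair c3 (b := v + u) (Or.inr e) (Or.inl ?_)
    rw [ap_add, e, hru, add_assoc, uu, add_zero]
  · rw [e, ap_zero]
  · rw [e, hru]

/-- the main step -/
theorem core {Γ : Subgroup (OG Q8)} {Ω : Set V8} (h : LD Γ Ω A16) {u : V8} (hu : u ∈ Ω) {r : OG Q8} {j : ℕ}
    (hj : j ∈ [1, 2, 3, 4, 5, 6]) (hr : r ∈ Γ) (ht : ow (aL j) ∈ Γ) (r3 : r * r * r = 1) (r1 : r ≠ 1)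
    (tr : ow (aL j) * r * ow (aL j) * r = 1) (tt : ow (aL j) * ow (aL j) = 1) (ru : ap r u = u)
    (tu : ap (ow (aL j)) u = u) : False := by
  obtain ⟨B, hB, c8, hb, hn⟩ := h.ela u hu
  set t := ow (aL j) with htd
  have : Finite (B : Set (OG Q8)) := Nat.finite_of_card_ne_zero (by change Nat.card B ≠ 0; omega)
  have nt : t ∈ normalizer (B : Set (OG Q8)) := mem_normalizer_fintype fun b hb' => hn t ht tu b hb'
  have p2 : IsPGroup 2 (B ⊔ zpowers t : Subgroup (OG Q8)) := by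
    rw [sup_comm]
    exact IsPGroup.to_sup_of_normal_right' (two_of_sq fun x ⟨k, e⟩ => by
      rw [← e, ← (Commute.refl t).mul_zpow, tt, one_zpow]) (two_of_sq fun b hb' => (hb b hb').1)
      (zpowers_le.2 nt)
  obtain ⟨γ, -, hγ⟩ := h.syl _ (sup_le hB (zpowers_le.2 ht)) p2
  set B' := B.map (MulAut.conj γ).toMonoidHom with hB'
  have mB : ∀ {x}, x ∈ B' ↔ γ⁻¹ * x * γ ∈ B := fun {x} =>
    ⟨by rintro ⟨b, hb', rfl⟩; simpa [mul_assoc] using hb', fun hx => ⟨_, hx, by simp [mul_assoc]⟩⟩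
  have l1 : B' ≤ A16 := by
    rintro _ ⟨b, hb', rfl⟩
    exact hγ b (mem_sup_left hb')
  have l2 : 8 ≤ Nat.card B' := by rw [hB', card_map_of_injective (MulAut.conj γ).injective]; exact c8
  have l3 : ∀ b ∈ B', b * b = 1 := by
    rintro _ ⟨b, hb', rfl⟩
    rw [← map_mul, (hb b hb').1, map_one]
  have l4 : ∀ b ∈ B', ap b (ap γ u) = ap γ u := by
    rintro _ ⟨b, hb', rfl⟩
    change ap (γ * b * γ⁻¹) _ = _
    rw [ap_mul, ap_inv_ap, ap_mul, (hb b hb').2]
  have l5 : ∀ b ∈ B', γ * r * γ⁻¹ * b * (γ * r * γ⁻¹)⁻¹ ∈ B' := fun b hb' => mB.2 (by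
    have := hn r hr ru _ (mB.1 hb')
    convert this using 1
    group)
  have s3 : γ * r * γ⁻¹ * (γ * r * γ⁻¹) * (γ * r * γ⁻¹) = 1 := by
    rw [show γ * r * γ⁻¹ * (γ * r * γ⁻¹) * (γ * r * γ⁻¹) = γ * (r * r * r) * γ⁻¹ by group, r3]; group
  have u0 : ap γ u ≠ 0 := fun e => (h.sing u hu).1 (ap_eq_zero.1 e)
  have su : ap (γ * r * γ⁻¹) (ap γ u) = ap γ u := by rw [ap_mul, ap_inv_ap, ap_mul, ru]
  obtain ⟨k, hk, ek⟩ := mem_A16.1 (hγ t (mem_sup_right (mem_zpowers t)))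
  have k6 := typ_a hj hk ek
  set s := γ * r * γ⁻¹ with hs
  refine r1 (conj_eq_one_iff.1 (hs.symm.trans (?_ : s = 1)))
  rcases ela_A16 l1 l2 l3 with e | e
  · refine fin l3 (e ▸ mem_aL (by decide)) (e ▸ mem_aL (by decide)) s3 (fun b hb' => ?_) u0 su l4
    have ta : γ * t * γ⁻¹ ∈ AA := ek ▸ mem_aL (by simp only [List.mem_cons, List.not_mem_nil, or_false] at k6; omega)
    have q1 : s * (γ * t * γ⁻¹) * s⁻¹ ∈ AA := e ▸ l5 _ (e ▸ ta)
    have q2 : γ * t * γ⁻¹ * (s * (γ * t * γ⁻¹) * s⁻¹) = s := by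
      have a1 : t * r * t = r⁻¹ := eq_inv_of_mul_eq_one_left tr
      have a2 : r⁻¹ * r⁻¹ = r := by
        rw [← mul_inv_rev, inv_eq_iff_mul_eq_one, r3]
      rw [hs, show γ * t * γ⁻¹ * (γ * r * γ⁻¹ * (γ * t * γ⁻¹) * (γ * r * γ⁻¹)⁻¹) = γ * (t * r * t * r⁻¹) * γ⁻¹ by group,
        a1, a2]
    exact AA_comm (q2 ▸ AA.mul_mem ta q1) (e ▸ hb')
  · have m : ∀ k ∈ [0, 3, 4, 7, 8, 11, 12, 15], ow (aL k) ∈ B' := fun k hk => (e _).2 ⟨k, hk, rfl⟩
    have c3 : ∀ x : OG Q8, s * (s * (s * x * s⁻¹) * s⁻¹) * s⁻¹ = x := fun x => by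
      rw [show s * (s * (s * x * s⁻¹) * s⁻¹) * s⁻¹ = s * s * s * x * (s * s * s)⁻¹ by group, s3]; group
    have pa : ∀ i ∈ [3, 4], s * ow (aL i) * s⁻¹ = ow (aL 3) ∨ s * ow (aL i) * s⁻¹ = ow (aL 4) := fun i hi => by
      have hi' : i = 3 ∨ i = 4 := by simpa using hi
      obtain ⟨l, hl, el⟩ := (e _).1 (l5 _ (m i (by rcases hi' with rfl | rfl <;> decide)))
      have := typ_a (j := i) (k := l) (by rcases hi' with rfl | rfl <;> decide)
        (by simp only [List.mem_cons, List.not_mem_nil, or_false] at hl; omega) el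
      have : l = 3 ∨ l = 4 := by simp only [List.mem_cons, List.not_mem_nil, or_false] at hl this; omega
      rcases this with rfl | rfl
      exacts [Or.inl el, Or.inr el]
    have po : ∀ i ∈ [8, 11], s * ow (aL i) * s⁻¹ = ow (aL 8) ∨ s * ow (aL i) * s⁻¹ = ow (aL 11) := fun i hi => by
      have hi' : i = 8 ∨ i = 11 := by simpa using hi
      obtain ⟨l, hl, el⟩ := (e _).1 (l5 _ (m i (by rcases hi' with rfl | rfl <;> decide)))
      have := typ_o (j := i) (k := l) hi (by simp only [List.mem_cons, List.not_mem_nil, or_false] at hl; omega) el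
      have : l = 8 ∨ l = 11 := by simpa using this
      rcases this with rfl | rfl
      exacts [Or.inl el, Or.inr el]
    have f3 : s * ow (aL 3) * s⁻¹ = ow (aL 3) :=
      fix_pair (f := fun x => s * x * s⁻¹) c3 (pa 3 (by decide)) (pa 4 (by decide))
    have f4 : s * ow (aL 4) * s⁻¹ = ow (aL 4) :=
      fix_pair (f := fun x => s * x * s⁻¹) c3 (pa 4 (by decide)).symm (pa 3 (by decide)).symm
    have f8 : s * ow (aL 8) * s⁻¹ = ow (aL 8) :=
      fix_pair (f := fun x => s * x * s⁻¹) c3 (po 8 (by decide)) (po 11 (by decide))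
    have g3 : Commute s (ow (aL 3)) := mul_inv_eq_iff_eq_mul.1 f3
    have g4 : Commute s (ow (aL 4)) := mul_inv_eq_iff_eq_mul.1 f4
    have g8 : Commute s (ow (aL 8)) := mul_inv_eq_iff_eq_mul.1 f8
    have g7 : Commute s (ow (aL 7)) := (aL_mul (j := 3) (k := 4) (by decide) (by decide)) ▸ g3.mul_right g4
    refine fin l3 (m 3 (by decide)) (m 4 (by decide)) s3 (fun b hb' => ?_) u0 su l4
    obtain ⟨l, hl, rfl⟩ := (e _).1 hb'
    simp only [List.mem_cons, List.not_mem_nil, or_false] at hl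
    rcases hl with rfl | rfl | rfl | rfl | rfl | rfl | rfl | rfl
    · exact Commute.one_right s
    · exact g3
    · exact g4
    · exact g7
    · exact g8
    · exact ((aL_mul (j := 3) (k := 8) (by decide) (by decide)) ▸ g3.mul_right g8 : Commute s (ow (aL 11)))
    · exact ((aL_mul (j := 4) (k := 8) (by decide) (by decide)) ▸ g4.mul_right g8 : Commute s (ow (aL 12)))
    · exact ((aL_mul (j := 7) (k := 8) (by decide) (by decide)) ▸ g7.mul_right g8 : Commute s (ow (aL 15)))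

theorem case {Γ : Subgroup (OG Q8)} {Ω : Set V8} (h : LD Γ Ω A16) {c : ℕ} (hc : c < 256) (hu : dc8 c ∈ Ω) {w : List ℕ}
    {j : ℕ} (hj : j ∈ [1, 2, 3, 4, 5, 6]) (hw : ∀ i ∈ w ++ aL j, i ∈ nq ∧ i ∈ [23, 25, 27, 29, 30, 31])
    (e1 : cW (w ++ w ++ w) = cW []) (e2 : cW w ≠ cW []) (e3 : cW (aL j ++ w ++ aL j ++ w) = cW [])
    (e4 : cW (aL j ++ aL j) = cW []) (e5 : apn (cW w) c = c) (e6 : apn (cW (aL j)) c = c) : False := by
  have n1 : ∀ i ∈ w, i ∈ nq := fun i hi => (hw i (List.mem_append_left _ hi)).1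
  have n2 : ∀ i ∈ aL j, i ∈ nq := fun i hi => (hw i (List.mem_append_right _ hi)).1
  have n0 : ∀ i ∈ ([] : List ℕ), i ∈ nq := by simp
  refine core h hu (r := ow w) hj (ow_mem fun i hi => h.gens i (hw i (List.mem_append_left _ hi)).2)
    (ow_mem fun i hi => h.gens i (hw i (List.mem_append_right _ hi)).2) ?_ (fun e => e2 ((ow_eq n1 n0).1 e)) ?_ ?_
    (by rw [ap_ow n1 hc, e5]) (by rw [ap_ow n2 hc, e6])
  · rw [← ow_app, ← ow_app]
    exact (ow_eq (by simp only [List.mem_append]; rintro i ((a | a) | a) <;> exact n1 i a) n0).2 e1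
  · rw [← ow_app, ← ow_app, ← ow_app]
    exact (ow_eq (by
      simp only [List.mem_append]; rintro i (((a | a) | a) | a)
      exacts [n2 i a, n1 i a, n2 i a, n1 i a]) n0).2 e3
  · rw [← ow_app]
    exact (ow_eq (by simp only [List.mem_append]; rintro i (a | a) <;> exact n2 i a) n0).2 e4

end L1

theorem LD.th {Γ : Subgroup (OG Q8)} {Ω : Set V8} (h : LD Γ Ω A16) : ∀ v ∈ Ω, ∃ c ∈ Th, v = dc8 c := by
  intro v hv
  obtain ⟨c, hc, rfl⟩ := cd_dc8.surj v
  rcases L1.ws_spec c hc with e | e | e | ⟨w, hw, e⟩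
  · exact absurd (e ▸ cd_dc8.zero) (h.sing _ hv).1
  · have := (h.sing _ hv).2
    rw [cd_dc8.q c hc, e] at this
    exact absurd this (by decide)
  · exact ⟨c, e, rfl⟩
  · have m := h.inv _ hv _ (L1.ow_mem fun i hi => h.gens i (L1.ws_mem w hw i hi).2)
    rw [ap_ow (fun i hi => (L1.ws_mem w hw i hi).1) hc] at m
    simp only [List.mem_cons, List.not_mem_nil, or_false] at e
    rcases e with e | e | e <;> rw [e] at m
    · exact (L1.case h (by decide) m (w := [23, 25]) (j := 3) (by decide) (by decide) (by decide +kernel)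
        (by decide +kernel) (by decide +kernel) (by decide +kernel) (by decide +kernel) (by decide +kernel)).elim
    · exact (L1.case h (by decide) m (w := [23, 27]) (j := 5) (by decide) (by decide) (by decide +kernel)
        (by decide +kernel) (by decide +kernel) (by decide +kernel) (by decide +kernel) (by decide +kernel)).elim
    · exact (L1.case h (by decide) m (w := [25, 27, 27]) (j := 6) (by decide) (by decide) (by decide +kernel)
        (by decide +kernel) (by decide +kernel) (by decide +kernel) (by decide +kernel) (by decide +kernel)).elim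

end Cfsg.Agent.P83
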