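import Cfsg.Agent.P83.Lin1
import Cfsg.Agent.S0215

/-! The structure of `C(z) / Q`. -/

set_option autoImplicit false

namespace Cfsg.Agent.P83

open Subgroup H97 H15 H11 CO1 CO2 QuadraticMap H4.GF

namespace L2

instance finOG : Finite (OG Q8) :=
  Finite.of_injective (fun g : OG Q8 => ap g) fun _ _ e => OG_ext fun v => congrFun e v

theorem dih {G : Type*} [Group G] {s t : G} (hs : s * s = 1) (ht : t * t = 1) {j : ℕ}
    (h : (s * t) ^ (2 * j + 1) = 1) : s * (s * t) ^ (j + 1) = (s * t) ^ (j + 1) * t ∧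
      s * (s * t) ^ (j + 1) * s⁻¹ = ((s * t) ^ (j + 1))⁻¹ := by
  have hs' : s⁻¹ = s := inv_eq_of_mul_eq_one_right hs
  have ht' : t⁻¹ = t := inv_eq_of_mul_eq_one_right ht
  have h1 : s * (s * t) * s⁻¹ = (s * t)⁻¹ := by
    rw [mul_inv_rev, hs', ht', ← mul_assoc, hs, one_mul]
  have h2 : s * (s * t) ^ (j + 1) * s⁻¹ = ((s * t) ^ (j + 1))⁻¹ := by
    rw [← conj_pow, h1, inv_pow]
  have h3 : ((s * t) ^ (j + 1))⁻¹ = (s * t) ^ j := by
    apply inv_eq_of_mul_eq_one_right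
    rw [← pow_add, ← h]; congr 1; ring
  refine ⟨?_, h2⟩
  calc s * (s * t) ^ (j + 1) = s * (s * t) ^ (j + 1) * s⁻¹ * s := by group
    _ = (s * t) ^ j * s := by rw [h2, h3]
    _ = (s * t) ^ j * (s * t) * t := by rw [mul_assoc, mul_assoc, ht, mul_one]
    _ = _ := by rw [pow_succ]

/-- the element number `k` of `A16` -/
noncomputable abbrev aK (k : ℕ) : OG Q8 := ow (aL k)

theorem aK_zero : aK 0 = 1 := rfl

theorem aK_mem {k : ℕ} (hk : k < 8) : aK k ∈ AA := mem_AA.2 ⟨k, hk, rfl⟩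

theorem AA_sq {a : OG Q8} (h : a ∈ AA) : a * a = 1 := by
  obtain ⟨k, hk, rfl⟩ := mem_AA.1 h
  rw [aL_mul hk (by omega), Nat.xor_self]; rfl

theorem AA_comm {a b : OG Q8} (ha : a ∈ AA) (hb : b ∈ AA) : a * b = b * a := by
  rw [← inv_eq_of_mul_eq_one_right (AA_sq (mul_mem ha hb)), mul_inv_rev,
    inv_eq_of_mul_eq_one_right (AA_sq ha), inv_eq_of_mul_eq_one_right (AA_sq hb)]

theorem two_of_sq {B : Subgroup (OG Q8)} (h : ∀ b ∈ B, b * b = 1) : IsPGroup 2 B := fun b =>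
  ⟨1, Subtype.ext (by simpa [pow_two] using h b b.2)⟩

theorem two_AA : IsPGroup 2 AA := two_of_sq fun _ => AA_sq

theorem c_ne : aK 7 ≠ 1 := fun e => absurd (aL_inj (j := 7) (k := 0) (by omega) (by omega) e) (by omega)

theorem c_iso {γ : OG Q8} (h : γ * aK 7 * γ⁻¹ ∈ AA) : γ * aK 7 * γ⁻¹ = aK 7 := by
  obtain ⟨k, hk, e⟩ := mem_AA.1 h
  have := typ_c (j := 7) (by simp) (by omega : k < 16) e
  simp only [List.mem_cons, List.not_mem_nil, or_false] at this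
  obtain rfl : k = 7 := by omega
  exact e

variable {Γ : Subgroup (OG Q8)} {Ω : Set V8}

theorem go_le {l : List ℕ} (h : ∀ i ∈ l, ol i ∈ Γ) : go l ≤ Γ :=
  (closure_le _).2 (by rintro _ ⟨i, hi, rfl⟩; exact h i hi)

theorem AA_leG (h : LD Γ Ω AA) : AA ≤ Γ := go_le fun i hi => h.gens i (by
  simp only [List.mem_cons, List.not_mem_nil, or_false] at hi ⊢; omega)

theorem DD_leG (h : LD Γ Ω AA) : DD ≤ Γ := go_le fun i hi => h.gens i (by
  simp only [List.mem_cons, List.not_mem_nil, or_false] at hi ⊢; omega)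

theorem thA (h : LD Γ Ω AA) : ∀ v ∈ Ω, ∃ c ∈ Th, v = dc8 c :=
  LD.th ⟨h.gens, fun P h1 h2 => let ⟨γ, hγ, e⟩ := h.syl P h1 h2; ⟨γ, hγ, fun p hp => AA_le (e p hp)⟩,
    h.inv, h.mem, h.sing, h.ela⟩

theorem card_map_conj (P : Subgroup (OG Q8)) (γ : OG Q8) :
    Nat.card (P.map (MulAut.conj γ).toMonoidHom) = Nat.card P :=
  card_map_of_injective (MulAut.conj γ).injective

theorem card_le (h : LD Γ Ω AA) {P : Subgroup (OG Q8)} (h1 : P ≤ Γ) (h2 : IsPGroup 2 P) :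
    Nat.card P ≤ 8 := by
  obtain ⟨γ, -, e⟩ := h.syl P h1 h2
  rw [← card_map_conj P γ, ← card_AA]
  exact card_le_of_le (by rintro _ ⟨p, hp, rfl⟩; exact e p hp)

theorem eq_AA (h : LD Γ Ω AA) {P : Subgroup (OG Q8)} (h1 : P ≤ Γ) (h2 : IsPGroup 2 P) (h3 : AA ≤ P) :
    P = AA := (eq_of_le_of_card_ge h3 (by rw [card_AA]; exact card_le h h1 h2)).symm

theorem le_AA (h : LD Γ Ω AA) {P : Subgroup (OG Q8)} (h1 : P ≤ Γ)
    (h3 : IsPGroup 2 (P ⊔ AA : Subgroup (OG Q8))) : P ≤ AA :=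
  le_sup_left.trans (eq_AA h (sup_le h1 (AA_leG h)) h3 le_sup_right).le

theorem stab (h : LD Γ Ω AA) : ∀ γ ∈ Γ, ap γ (dc8 5) = dc8 5 → ∀ a ∈ AA, γ * a * γ⁻¹ ∈ AA := by
  obtain ⟨B, h1, h2, h3, h4⟩ := h.ela _ h.mem
  have hB := two_of_sq fun b hb => (h3 b hb).1
  have hn : AA ≤ normalizer (B : Set (OG Q8)) := fun a ha =>
    mem_normalizer_fintype fun b hb => h4 a (AA_leG h ha) (AA_fix a ha) b hb
  have := le_AA h h1 (hB.to_sup_of_normal_left' two_AA hn)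
  obtain rfl : B = AA := eq_of_le_of_card_ge this (by rw [card_AA]; exact h2)
  exact h4

theorem orb (h : LD Γ Ω AA) : ∀ v ∈ Ω, ∃ γ ∈ Γ, ap γ (dc8 5) = v := by
  intro v hv
  obtain ⟨B, h1, h2, h3, -⟩ := h.ela _ hv
  obtain ⟨γ, hγ, e⟩ := h.syl B h1 (two_of_sq fun b hb => (h3 b hb).1)
  have e1 : B.map (MulAut.conj γ).toMonoidHom = AA :=
    eq_of_le_of_card_ge (by rintro _ ⟨p, hp, rfl⟩; exact e p hp) (by rw [card_AA, card_map_conj]; exact h2)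
  have e2 : ∀ a ∈ AA, ap a (ap γ v) = ap γ v := by
    rw [← e1]
    rintro _ ⟨b, hb, rfl⟩
    change ap (γ * b * γ⁻¹) _ = _
    rw [ap_mul, ap_mul, ap_inv_ap, (h3 b hb).2]
  rcases fix_AA e2 with e3 | e3
  · exact absurd (ap_eq_zero.1 e3) (h.sing v hv).1
  · exact ⟨γ⁻¹, inv_mem hγ, by rw [← e3, ap_inv_ap]⟩

theorem cen_fix (h : LD Γ Ω AA) {γ : OG Q8} (hγ : γ ∈ Γ) (hc : aK 7 * γ = γ * aK 7) :
    ap γ (dc8 5) = dc8 5 := by
  obtain ⟨t, ht, e⟩ := thA h _ (h.inv _ h.mem γ hγ)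
  have : ap (aK 7) (dc8 t) = dc8 t := by
    rw [← e, ← ap_mul, hc, ap_mul, AA_fix _ (aK_mem (by omega))]
  rw [e, c_fix_Th t ht this]

theorem zstar (h : LD Γ Ω AA) : ∃ R ≤ Γ, (∀ γ ∈ Γ, ∀ r ∈ R, γ * r * γ⁻¹ ∈ R) ∧
    (∀ r ∈ R, Odd (orderOf r)) ∧ ∀ γ ∈ Γ, aK 7 * γ * (aK 7)⁻¹ * γ⁻¹ ∈ R := by
  have hA := AA_leG h
  let P : Sylow 2 Γ := ⟨AA.subgroupOf Γ, two_AA.of_equiv (subgroupOfEquivOfLe hA).symm, fun {Q} h1 h2 => by
    have e := eq_AA h (map_subtype_le Q) (h1.map _)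
      (fun a ha => ⟨⟨a, hA ha⟩, h2 ha, rfl⟩)
    rw [← e]
    exact (comap_map_eq_self_of_injective Γ.subtype_injective Q).symm⟩
  have hc := aK_mem (by omega : 7 < 8)
  obtain ⟨N, hN, ho, hm⟩ := S0215.result P ⟨aK 7, hA hc⟩
    (by rw [← orderOf_coe]
        exact orderOf_eq_prime (by rw [pow_two]; exact AA_sq hc) c_ne) hc
    (fun g hg => Subtype.ext (c_iso hg))
  refine ⟨N.map Γ.subtype, map_subtype_le N, ?_, ?_, fun γ hγ => ⟨_, hm ⟨γ, hγ⟩, rfl⟩⟩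
  · rintro γ hγ _ ⟨r, hr, rfl⟩
    exact ⟨_, hN.conj_mem r hr ⟨γ, hγ⟩, rfl⟩
  · rintro _ ⟨r, hr, rfl⟩
    have : orderOf (Γ.subtype r) = orderOf (⟨r, hr⟩ : N) := by
      rw [← orderOf_coe (⟨r, hr⟩ : N)]; exact orderOf_coe r
    rw [this]
    exact Odd.of_dvd_nat ho (orderOf_dvd_natCard _)

theorem triv_of_cen {g : OG Q8} (ho : Odd (orderOf g)) (hc : ∀ a ∈ AA, g * a = a * g)
    (h5 : ap g (dc8 5) = dc8 5) : g = 1 :=
  axb two_AA ho hc fun v hv => by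
    rcases fix_AA hv with rfl | rfl
    · exact ap_zero g
    · exact h5

theorem pow_fix {g : OG Q8} {v : V8} (h : ap g v = v) (n : ℕ) : ap (g ^ n) v = v := by
  induction n with
  | zero => simp
  | succ n ih => rw [pow_succ, ap_mul, h, ih]

theorem conj_fix {n a : OG Q8} {v : V8} (h : ap n v = v) : ap (n * a * n⁻¹) v = v ↔ ap a v = v := by
  have h' : ap n⁻¹ v = v := by conv_lhs => rw [← h, ap_inv_ap]
  rw [ap_mul, ap_mul, h']
  exact ⟨fun e => ap_injective n (e.trans h.symm), fun e => by rw [e, h]⟩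

theorem sq_cen (h : LD Γ Ω AA) {n : OG Q8} (hn : n ∈ Γ) (h5 : ap n (dc8 5) = dc8 5)
    (h1 : ap n (dc8 1) = dc8 1) (hc : aK 7 * n = n * aK 7) :
    n ^ 2 * aK 3 = aK 3 * n ^ 2 := by
  have k7 : n * aK 7 * n⁻¹ = aK 7 := by rw [← hc, mul_inv_cancel_right]
  have m34 : aK 3 * aK 7 = aK 4 := aL_mul (by omega) (by omega)
  have m47 : aK 4 * aK 7 = aK 3 := aL_mul (by omega) (by omega)
  obtain ⟨k, hk, e⟩ := mem_AA.1 (stab h n hn h5 _ (aK_mem (by omega : 3 < 8)))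
  have f := (AA_fix_one hk).1 (e ▸ (conj_fix h1).2 ((AA_fix_one (by omega : 3 < 8)).2 (by simp)))
  simp only [List.mem_cons, List.not_mem_nil, or_false] at f
  have fin : n * (n * aK 3 * n⁻¹) * n⁻¹ = aK 3 → n ^ 2 * aK 3 = aK 3 * n ^ 2 := fun q => by
    conv_rhs => rw [← q]
    rw [pow_two]; group
  rcases f with rfl | rfl | rfl | rfl
  · have : aK 3 = aK 0 := by
      rw [aK_zero]; exact conj_eq_one_iff.1 e
    exact absurd (aL_inj (by omega) (by omega) this) (by omega)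
  · exact fin (by rw [e, e])
  · refine fin ?_
    rw [e]
    calc n * aK 4 * n⁻¹ = n * aK 3 * n⁻¹ * (n * aK 7 * n⁻¹) := by rw [← m34]; group
      _ = aK 3 := by rw [e, k7, m47]
  · have : aK 3 = aK 7 := by
      have := e.trans k7.symm
      simpa using this
    exact absurd (aL_inj (by omega) (by omega) this) (by omega)

theorem sq_cen2 (h : LD Γ Ω AA) {m : OG Q8} (hn : m ∈ Γ) (h5 : ap m (dc8 5) = dc8 5)
    (h1 : ap m (dc8 1) = dc8 1) (h7 : m * aK 7 = aK 7 * m) (h3 : m * aK 3 = aK 3 * m) :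
    ∀ a ∈ AA, m ^ 2 * a = a * m ^ 2 := by
  have m34 : aK 3 * aK 7 = aK 4 := aL_mul (by omega) (by omega)
  have hz : ∀ k ∈ [0, 3, 4, 7], m * aK k = aK k * m := by
    intro k hk
    simp only [List.mem_cons, List.not_mem_nil, or_false] at hk
    rcases hk with rfl | rfl | rfl | rfl
    · rw [aK_zero, mul_one, one_mul]
    · exact h3
    · rw [← m34, ← mul_assoc, h3, mul_assoc, h7, mul_assoc]
    · exact h7
  intro a ha
  obtain ⟨j, hj, rfl⟩ := mem_AA.1 ha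
  obtain ⟨k, hk, e⟩ := mem_AA.1 (stab h m hn h5 _ ha)
  have f : j ∈ [0, 3, 4, 7] ↔ k ∈ [0, 3, 4, 7] := by
    rw [← AA_fix_one hj, ← AA_fix_one hk, ← e, conj_fix h1]
  have x : ∀ j < 8, ∀ k < 8, (j ∈ [0, 3, 4, 7] ↔ k ∈ [0, 3, 4, 7]) → j ^^^ k ∈ [0, 3, 4, 7] := by decide
  have c := hz _ (x j hj k hk f)
  have e1 : aK j * aK k = aK (j ^^^ k) := aL_mul hj (by omega)
  have e2 : aK k = aK j * aK (j ^^^ k) := by rw [← e1, ← mul_assoc, AA_sq ha, one_mul]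
  have e3 : m * aK k * m⁻¹ = aK j := by
    calc m * aK k * m⁻¹ = m * aK j * m⁻¹ * (m * aK (j ^^^ k) * m⁻¹) := by rw [e2]; group
      _ = aK k * aK (j ^^^ k) := by rw [e, c, mul_inv_cancel_right]
      _ = aK j := by
        rw [← e1, AA_comm ha (aK_mem hk), ← mul_assoc, AA_sq (aK_mem hk), one_mul]
  calc m ^ 2 * aK j = m * (m * aK j * m⁻¹) * m⁻¹ * m ^ 2 := by rw [pow_two]; group
    _ = _ := by rw [e, e3]

theorem mem_of_fix (h : LD Γ Ω AA) {n : OG Q8} (hn : n ∈ Γ) (h1 : ap n (dc8 1) = dc8 1)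
    (hc : aK 7 * n = n * aK 7) : n ∈ AA := by
  have h5 := cen_fix h hn hc
  have c7 : Commute n (aK 7) := hc.symm
  have h4 := sq_cen2 h (pow_mem hn 2) (pow_fix h5 2) (pow_fix h1 2) (c7.pow_left 2)
    (sq_cen h hn h5 h1 hc)
  obtain ⟨s, u, hu, e⟩ := Nat.exists_eq_two_pow_mul_odd (orderOf_pos n).ne'
  have g1 : n ^ 2 ^ (s + 2) = 1 := by
    refine triv_of_cen (Odd.of_dvd_nat hu (orderOf_dvd_of_pow_eq_one ?_)) (fun a ha => ?_) (pow_fix h5 _)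
    · rw [← pow_mul, show 2 ^ (s + 2) * u = orderOf n * 4 by rw [e]; ring, pow_mul, pow_orderOf_eq_one,
        one_pow]
    · have : Commute ((n ^ 2) ^ 2) a := h4 a ha
      have e2 : n ^ 2 ^ (s + 2) = ((n ^ 2) ^ 2) ^ 2 ^ s := by
        rw [← pow_mul, ← pow_mul]; congr 1; ring
      rw [e2]; exact this.pow_left _
  have hp : IsPGroup 2 (zpowers n) := by
    rintro ⟨_, i, rfl⟩
    refine ⟨s + 2, Subtype.ext ?_⟩
    change (n ^ i) ^ 2 ^ (s + 2) = 1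
    rw [← zpow_natCast, ← zpow_mul, mul_comm, zpow_mul, zpow_natCast, g1, one_zpow]
  have hN : zpowers n ≤ normalizer (AA : Set (OG Q8)) :=
    zpowers_le.2 (mem_normalizer_fintype (stab h n hn h5))
  exact le_AA h (zpowers_le.2 hn) (hp.to_sup_of_normal_right' two_AA hN) (mem_zpowers n)

end L2

open L2 in
theorem LD.lc {Γ : Subgroup (OG Q8)} {Ω : Set V8} (h : LD Γ Ω AA) : LC Γ Ω DD ∨ LC Γ Ω EE := by
  obtain ⟨R, hR, hn, ho, hm⟩ := zstar h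
  have hc := aK_mem (by omega : 7 < 8)
  have cc := AA_sq hc
  have ci : (aK 7)⁻¹ = aK 7 := inv_eq_of_mul_eq_one_right cc
  have dec : ∀ γ ∈ Γ, ∃ δ ∈ R, aK 7 * δ * (aK 7)⁻¹ = δ⁻¹ ∧ aK 7 * (δ * γ) = δ * γ * aK 7 := by
    intro γ hγ
    have m : aK 7 * (γ * aK 7 * γ⁻¹) ∈ R := by
      have := hm γ hγ
      rwa [ci, mul_assoc, mul_assoc, ← mul_assoc γ] at this
    obtain ⟨j, hj⟩ := ho _ m
    have t2 : γ * aK 7 * γ⁻¹ * (γ * aK 7 * γ⁻¹) = 1 := by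
      calc _ = γ * (aK 7 * aK 7) * γ⁻¹ := by group
        _ = 1 := by rw [cc]; group
    obtain ⟨e1, e2⟩ := dih cc t2 (j := j) (by rw [← hj]; exact pow_orderOf_eq_one _)
    refine ⟨_, pow_mem m (j + 1), e2, ?_⟩
    rw [← mul_assoc, e1]; group
  have r5 : ∀ r ∈ R, ap r (dc8 5) = dc8 5 → r = 1 := by
    intro r hr h5
    refine triv_of_cen (ho r hr) (fun a ha => ?_) h5
    have m1 : r * a * r⁻¹ * a⁻¹ ∈ AA := mul_mem (stab h r (hR hr) h5 a ha) (inv_mem ha)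
    have m2 : r * a * r⁻¹ * a⁻¹ ∈ R := by
      have := mul_mem hr (hn a (AA_leG h ha) _ (inv_mem hr))
      rwa [← mul_assoc, ← mul_assoc] at this
    have e : r * a * r⁻¹ * a⁻¹ = 1 := by
      obtain ⟨j, hj⟩ := ho _ m2
      have := pow_orderOf_eq_one (r * a * r⁻¹ * a⁻¹)
      rwa [hj, pow_succ, pow_mul, pow_two, AA_sq m1, one_pow, one_mul] at this
    calc r * a = r * a * r⁻¹ * a⁻¹ * (a * r) := by group
      _ = _ := by rw [e, one_mul]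
  have inv : ∀ r ∈ R, aK 7 * r * (aK 7)⁻¹ = r⁻¹ := by
    intro r hr
    obtain ⟨δ, hδ, e1, e2⟩ := dec r (hR hr)
    have := r5 _ (mul_mem hδ hr) (cen_fix h (hR (mul_mem hδ hr)) e2)
    obtain rfl : r = δ⁻¹ := eq_inv_of_mul_eq_one_right this
    calc aK 7 * δ⁻¹ * (aK 7)⁻¹ = (aK 7 * δ * (aK 7)⁻¹)⁻¹ := by group
      _ = _ := by rw [e1]
  have comm : ∀ r ∈ R, ∀ s ∈ R, r * s = s * r := by
    intro r hr s hs
    have e := inv _ (mul_mem hr hs)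
    have e2 : aK 7 * (r * s) * (aK 7)⁻¹ = r⁻¹ * s⁻¹ := by rw [← inv r hr, ← inv s hs]; group
    exact inv_injective (by rw [← e, e2, mul_inv_rev])
  have hD : DD ≤ R := by
    intro d hd
    have := hm d (DD_leG h hd)
    rw [c_inv d (DD_le hd)] at this
    have e : d⁻¹ * d⁻¹ = d := by
      calc d⁻¹ * d⁻¹ = d⁻¹ * d⁻¹ * d ^ 3 := by rw [EE_cube d (DD_le hd), mul_one]
        _ = d := by group
    rwa [e] at this
  have hE : R ≤ EE := by
    intro r hr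
    obtain ⟨t, ht, e⟩ := thA h _ (h.inv _ h.mem r (hR hr))
    obtain ⟨x, hx, e'⟩ := Th_orbit t ht
    have : r = x := span_D fun d hd => by
      rw [← ap_mul, comm r hr d (hD hd), ap_mul, e, ← e', ← ap_mul, ← EE_comm x hx d (DD_le hd), ap_mul]
    rwa [this]
  have fix : ∀ γ ∈ Γ, ap γ (dc8 1) = dc8 1 → γ ∈ R ⊔ AA := by
    intro γ hγ h1
    obtain ⟨δ, hδ, e1, e2⟩ := dec γ hγ
    have c1 : ap (aK 7) (dc8 1) = dc8 1 := (AA_fix_one (by omega : 7 < 8)).2 (by simp)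
    have f1 : ap (aK 7) (ap δ (dc8 1)) = ap δ (dc8 1) := by
      have := congrArg (fun g => ap g (dc8 1)) e2
      simpa only [ap_mul, h1, c1] using this
    have f2 : ap δ⁻¹ (dc8 1) = ap δ (dc8 1) := by
      rw [← e1, ap_mul, ap_mul, ci, c1, f1]
    have f3 : ap δ (ap δ (dc8 1)) = dc8 1 := by rw [← f2, ap_ap_inv]
    have f4 : ap δ (dc8 1) = dc8 1 := by
      have := congrArg (fun g => ap g (dc8 1)) (EE_cube δ (hE hδ))
      simpa only [pow_succ, pow_zero, one_mul, ap_mul, f3, ap_one] using this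
    have := mem_of_fix h (mul_mem (hR hδ) hγ) (by rw [ap_mul, h1, f4]) e2
    have e : γ = δ⁻¹ * (δ * γ) := by group
    rw [e]
    exact mul_mem (mem_sup_left (inv_mem hδ)) (mem_sup_right this)
  have key : LC Γ Ω R := by
    refine ⟨hR, hn, fun γ hγ => ?_, stab h, orb h, fun h1 => ?_, fix, fun γ hγ h1 => ?_⟩
    · obtain ⟨δ, hδ, -, e2⟩ := dec γ hγ
      have := cen_fix h (mul_mem (hR hδ) hγ) e2
      exact ⟨δ⁻¹, inv_mem hδ, by conv_rhs => rw [← this, ap_mul, ap_inv_ap]⟩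
    · obtain ⟨t, ht, e⟩ := thA h _ h1
      exact one_nmem_Th t ht e
    · exact rk_EA (sup_le_sup_right hE _ (fix γ hγ (h1 1 (by simp)))) h1
  rcases eq_DD_or hD hE with rfl | rfl
  · exact Or.inl key
  · exact Or.inr key

end Cfsg.Agent.P83
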