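import Cfsg.Agent.P83.BaseV

/-! Linear facts: the `A × B` lemma, types of involutions, the orbit `Th`. -/

set_option autoImplicit false

namespace Cfsg.Agent.P83

open Subgroup H97 H15 H11 CO1 CO2 QuadraticMap H4.GF

namespace LinAx

theorem ow_app (u w : List ℕ) : ow (u ++ w) = ow u * ow w := by
  rw [ow, List.map_append, List.prod_append]; rfl

theorem ow_nil : ow [] = 1 := rfl

theorem ow_one (i : ℕ) : ow [i] = ol i := by simp [ow]

theorem aL_nq : ∀ k < 16, ∀ i ∈ aL k, i ∈ nq := by decide +kernel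

/-- the codes of the elements of `A16` -/
def aC (k : ℕ) : ℕ := [0x8040201008040201, 0x2112844802010804, 0x2010804002010804, 0x8448211208040201,
  0x80c020300c040301, 0x213384cc03010c04, 0x203080c003010c04, 0x84cc21330c040301, 0x8040211208040201,
  0x2112804002010804, 0x2010844802010804, 0x8448201008040201, 0x80c021330c040301, 0x213380c003010c04,
  0x203084cc03010c04, 0x84cc20300c040301].getD k 0

theorem cW_aL : ∀ k < 16, cW (aL k) = aC k := by decide +kernel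

theorem ap_aL {k c : ℕ} (hk : k < 16) (hc : c < 256) : ap (ow (aL k)) (dc8 c) = dc8 (apn (aC k) c) := by
  rw [ap_ow (aL_nq k hk) hc, cW_aL k hk]

theorem dinj {a b : ℕ} (ha : a < 256) (hb : b < 256) : dc8 a = dc8 b ↔ a = b :=
  ⟨cd_dc8.inj a ha b hb, congrArg dc8⟩

theorem fx_aL {k c : ℕ} (hk : k < 16) (hc : c < 256) : ap (ow (aL k)) (dc8 c) = dc8 c ↔ apn (aC k) c = c := by
  rw [ap_aL hk hc, dinj (apn_lt _ _) hc]

theorem xlt {a b : ℕ} (ha : a < 256) (hb : b < 256) : a ^^^ b < 256 := Nat.xor_lt_two_pow (n := 8) ha hb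

/-- the image of `g + 1` is singular -/
def P2 (g : OG Q8) : Prop := ∀ v, Q8 (ap g v + v) = 0

/-- the kernel of `g + 1` lies in the image -/
def P3 (g : OG Q8) : Prop := ∀ v, ap g v = v → ∃ u, v = ap g u + u

theorem P2.conj {g : OG Q8} (h : P2 g) (γ : OG Q8) : P2 (γ * g * γ⁻¹) := fun v => by
  have := h (ap γ⁻¹ v)
  rwa [← Q_ap γ, ap_add, ap_ap_inv, ← ap_mul, ← ap_mul] at this

theorem P3.conj {g : OG Q8} (h : P3 g) (γ : OG Q8) : P3 (γ * g * γ⁻¹) := fun v hv => by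
  obtain ⟨u, e⟩ := h (ap γ⁻¹ v) (by
    have := congrArg (ap γ⁻¹) hv
    rwa [ap_mul, ap_mul, ap_inv_ap] at this)
  refine ⟨ap γ u, ?_⟩
  rw [ap_mul, ap_mul, ap_inv_ap, ← ap_add, ← e, ap_ap_inv]

theorem P2_iff {k : ℕ} (hk : k < 16) : P2 (ow (aL k)) ↔ k ∈ [0, 1, 2, 3, 4, 5, 6, 8, 11] := by
  have key : ∀ k < 16, (∀ c < 256, M8.testBit (apn (aC k) c ^^^ c) = false) ↔
      k ∈ [0, 1, 2, 3, 4, 5, 6, 8, 11] := by decide +kernel
  rw [← key k hk]
  have e : ∀ c < 256, Q8 (ap (ow (aL k)) (dc8 c) + dc8 c) = 0 ↔ M8.testBit (apn (aC k) c ^^^ c) = false := by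
    intro c hc
    rw [ap_aL hk hc, ← cd_dc8.xor, cd_dc8.q _ (xlt (apn_lt _ _) hc), bz0]
  refine ⟨fun h c hc => (e c hc).1 (h _), fun h v => ?_⟩
  obtain ⟨c, hc, rfl⟩ := cd_dc8.surj v
  exact (e c hc).2 (h c hc)

theorem P3_iff {k : ℕ} (hk : k < 16) : P3 (ow (aL k)) ↔ k ∉ [0, 8, 11] := by
  have key : ∀ k < 16, (∀ c < 256, apn (aC k) c = c → ∃ u < 256, c = apn (aC k) u ^^^ u) ↔
      k ∉ [0, 8, 11] := by decide +kernel
  rw [← key k hk]
  have e : ∀ c < 256, ∀ u < 256, dc8 c = ap (ow (aL k)) (dc8 u) + dc8 u ↔ c = apn (aC k) u ^^^ u := by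
    intro c hc u hu
    rw [ap_aL hk hu, ← cd_dc8.xor, dinj hc (xlt (apn_lt _ _) hu)]
  refine ⟨fun h c hc hf => ?_, fun h v hv => ?_⟩
  · obtain ⟨u, hu⟩ := h _ ((fx_aL hk hc).2 hf)
    obtain ⟨u, hu', rfl⟩ := cd_dc8.surj u
    exact ⟨u, hu', (e c hc u hu').1 hu⟩
  · obtain ⟨c, hc, rfl⟩ := cd_dc8.surj v
    obtain ⟨u, hu, e1⟩ := h c hc ((fx_aL hk hc).1 hv)
    exact ⟨_, (e c hc u hu).2 e1⟩

theorem app_nq {u w : List ℕ} (hu : ∀ i ∈ u, i ∈ nq) (hw : ∀ i ∈ w, i ∈ nq) : ∀ i ∈ u ++ w, i ∈ nq :=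
  fun i hi => (List.mem_append.1 hi).elim (hu i) (hw i)

theorem comm_iff {j k : ℕ} (hj : j < 16) (hk : k < 16) :
    ow (aL j) * ow (aL k) = ow (aL k) * ow (aL j) ↔ cW (aL j ++ aL k) = cW (aL k ++ aL j) := by
  rw [← ow_app, ← ow_app, ow_eq (app_nq (aL_nq j hj) (aL_nq k hk)) (app_nq (aL_nq k hk) (aL_nq j hj))]

theorem sq_iff {k : ℕ} (hk : k < 16) : ow (aL k) * ow (aL k) = 1 ↔ k ∉ [9, 10, 13, 14] := by
  have key : ∀ k < 16, cW (aL k ++ aL k) = cW [] ↔ k ∉ [9, 10, 13, 14] := by decide +kernel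
  rw [← ow_app, ← ow_nil, ow_eq (app_nq (aL_nq k hk) (aL_nq k hk)) (by simp), key k hk]

theorem back {γ g k : OG Q8} (h : γ * g * γ⁻¹ = k) : γ⁻¹ * k * γ⁻¹⁻¹ = g := by rw [← h]; group

/-- the words of `EE` -/
def ewd (i j k l : ℕ) : List ℕ :=
  List.replicate i 23 ++ List.replicate j 25 ++ List.replicate k 27 ++ List.replicate l 32

theorem ewd_nq (i j k l : ℕ) : ∀ x ∈ ewd i j k l, x ∈ nq := by
  intro x hx
  simp only [ewd, List.mem_append, List.mem_replicate] at hx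
  rcases hx with ((⟨-, rfl⟩ | ⟨-, rfl⟩) | ⟨-, rfl⟩) | ⟨-, rfl⟩ <;> decide

theorem mem_EE' {g : OG Q8} : g ∈ EE ↔ ∃ i < 3, ∃ j < 3, ∃ k < 3, ∃ l < 3, g = ow (ewd i j k l) := mem_EE

theorem eq_of_list {B : Subgroup (OG Q8)} (h2 : 8 ≤ Nat.card B) {l : List ℕ} (hl : l.length ≤ 8)
    (h : ∀ g ∈ B, ∃ k ∈ l, g = ow (aL k)) : ∀ g, g ∈ B ↔ ∃ k ∈ l, g = ow (aL k) := by
  classical
  have e : (B : Set (OG Q8)) = ↑(l.map fun k => ow (aL k)).toFinset := by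
    refine Set.eq_of_subset_of_ncard_le (fun g hg => ?_) ?_ (Finset.finite_toSet _)
    · obtain ⟨k, hk, rfl⟩ := h g hg
      simpa using ⟨k, hk, rfl⟩
    · rw [Set.ncard_coe_finset]
      refine ((List.toFinset_card_le _).trans ?_).trans h2
      rwa [List.length_map]
  intro g
  rw [← SetLike.mem_coe, e]
  simp [eq_comm]

end LinAx

open LinAx

theorem axb {P : Subgroup (OG Q8)} (hP : IsPGroup 2 P) {g : OG Q8} (ho : Odd (orderOf g))
    (hc : ∀ p ∈ P, g * p = p * g) (hf : ∀ v, (∀ p ∈ P, ap p v = v) → ap g v = v) : g = 1 := by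
  classical
  let W : AddSubgroup V8 :=
    { carrier := {v | ∃ u, v = ap g u + u}
      add_mem' := by
        rintro _ _ ⟨a, rfl⟩ ⟨b, rfl⟩
        exact ⟨a + b, by rw [ap_add]; abel⟩
      zero_mem' := ⟨0, by simp⟩
      neg_mem' := by
        rintro _ ⟨a, rfl⟩
        exact ⟨a, vneg _⟩ }
  have inv : ∀ p : P, ∀ w ∈ W, ap p.1 w ∈ W := by
    rintro p _ ⟨u, rfl⟩
    exact ⟨ap p.1 u, by rw [ap_add, ← ap_mul, ← ap_mul, hc p.1 p.2]⟩
  let _ : MulAction P W :=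
    { smul := fun p w => ⟨ap p.1 w.1, inv p _ w.2⟩
      one_smul := fun w => Subtype.ext (ap_one _)
      mul_smul := fun p q w => Subtype.ext (ap_mul _ _ _) }
  by_contra hg
  obtain ⟨u0, hu0⟩ : ∃ u, ap g u + u ≠ 0 := by
    by_contra! hh
    exact hg (OG_ext fun x => by rw [ap_one, ← vneg x, ap_neg, vneg, eq_neg_iff_add_eq_zero]; exact hh x)
  have h2 : 2 ∣ Nat.card W := by
    let w0 : W := ⟨_, u0, rfl⟩
    have : addOrderOf w0 = 2 := by
      exact addOrderOf_eq_prime (Subtype.ext (by simpa [two_nsmul] using vadd_self _))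
        fun e => hu0 (congrArg Subtype.val e)
    exact (Dvd.intro 1 ((mul_one 2).trans this.symm)).trans (addOrderOf_dvd_natCard w0)
  obtain ⟨w, hw, hne⟩ := hP.exists_fixed_point_of_prime_dvd_card_of_fixed_point W h2 (a := 0)
    (fun p => Subtype.ext (ap_zero _))
  have hw1 : ap g w.1 = w.1 := hf _ fun p hp => congrArg Subtype.val (hw ⟨p, hp⟩)
  obtain ⟨w, u, hu⟩ := w
  have st : ∀ i : ℕ, ap (g ^ i) u = u + i • w := by
    intro i
    induction i with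
    | zero => simp
    | succ i ih =>
      have e1 : ap g u = u + w := by rw [hu, add_comm (ap g u), ← add_assoc, vadd_self, zero_add]
      have e2 : ap g (i • w) = i • w := by rw [ap_def, map_nsmul, ← ap_def]; exact congrArg _ hw1
      rw [pow_succ', ap_mul, ih, ap_add, e1, e2, succ_nsmul]; abel
  obtain ⟨m, hm⟩ := ho
  have := st (orderOf g)
  rw [pow_orderOf_eq_one, ap_one, hm, succ_nsmul, mul_comm, mul_nsmul', two_nsmul, vadd_self, nsmul_zero,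
    zero_add, left_eq_add] at this
  exact hne (Subtype.ext this.symm)

theorem aL_inj {j k : ℕ} (hj : j < 16) (hk : k < 16) (h : ow (aL j) = ow (aL k)) : j = k := by
  have key : ∀ j < 16, ∀ k < 16, aC j = aC k → j = k := by decide +kernel
  rw [ow_eq (aL_nq j hj) (aL_nq k hk), cW_aL j hj, cW_aL k hk] at h
  exact key j hj k hk h

theorem typ_a {γ : OG Q8} {j k : ℕ} (hj : j ∈ [1, 2, 3, 4, 5, 6]) (hk : k < 16)
    (h : γ * ow (aL j) * γ⁻¹ = ow (aL k)) : k ∈ [1, 2, 3, 4, 5, 6] := by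
  have t : j < 16 ∧ j ∈ [0, 1, 2, 3, 4, 5, 6, 8, 11] ∧ j ∉ [0, 8, 11] := by clear h; revert j; decide
  have h2 := (P2_iff hk).1 (h ▸ ((P2_iff t.1).2 t.2.1).conj γ)
  have h3 := (P3_iff hk).1 (h ▸ ((P3_iff t.1).2 t.2.2).conj γ)
  clear h; revert k; decide

theorem typ_c {γ : OG Q8} {j k : ℕ} (hj : j ∈ [7, 12, 15]) (hk : k < 16)
    (h : γ * ow (aL j) * γ⁻¹ = ow (aL k)) : k ∈ [7, 12, 15] := by
  have t : j < 16 ∧ j ∉ [0, 1, 2, 3, 4, 5, 6, 8, 11] ∧ j ∉ [9, 10, 13, 14] := by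
    clear h; revert j; decide
  have h2 : k ∉ [0, 1, 2, 3, 4, 5, 6, 8, 11] := fun e =>
    t.2.1 ((P2_iff t.1).1 (back h ▸ ((P2_iff hk).2 e).conj γ⁻¹))
  have h3 : k ∉ [9, 10, 13, 14] := (sq_iff hk).1 (by
    rw [← h, conj_mul, (sq_iff t.1).2 t.2.2, mul_one, mul_inv_cancel])
  clear h; revert k; decide

theorem typ_o {γ : OG Q8} {j k : ℕ} (hj : j ∈ [8, 11]) (hk : k < 16)
    (h : γ * ow (aL j) * γ⁻¹ = ow (aL k)) : k ∈ [8, 11] := by
  have t : j < 16 ∧ j ∈ [0, 8, 11] ∧ j ≠ 0 := by clear h; revert j; decide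
  have h2 : k ∈ [0, 8, 11] := by
    by_contra e
    exact (P3_iff t.1).1 (back h ▸ ((P3_iff hk).2 e).conj γ⁻¹) t.2.1
  have h3 : k ≠ 0 := by
    rintro rfl
    refine t.2.2 (aL_inj t.1 hk ?_)
    rw [← back h, show ow (aL 0) = 1 from rfl, mul_one, mul_inv_cancel]
  clear h; revert k; decide

theorem aL_mul {j k : ℕ} (hj : j < 8) (hk : k < 16) : ow (aL j) * ow (aL k) = ow (aL (j ^^^ k)) := by
  have key : ∀ j < 8, ∀ k < 16, cW (aL j ++ aL k) = cW (aL (j ^^^ k)) := by decide +kernel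
  have hj' : j < 16 := by omega
  rw [← ow_app, ow_eq (app_nq (aL_nq j hj') (aL_nq k hk))
    (aL_nq _ (Nat.xor_lt_two_pow (n := 4) hj' hk))]
  exact key j hj k hk

theorem ela_A16 {B : Subgroup (OG Q8)} (h1 : B ≤ A16) (h2 : 8 ≤ Nat.card B) (h3 : ∀ b ∈ B, b * b = 1) :
    B = AA ∨ ∀ g, g ∈ B ↔ ∃ k ∈ [0, 3, 4, 7, 8, 11, 12, 15], g = ow (aL k) := by
  have cm : ∀ a ∈ B, ∀ b ∈ B, a * b = b * a := fun a ha b hb => by
    have e := h3 _ (B.mul_mem ha hb)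
    rw [← mul_inv_eq_one, mul_inv_rev, inv_eq_of_mul_eq_one_right (h3 a ha), inv_eq_of_mul_eq_one_right (h3 b hb)]
    exact e
  have key : ∀ j ∈ [1, 2, 5, 6], ∀ k < 16, cW (aL j ++ aL k) = cW (aL k ++ aL j) → k ∉ [9, 10, 13, 14] →
      k ∈ List.range 8 := by decide +kernel
  by_cases hh : ∃ j ∈ [1, 2, 5, 6], ow (aL j) ∈ B
  · obtain ⟨j, hj, hjB⟩ := hh
    have hj' : j < 16 := by clear hjB; revert j; decide
    refine Or.inl (Subgroup.ext fun g => ?_)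
    rw [eq_of_list h2 (l := List.range 8) (by simp) (fun g hg => ?_), mem_AA]
    · simp only [List.mem_range]
    · obtain ⟨k, hk, rfl⟩ := mem_A16.1 (h1 hg)
      exact ⟨k, key j hj k hk ((comm_iff hj' hk).1 (cm _ hjB _ hg)) ((sq_iff hk).1 (h3 _ hg)), rfl⟩
  · refine Or.inr (eq_of_list h2 (by simp) fun g hg => ?_)
    obtain ⟨k, hk, rfl⟩ := mem_A16.1 (h1 hg)
    have a1 := (sq_iff hk).1 (h3 _ hg)
    have a2 : k ∉ [1, 2, 5, 6] := fun e => hh ⟨k, e, hg⟩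
    refine ⟨k, ?_, rfl⟩
    clear hg; revert k; decide

theorem fix_AA {v : V8} (h : ∀ a ∈ AA, ap a v = v) : v = 0 ∨ v = dc8 5 := by
  have key : ∀ c < 256, apn (aC 1) c = c → apn (aC 2) c = c → apn (aC 4) c = c → c = 0 ∨ c = 5 := by
    decide +kernel
  obtain ⟨c, hc, rfl⟩ := cd_dc8.surj v
  have e : ∀ k < 8, apn (aC k) c = c := fun k hk =>
    (fx_aL (by omega) hc).1 (h _ (mem_AA.2 ⟨k, hk, rfl⟩))
  rcases key c hc (e 1 (by decide)) (e 2 (by decide)) (e 4 (by decide)) with rfl | rfl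
  exacts [Or.inl cd_dc8.zero, Or.inr rfl]

theorem fix_Z {v : V8} (h3 : ap (ow (aL 3)) v = v) (h4 : ap (ow (aL 4)) v = v) :
    ∃ c ∈ [0, 1, 4, 5], v = dc8 c := by
  have key : ∀ c < 256, apn (aC 3) c = c → apn (aC 4) c = c → c ∈ [0, 1, 4, 5] := by decide +kernel
  obtain ⟨c, hc, rfl⟩ := cd_dc8.surj v
  exact ⟨c, key c hc ((fx_aL (by decide) hc).1 h3) ((fx_aL (by decide) hc).1 h4), rfl⟩

theorem AA_fix : ∀ a ∈ AA, ap a (dc8 5) = dc8 5 := by
  have key : ∀ k < 8, apn (aC k) 5 = 5 := by decide +kernel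
  intro a ha
  obtain ⟨k, hk, rfl⟩ := mem_AA.1 ha
  exact (fx_aL (by omega) (by decide)).2 (key k hk)

theorem AA_fix_one {k : ℕ} (hk : k < 8) : ap (ow (aL k)) (dc8 1) = dc8 1 ↔ k ∈ [0, 3, 4, 7] := by
  have key : ∀ k < 8, apn (aC k) 1 = 1 ↔ k ∈ [0, 3, 4, 7] := by decide +kernel
  rw [fx_aL (by omega) (by decide), key k hk]

theorem Th_orbit : ∀ c ∈ Th, ∃ e ∈ EE, ap e (dc8 5) = dc8 c := by
  have key : ∀ c ∈ Th, ∃ i < 3, ∃ j < 3, ∃ k < 3, ∃ l < 3, apn (cW (ewd i j k l)) 5 = c := by decide +kernel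
  intro c hc
  obtain ⟨i, hi, j, hj, k, hk, l, hl, e⟩ := key c hc
  exact ⟨_, mem_EE'.2 ⟨i, hi, j, hj, k, hk, l, hl, rfl⟩, by rw [ap_ow (ewd_nq _ _ _ _) (by decide), e]⟩

theorem span_D {g k : OG Q8} (h : ∀ d ∈ DD, ap g (ap d (dc8 5)) = ap k (ap d (dc8 5))) : g = k := by
  have key : ∀ c ∈ [5, 10, 24, 26, 36, 37, 66, 129], ∃ i < 3, ∃ j < 3, ∃ k < 3, apn (cW (ewd i j k 0)) 5 = c := by
    decide +kernel
  have b : ∀ c ∈ [5, 10, 24, 26, 36, 37, 66, 129], ap g (dc8 c) = ap k (dc8 c) := by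
    intro c hc
    obtain ⟨i, hi, j, hj, l, hl, e⟩ := key c hc
    have := h (ow (ewd i j l 0)) (mem_DD.2 ⟨i, hi, j, hj, l, hl, by simp [ewd]⟩)
    rwa [ap_ow (ewd_nq _ _ _ _) (by decide), e] at this
  have x : ∀ {a b : ℕ}, ap g (dc8 a) = ap k (dc8 a) → ap g (dc8 b) = ap k (dc8 b) →
      ap g (dc8 (a ^^^ b)) = ap k (dc8 (a ^^^ b)) := fun ha hb => by
    rw [cd_dc8.xor, ap_add, ap_add, ha, hb]
  have b5 := b 5 (by decide)
  have b10 := b 10 (by decide)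
  have b24 := b 24 (by decide)
  have b26 := b 26 (by decide)
  have b37 := b 37 (by decide)
  have c1 : ap g (dc8 1) = ap k (dc8 1) := x (b 36 (by decide)) b37
  have c2 : ap g (dc8 2) = ap k (dc8 2) := x b24 b26
  obtain ⟨A, hA⟩ := exists_is g
  refine Is.ext cd_dc8 hA fun i hi => (Eq.symm ?_).trans (hA i hi)
  interval_cases i
  exacts [c1, c2, x b5 c1, x b10 c2, x b10 b26, x b5 b37, x (b 66 (by decide)) c2, x (b 129 (by decide)) c1]

theorem c_fix_Th : ∀ c ∈ Th, ap (ow (aL 7)) (dc8 c) = dc8 c → c = 5 := by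
  have key : ∀ c ∈ Th, c < 256 ∧ (apn (aC 7) c = c → c = 5) := by decide +kernel
  exact fun c hc h => (key c hc).2 ((fx_aL (by decide) (key c hc).1).1 h)

theorem c_inv : ∀ e ∈ EE, ow (aL 7) * e * (ow (aL 7))⁻¹ = e⁻¹ := by
  have key : ∀ i < 3, ∀ j < 3, ∀ k < 3, ∀ l < 3, cW (ewd i j k l ++ aL 7 ++ ewd i j k l) = cW (aL 7) := by
    decide +kernel
  intro e he
  obtain ⟨i, hi, j, hj, k, hk, l, hl, rfl⟩ := mem_EE'.1 he
  have := (ow_eq (app_nq (app_nq (ewd_nq i j k l) (aL_nq 7 (by decide))) (ewd_nq i j k l))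
    (aL_nq 7 (by decide))).2 (key i hi j hj k hk l hl)
  rw [ow_app, ow_app] at this
  rw [mul_inv_eq_iff_eq_mul, eq_inv_mul_iff_mul_eq, ← mul_assoc, this]

theorem eq_DD_or {R : Subgroup (OG Q8)} (h1 : DD ≤ R) (h2 : R ≤ EE) : R = DD ∨ R = EE := by
  by_cases h : ol 32 ∈ R
  · refine Or.inr (le_antisymm h2 ((closure_le _).2 ?_))
    rintro _ ⟨i, hi, rfl⟩
    simp only [Set.mem_ofPred_eq, List.mem_cons, List.not_mem_nil, or_false] at hi
    rcases hi with rfl | rfl | rfl | rfl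
    exacts [h1 (ol_mem_go (by decide)), h1 (ol_mem_go (by decide)), h1 (ol_mem_go (by decide)), h]
  · refine Or.inl (le_antisymm (fun e he => ?_) h1)
    obtain ⟨i, hi, j, hj, k, hk, l, hl, rfl⟩ := mem_EE.1 (h2 he)
    have hd := mem_DD.2 ⟨i, hi, j, hj, k, hk, rfl⟩
    rw [ow_app] at he ⊢
    have h3 := (R.mul_mem_cancel_left (h1 hd)).1 he
    interval_cases l
    · exact DD.mul_mem hd DD.one_mem
    · exact absurd (ow_one 32 ▸ h3) h
    · refine absurd ?_ h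
      have e : ow (List.replicate 2 32) = ol 32 * ol 32 := by simp [ow, List.replicate]
      have c := EE_cube _ (ol_mem_go (l := [23, 25, 27, 32]) (i := 32) (by decide))
      rw [e] at h3
      rw [← R.inv_mem_iff, inv_eq_of_mul_eq_one_right (by rw [← c, pow_succ', pow_two])]
      exact h3

theorem one_nmem_Th : ∀ c ∈ Th, dc8 1 ≠ dc8 c := by
  have key : ∀ c ∈ Th, c < 256 ∧ 1 ≠ c := by decide +kernel
  exact fun c hc h => (key c hc).2 ((dinj (by decide) (key c hc).1).1 h)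

set_option synthInstance.maxSize 2000 in
theorem rk_EA {g : OG Q8} (h : g ∈ EE ⊔ AA) (h1 : ∀ c ∈ [1, 2, 4, 8, 112], ap g (dc8 c) = dc8 c) : g = 1 := by
  have key : ∀ i < 3, ∀ j < 3, ∀ k < 3, ∀ l < 3, ∀ m < 8,
      (∀ c ∈ [1, 2, 4, 8, 112], apn (cW (ewd i j k l ++ aL m)) c = c) → cW (ewd i j k l ++ aL m) = cW [] := by
    decide +kernel
  obtain ⟨d, hd, a, ha, rfl⟩ := mem_EA.1 h
  obtain ⟨i, hi, j, hj, k, hk, l, hl, rfl⟩ := mem_EE'.1 hd
  obtain ⟨m, hm, rfl⟩ := mem_AA.1 ha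
  have n := app_nq (ewd_nq i j k l) (aL_nq m (by omega))
  rw [← ow_app] at h1 ⊢
  refine (ow_eq n (by simp)).2 (key i hi j hj k hk l hl m hm fun c hc => ?_)
  have hc' : c < 256 := by clear h1; revert c; decide
  have := h1 c hc
  rwa [ap_ow n hc', dinj (apn_lt _ _) hc'] at this

end Cfsg.Agent.P83
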