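import Cfsg.Agent.P83.BaseG
import Cfsg.Agent.H8.LargeX2

/-! The linear data of `C(z) / Q`. -/

set_option autoImplicit false
set_option linter.unusedSectionVars false
set_option linter.unusedVariables false
set_option linter.unusedSimpArgs false

namespace Cfsg.Agent.P83

open Subgroup H97 H15 H11 CO1 CO2 QuadraticMap H4.GF

variable {G : Type*} [Group G] [Finite G] {φ ψ ν : Y → G} {K : Subgroup Y} {bd : ℕ} {π : G → V8} {ρ : G → OG Q8}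

theorem loc_aL_nq : ∀ k < 16, ∀ i ∈ aL k, i ∈ nq := by decide +kernel

theorem loc_t : el 14 = qw 5 := by
  rw [← ev_one, qw]; exact (ev_eq _ _).2 (by decide +kernel)

theorem Fr.loc_rho (h : Fr φ K bd π ρ) {q : Y} (hq : q ∈ Q0) {k : ℕ} (hk : k < 16) (hx : q * ev (aL k) ∈ K) :
    ρ (φ (q * ev (aL k))) = ow (aL k) := by
  have qK : q ∈ K := h.h0.le (C1_le_KL (T0_le_C1 (Q0_le_T0 hq)))
  have aK : ev (aL k) ∈ K := (K.mul_mem_cancel_left qK).1 hx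
  have aC : ev (aL k) ∈ Cz (el 13) := ev_mem fun i hi => nq_Cz i (loc_aL_nq k hk i hi)
  have qO : φ q ∈ Oz (φ (el 13)) := (h.oz _).2 ⟨q, hq, rfl⟩
  rw [h.h0.mul q qK _ aK, h.cx.ρ_mul (h.cx.le qO) (h.h0.cz aK aC), (h.cx.ρ_eq_one (h.cx.le qO)).2 qO, one_mul]
  exact Is.ext cd_dc8 (h.rho aK aC (actQ_ev (loc_aL_nq k hk))) (is_ow (loc_aL_nq k hk))

theorem Fr.loc_syl (h : Fr φ K bd π ρ) {S : Subgroup (OG Q8)} (hS : ∀ x ∈ T1, x ∈ K → ρ (φ x) ∈ S)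
    (P : Subgroup (OG Q8)) (hP : P ≤ h.cx.hom.range) (h2 : IsPGroup 2 P) :
    ∃ γ ∈ h.cx.hom.range, ∀ p ∈ P, γ * p * γ⁻¹ ∈ S := by
  obtain ⟨T, -, hT⟩ := h.h0.exists_T
  have TC : (T : Subgroup G) ≤ Cz (φ (el 13)) := fun g hg => by
    obtain ⟨x, hx, xK, rfl⟩ := (hT g).1 hg
    exact h.h0.cz xK (T1_le_Cz hx)
  have hk : IsPGroup 2 h.cx.hom.ker := fun x => ⟨2, Subtype.ext (Subtype.ext
    (h.cx.pow_four ((h.cx.ρ_eq_one x.1.2).1 x.2)))⟩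
  obtain ⟨R, hR⟩ := (h2.comap_of_ker_isPGroup h.cx.hom hk).exists_le_sylow
  obtain ⟨c, hc⟩ := MulAction.exists_smul_eq (Cz (φ (el 13))) R (T.subtype TC)
  refine ⟨h.cx.hom c, ⟨c, rfl⟩, fun p hp => ?_⟩
  obtain ⟨x, rfl⟩ := hP hp
  have m : c * x * c⁻¹ ∈ ((T.subtype TC : Sylow 2 (Cz (φ (el 13)))) : Subgroup (Cz (φ (el 13)))) := by
    rw [← hc]
    exact Subgroup.smul_mem_pointwise_smul x (MulAut.conj c) R (hR hp)
  obtain ⟨y, hy, yK, e⟩ := (hT _).1 (show ((c * x * c⁻¹ : Cz (φ (el 13))) : G) ∈ (T : Subgroup G) from m)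
  rw [← map_inv, ← map_mul, ← map_mul]
  show ρ ((c * x * c⁻¹ : Cz (φ (el 13))) : G) ∈ S
  rw [← e]; exact hS y hy yK

theorem loc_ela {z : G} (c : Cx Q8 z π ρ) (hQ : Nat.card (Oz z) = 512) {v : V8} (hv : v ∈ Om z π) :
    ∃ B ≤ c.hom.range, 8 ≤ Nat.card B ∧ (∀ b ∈ B, b * b = 1 ∧ ap b v = v) ∧
      ∀ γ ∈ c.hom.range, ap γ v = v → ∀ b ∈ B, γ * b * γ⁻¹ ∈ B := by
  obtain ⟨_, ⟨g, rfl⟩, yQ, ne, rfl⟩ := hv
  have L := lx_cjs c.lx g
  have zP : z ∈ cjs g (Oz z) := H8.lx_symm c.lx yQ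
  have cP : Nat.card (cjs g (Oz z)) = 512 := by rw [card_cjs, hQ]
  generalize cjs g (Oz z) = P at *
  generalize g * z * g⁻¹ = y at *
  refine ⟨(P.subgroupOf (Cz z)).map c.hom, map_le_range _ _, ?_, ?_, ?_⟩
  · have e1 := (ex_of_lx L).card_cent1 zP c.lx.ne ne.symm
    have e2 : Nat.card (P.subgroupOf (Cz z)) = Nat.card (P ⊓ Cz z : Subgroup G) := by
      rw [← inf_subgroupOf_right]
      exact Nat.card_congr (subgroupOfEquivOfLe inf_le_right).toEquiv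
    have e3 := (c.hom.ker.subgroupOf (P.subgroupOf (Cz z))).index_mul_card
    have e4 := relIndex_ker (P.subgroupOf (Cz z)) c.hom
    have e5 : Nat.card (c.hom.ker.subgroupOf (P.subgroupOf (Cz z))) ≤ Nat.card (Oz z ⊓ P : Subgroup G) :=
      Nat.card_le_card_of_injective
        (fun x => ⟨x.1.1.1, (c.ρ_eq_one x.1.1.2).1 x.2, x.1.2⟩) fun a b e =>
          Subtype.ext (Subtype.ext (Subtype.ext (congrArg (fun t : (Oz z ⊓ P : Subgroup G) => (t : G)) e)))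
    have e6 := (ex_of_lx c.lx).card_abelian (M := Oz z ⊓ P) inf_le_left ⟨c.lx.mem, zP⟩ fun a ha b hb => by
      rw [← mul_inv_eq_iff_eq_mul]
      rcases c.lx.comm a ha.1 b hb.1 with f | f
      · exact f
      · exact (L.comm a ha.2 b hb.2).resolve_right fun f' => ne (mul_right_cancel (f'.symm.trans f))
    rw [relIndex] at e4
    rw [e4, e2] at e3
    have e7 : Nat.card (Oz z ⊓ P : Subgroup G) ≤ 32 := by nlinarith
    have e8 : Nat.card (P ⊓ Cz z : Subgroup G) = 256 := by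
      have : Nat.card (P ⊓ Cz z : Subgroup G) = Nat.card (P ⊓ centralizer ({z} : Set G) : Subgroup G) := rfl
      omega
    by_contra lt
    have := Nat.mul_le_mul (show Nat.card ((P.subgroupOf (Cz z)).map c.hom) ≤ 7 by omega) (e5.trans e7)
    omega
  · rintro _ ⟨x, hx, rfl⟩
    refine ⟨?_, ?_⟩
    · rw [← map_mul]
      refine (c.ρ_eq_one (x * x).2).2 ?_
      rcases L.sqr x hx with e | e
      · exact (show ((x * x : Cz z) : G) = 1 from e) ▸ one_mem _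
      · exact (show ((x * x : Cz z) : G) = y from e) ▸ yQ
    · show ap (ρ x) (π y) = π y
      rw [← c.act x x.2 y yQ, L.cen x hx, mul_inv_cancel_right]
  · rintro _ ⟨d, rfl⟩ e _ ⟨x, hx, rfl⟩
    have e' : π y = π ((d : G) * y * (d : G)⁻¹) := by rw [c.act d d.2 y yQ]; exact e.symm
    obtain ⟨d', e1, e2⟩ : ∃ d' : Cz z, c.hom d' = c.hom d ∧ (d' : G) * y = y * d' := by
      rcases c.eq_or yQ (c.norm d.2 yQ) e' with f | f
      · exact ⟨d, rfl, mul_inv_eq_iff_eq_mul.1 f⟩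
      · obtain ⟨q, hq, f'⟩ := c.lx.exists_conj yQ L.ne ne
        refine ⟨(⟨q, c.le hq⟩ : Cz z)⁻¹ * d, ?_, ?_⟩
        · rw [map_mul, map_inv, show c.hom ⟨q, c.le hq⟩ = 1 from (c.ρ_eq_one (c.le hq)).2 hq, inv_one, one_mul]
        · show q⁻¹ * d * y = y * (q⁻¹ * d)
          calc q⁻¹ * d * y = q⁻¹ * (d * y * (d : G)⁻¹) * d := by group
            _ = _ := by rw [f, ← f']; group
    rw [← e1, ← map_inv, ← map_mul, ← map_mul]
    exact ⟨_, L.norm d' e2 x hx, rfl⟩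

theorem Fr.loc_ld (h : Fr φ K bd π ρ) {S : Subgroup (OG Q8)} (hS : ∀ x ∈ T1, x ∈ K → ρ (φ x) ∈ S) :
    LD h.cx.hom.range (Om (φ (el 13)) π) S where
  gens i hi := by
    have h1 : i ∈ nq := by revert i; decide
    have h2 : el i ∈ K := h.h0.le (C1_le_KL (mem_C1 i (by revert i; decide)))
    exact ⟨⟨_, h.h0.cz h2 (nq_Cz i h1)⟩, h.rho_el h1 h2⟩
  syl := h.loc_syl hS
  inv := by
    rintro _ ⟨_, ⟨g, rfl⟩, yQ, ne, rfl⟩ _ ⟨c, rfl⟩
    refine ⟨c * (g * φ (el 13) * g⁻¹) * (c : G)⁻¹, ⟨c * g, by group⟩, h.cx.norm c.2 yQ, fun e => ne ?_,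
      h.cx.act c c.2 _ yQ⟩
    calc g * φ (el 13) * g⁻¹ = (c : G)⁻¹ * (c * (g * φ (el 13) * g⁻¹) * (c : G)⁻¹) * (c : G)⁻¹⁻¹ := by group
      _ = _ := by rw [e]; exact conj_eq_of_Cz (inv_mem c.2)
  mem := by
    have p5 : π (φ (el 14)) = dc8 5 := by rw [loc_t]; exact h.pi 5 (by norm_num)
    refine ⟨φ (el 14), ⟨_, h.h0.t_conj⟩, (h.oz _).2 ⟨_, loc_t ▸ qw_mem 5, rfl⟩, fun e => ?_, p5⟩
    have p0 := h.pi 0 (by norm_num)
    rw [qw_zero, h.h0.mul.one, h.cx.π_one] at p0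
    rw [e, h.cx.π_z, p0] at p5
    exact absurd (cd_dc8.inj 0 (by norm_num) 5 (by norm_num) p5) (by norm_num)
  sing := by
    rintro _ ⟨_, ⟨g, rfl⟩, yQ, ne, rfl⟩
    have L := lx_cjs h.cx.lx g
    exact ⟨fun e => ((h.cx.ker _ yQ).1 e).elim L.ne ne, (h.cx.sq_iff yQ).1 L.sq⟩
  ela v hv := loc_ela h.cx h.card_Q hv

theorem Fr.ld16 (h : Fr φ K bd π ρ) : LD h.cx.hom.range (Om (φ (el 13)) π) A16 :=
  h.loc_ld fun x hx xK => by
    obtain ⟨q, hq, k, hk, rfl⟩ := mem_T1.1 hx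
    exact mem_A16.2 ⟨k, hk, h.loc_rho hq hk xK⟩

theorem Fr.ld8 (h : Fr φ KL 4096 π ρ) : LD h.cx.hom.range (Om (φ (el 13)) π) AA := by
  obtain ⟨T, cT, hT⟩ := h.h0.exists_T
  have le : Nat.card (T1 ⊓ KL : Subgroup Y) ≤ Nat.card T0 := by
    rw [card_T0, ← cT]
    exact Nat.card_le_card_of_injective (fun x => ⟨φ x, (hT _).2 ⟨x, x.2.1, x.2.2, rfl⟩⟩) fun a b e =>
      Subtype.ext (h.h0.injOn a.2.2 b.2.2 (congrArg Subtype.val e))
  have e := eq_of_le_of_card_ge (le_inf T0_le_T1 (T0_le_C1.trans C1_le_KL)) le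
  refine h.loc_ld fun x hx xK => ?_
  obtain ⟨q, hq, k, hk, rfl⟩ := mem_T0.1 (show x ∈ T0 from e ▸ ⟨hx, xK⟩)
  exact mem_AA.2 ⟨k, hk, h.loc_rho hq (by omega) xK⟩

end Cfsg.Agent.P83
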