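import Cfsg.Agent.P83.BaseG
import Cfsg.Agent.CO1.SzGen

/-! The extension of `φ` to `C0`. -/

set_option autoImplicit false

namespace Cfsg.Agent.P83

open Subgroup H97 H15 H11 CO1 CO2 QuadraticMap H4.GF
open Cfsg.Agent.CO1.Sz (graph Good good_graph graph_mono)

/-! ### a graph lemma -/

section
variable {A : Type*} [Group A]

/-- `s` can be moved past the powers of `p` -/
def PsiMv (H : Subgroup A) (p s : A) : Prop := ∀ i : ℤ, ∃ s' ∈ H, ∃ j : ℤ, p ^ i * s = s' * p ^ j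

theorem PsiMv.mul {H : Subgroup A} {p s t : A} (hs : PsiMv H p s) (ht : PsiMv H p t) :
    PsiMv H p (s * t) := fun i => by
  obtain ⟨s', h1, j, e1⟩ := hs i
  obtain ⟨t', h2, k, e2⟩ := ht j
  exact ⟨s' * t', mul_mem h1 h2, k, by rw [← mul_assoc, e1, mul_assoc, e2, mul_assoc]⟩

theorem PsiMv.of_comm {H : Subgroup A} {p s : A} (hs : s ∈ H) (e : s * p = p * s) : PsiMv H p s :=
  fun i => ⟨s, hs, i, ((show Commute s p from e).zpow_right i).eq.symm⟩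

theorem PsiMv.of_inv {H : Subgroup A} {p s : A} (hs : s ∈ H) (e : p * s * p = s) : PsiMv H p s :=
  fun i => ⟨s, hs, -i, by
    have : SemiconjBy s p⁻¹ p := by
      rw [SemiconjBy, mul_inv_eq_iff_eq_mul, e]
    have h2 := (this.zpow_right i).eq
    rw [inv_zpow, ← zpow_neg] at h2
    exact h2.symm⟩

theorem PsiMv.of_norm {H N : Subgroup A} {p s : A} (hN : N ≤ H) (hp : p ∈ normalizer (N : Set A))
    (hs : s ∈ N) : PsiMv H p s := fun i =>
  ⟨p ^ i * s * (p ^ i)⁻¹, hN ((mem_normalizer_iff.1 (zpow_mem hp i) s).1 hs), i, by group⟩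

/-- the product of `H` with the powers of `p` -/
def PsiW (H : Subgroup A) (p : A) (h : ∀ s ∈ H, PsiMv H p s) : Subgroup A where
  carrier := {q | ∃ s ∈ H, ∃ i : ℤ, q = s * p ^ i}
  one_mem' := ⟨1, one_mem _, 0, by simp⟩
  mul_mem' := by
    rintro _ _ ⟨s, hs, i, rfl⟩ ⟨t, ht, j, rfl⟩
    obtain ⟨t', h1, k, e⟩ := h t ht i
    refine ⟨s * t', mul_mem hs h1, k + j, ?_⟩
    rw [mul_assoc s, ← mul_assoc (p ^ i), e, zpow_add]; group
  inv_mem' := by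
    rintro _ ⟨s, hs, i, rfl⟩
    obtain ⟨t', h1, k, e⟩ := h s⁻¹ (inv_mem hs) (-i)
    exact ⟨t', h1, k, by rw [← e, mul_inv_rev, zpow_neg]⟩

end

/-! ### facts in the model -/

theorem psi_ev2 {a b c d : ℕ} (h : eqp (wC [a, b]) (wC [c, d]) = true) : el a * el b = el c * el d := by
  simpa only [ev_cons, ev_nil, mul_one] using (ev_eq _ _).2 h

theorem psi_ev3 {a b c d : ℕ} (h : eqp (wC [a, b, c]) (wC [d]) = true) : el a * el b * el c = el d := by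
  simpa only [ev_cons, ev_nil, mul_one, mul_assoc] using (ev_eq _ _).2 h

theorem psi_cube {a : ℕ} (h : eqp (wC [a, a, a]) (wC []) = true) : el a ^ 3 = 1 := by
  simpa only [ev_cons, ev_nil, mul_one, pow_succ, pow_zero, one_mul, mul_assoc] using (ev_eq _ _).2 h

theorem psi_d : ∀ i ∈ [23, 25, 27], el i * el 23 = el 23 * el i ∧ el i * el 32 = el 32 * el i := by
  have k : ∀ i ∈ [23, 25, 27], eqp (wC [i, 23]) (wC [23, i]) = true ∧ eqp (wC [i, 32]) (wC [32, i]) = true := by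
    decide +kernel
  exact fun i hi => ⟨psi_ev2 (k i hi).1, psi_ev2 (k i hi).2⟩

theorem psi_a : ∀ i ∈ [29, 30, 31], (el i * el 23 = el 23 * el i ∨ el 23 * el i * el 23 = el i) ∧
    el 32 * el i * el 32 = el i := by
  have k : ∀ i ∈ [29, 30, 31], (eqp (wC [i, 23]) (wC [23, i]) = true ∨ eqp (wC [23, i, 23]) (wC [i]) = true) ∧
      eqp (wC [32, i, 32]) (wC [i]) = true := by
    decide +kernel
  exact fun i hi => ⟨(k i hi).1.imp psi_ev2 psi_ev3, psi_ev3 (k i hi).2⟩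

theorem psi_oa : ∀ i ∈ [29, 30, 31], ol 32 * ol i * ol 32 = ol i := by
  have k : ∀ i ∈ [29, 30, 31], (∀ j ∈ [32, i, 32], j ∈ nq) ∧ (∀ j ∈ [i], j ∈ nq) ∧
      cW [32, i, 32] = cW [i] := by decide +kernel
  intro i hi
  simpa only [ow, List.map_cons, List.map_nil, List.prod_cons, List.prod_nil, mul_one, mul_assoc] using
    (ow_eq (k i hi).1 (k i hi).2.1).2 (k i hi).2.2

theorem psi_od : ∀ i ∈ [23, 25, 27], ol i * ol 32 = ol 32 * ol i := fun i hi =>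
  EE_comm _ (DD_le (ol_mem_go hi)) _ (ol_mem_go (by decide))

theorem psi_fpf (v : V8) : ap (ol 23) v + ap (ol 23) (ap (ol 23) v) = v := by
  have k : ∀ c < 256, apn (cc 23) c ^^^ apn (cc 23) (apn (cc 23) c) = c := by decide +kernel
  obtain ⟨c, hc, rfl⟩ := cd_dc8.surj v
  have h := is_ol 23 (by decide)
  rw [h.ap_dc cd_dc8 hc, h.ap_dc cd_dc8 (apn_lt _ _), ← cd_dc8.xor, k c hc]

theorem psi_Q0 : Q0 ≤ C1 := Q0_le_T0.trans T0_le_C1

variable {G : Type*} [Group G] [Finite G] {φ ψ ν : Y → G} {K : Subgroup Y} {bd : ℕ} {π : G → V8} {ρ : G → OG Q8}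

omit [Finite G] in
theorem Fr.psi_K (h : Fr φ K bd π ρ) : C1 ≤ K := C1_le_KL.trans h.h0.le

omit [Finite G] in
theorem Fr.psi_m (h : Fr φ K bd π ρ) : MulOn φ C1 := h.h0.mul.mono h.psi_K

omit [Finite G] in
theorem Fr.psi_oz (h : Fr φ K bd π ρ) {x : Y} (hx : x ∈ Q0) : φ x ∈ Oz (φ (el 13)) :=
  (h.oz _).2 ⟨x, hx, rfl⟩

omit [Finite G] in
theorem Fr.psi_cz (h : Fr φ K bd π ρ) {x : Y} (hx : x ∈ C1) : φ x ∈ Cz (φ (el 13)) :=
  h.h0.cz (h.psi_K hx) (C0_le_Cz (C1_le_C0 hx))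

omit [Finite G] in
theorem Fr.psi_pi (h : Fr φ K bd π ρ) {c : ℕ} (hc : c < 256) {x : Y} (e : x = qw c ∨ x = el 13 * qw c) :
    x ∈ Q0 ∧ π (φ x) = dc8 c := by
  rcases e with rfl | rfl
  · exact ⟨qw_mem c, h.pi c hc⟩
  · refine ⟨mul_mem z_mem (qw_mem c), ?_⟩
    rw [h.psi_m _ (psi_Q0 z_mem) _ (psi_Q0 (qw_mem c)), h.cx.π_zmul (h.psi_oz (qw_mem c)), h.pi c hc]

omit [Finite G] in
theorem Fr.psi_act (h : Fr φ K bd π ρ) {i : ℕ} (hi : i ∈ nq) {x : Y} (hx : x ∈ Q0) :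
    el i * x * (el i)⁻¹ ∈ Q0 ∧ π (φ (el i * x * (el i)⁻¹)) = ap (ol i) (π (φ x)) := by
  obtain ⟨c, hc, e⟩ := mem_Q0.1 hx
  rw [(h.psi_pi hc e).2, (is_ol i hi).ap_dc cd_dc8 hc]
  refine h.psi_pi (apn_lt _ _) ?_
  have k := (actQ_el i hi).conj (nq_Cz i hi) hc
  rcases e with rfl | rfl
  · exact k
  · rw [← conj_mul, conj_eq_of_Cz (nq_Cz i hi)]
    rcases k with k | k <;> rw [k]
    · exact Or.inr rfl
    · exact Or.inl (by rw [← mul_assoc, z_sq, one_mul])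

omit [Finite G] in
theorem Fr.psi_rho (h : Fr φ K bd π ρ) {i : ℕ} (hi : i ∈ [23, 25, 27, 29, 30, 31]) :
    el i ∈ C1 ∧ ρ (φ (el i)) = ol i := by
  have k : ∀ i ∈ [23, 25, 27, 29, 30, 31], i ∈ nq ∧
      i ∈ [13, 14, 15, 16, 17, 18, 19, 20, 21, 22, 23, 24, 25, 26, 27, 28, 29, 30, 31, 36] := by decide
  exact ⟨mem_C1 i (k i hi).2, h.rho_el (k i hi).1 (h.psi_K (mem_C1 i (k i hi).2))⟩

omit [Finite G] in
theorem psi_zcube {z a b : G} (z2 : z * z = 1) (hz : b ∈ Cz z) (ha : a ^ 3 = 1) (hb : b ^ 3 = 1)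
    (e : a = b ∨ a = z * b) : a = b := by
  refine e.elim id fun e => ?_
  have c : Commute z b := (mem_Cz.1 hz).symm
  rw [e, c.mul_pow, hb, mul_one, pow_succ, pow_two, z2, one_mul] at ha
  rw [e, ha, one_mul]

omit [Finite G] in
/-- uniqueness of lifts of order `3` that commute with `φ d₁` -/
theorem Fr.psi_uniq (h : Fr φ K bd π ρ) {a b : G} (ha : a ∈ Cz (φ (el 13))) (hb : b ∈ Cz (φ (el 13)))
    (ca : a * φ (el 23) = φ (el 23) * a) (cb : b * φ (el 23) = φ (el 23) * b) (a3 : a ^ 3 = 1) (b3 : b ^ 3 = 1)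
    (e : ρ a = ρ b) : a = b := by
  obtain ⟨d1, rd⟩ := h.psi_rho (i := 23) (by decide)
  have hq := h.cx.mem_of_ρ ha hb e
  have c : φ (el 23) * (a * b⁻¹) * (φ (el 23))⁻¹ = a * b⁻¹ := by
    rw [mul_inv_eq_iff_eq_mul]
    exact (((show Commute a _ from ca).mul_left (show Commute b _ from cb).inv_left).eq).symm
  have f := h.cx.act _ (h.psi_cz d1) _ hq
  rw [c, rd] at f
  have f2 := psi_fpf (π (a * b⁻¹))
  rw [← f, ← f, vadd_self] at f2
  refine psi_zcube h.cx.lx.sq hb a3 b3 (((h.cx.ker _ hq).1 f2.symm).imp mul_inv_eq_one.1 fun e1 => ?_)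
  rw [← e1]; group

omit [Finite G] in
theorem Fr.psi_g (h : Fr φ K bd π ρ) (hE : ol 32 ∈ h.cx.hom.range) : ∃ g ∈ Cz (φ (el 13)), ρ g = ol 32 ∧
    g ^ 3 = 1 ∧ g * φ (el 23) = φ (el 23) * g := by
  obtain ⟨⟨c, hc⟩, ec⟩ := hE
  replace ec : ρ c = ol 32 := ec
  obtain ⟨d1, rd⟩ := h.psi_rho (i := 23) (by decide)
  have hd := h.psi_cz d1
  set δ := φ (el 23) with hδ
  have δ3 : δ ^ 3 = 1 := by rw [hδ, ← h.psi_m.pow d1, psi_cube (by decide +kernel), h.psi_m.one]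
  have hcd : c * δ * c⁻¹ ∈ Cz (φ (el 13)) := mul_mem (mul_mem hc hd) (inv_mem hc)
  have hq : c * δ * c⁻¹ * δ⁻¹ ∈ Oz (φ (el 13)) := h.cx.mem_of_ρ hcd hd (by
    rw [h.cx.ρ_mul (mul_mem hc hd) (inv_mem hc), h.cx.ρ_mul hc hd, h.cx.ρ_inv hc, ec, rd,
      ← psi_od 23 (by decide), mul_inv_cancel_right])
  obtain ⟨q, hq', eq⟩ := h.cx.surj (ap (ol 23) (π (c * δ * c⁻¹ * δ⁻¹)))
  have hq2 : δ * q⁻¹ * δ⁻¹ ∈ Oz (φ (el 13)) := h.cx.norm hd (inv_mem hq')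
  have e1 : π (q * (δ * q⁻¹ * δ⁻¹)) = π (c * δ * c⁻¹ * δ⁻¹) := by
    rw [h.cx.add _ hq' _ hq2, h.cx.act _ hd _ (inv_mem hq'), h.cx.π_inv hq', rd, eq, psi_fpf]
  have e2 : c * δ * c⁻¹ = q * δ * q⁻¹ := by
    refine psi_zcube h.cx.lx.sq (mul_mem (mul_mem (h.cx.le hq') hd) (inv_mem (h.cx.le hq')))
      (by rw [conj_pow, δ3]; group) (by rw [conj_pow, δ3]; group)
      ((h.cx.eq_or (mul_mem hq' hq2) hq e1).imp (fun e => ?_) fun e => ?_)
    · rw [mul_inv_eq_iff_eq_mul] at e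
      rw [e]; group
    · rw [mul_inv_eq_iff_eq_mul] at e
      rw [e]; group
  have hc' : q⁻¹ * c ∈ Cz (φ (el 13)) := mul_mem (inv_mem (h.cx.le hq')) hc
  have r' : ρ (q⁻¹ * c) = ol 32 := by
    rw [h.cx.ρ_mul (inv_mem (h.cx.le hq')) hc, (h.cx.ρ_eq_one (inv_mem (h.cx.le hq'))).2 (inv_mem hq'),
      one_mul, ec]
  obtain ⟨l1, l2⟩ := h.cx.lift_three hc' (by rw [r']; exact EE_cube _ (ol_mem_go (by decide)))
  refine ⟨_, pow_mem hc' 4, l1.trans r', l2, (Commute.pow_left ?_ 4).eq⟩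
  calc q⁻¹ * c * δ = q⁻¹ * (c * δ * c⁻¹) * c := by group
    _ = δ * (q⁻¹ * c) := by rw [e2]; group

omit [Finite G] in
theorem Fr.psi_q (h : Fr φ K bd π ρ) {g : G} (hg : g ∈ Cz (φ (el 13))) (rg : ρ g = ol 32)
    (cg : g * φ (el 23) = φ (el 23) * g) {x : Y} (hx : x ∈ Q0) :
    g * φ x * g⁻¹ = φ (el 32 * x * (el 32)⁻¹) := by
  obtain ⟨d1, rd⟩ := h.psi_rho (i := 23) (by decide)
  have n32 : (32 : ℕ) ∈ nq := by decide
  have n23 : (23 : ℕ) ∈ nq := by decide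
  have m := h.psi_m
  have hd := h.psi_cz d1
  have k1 : ∀ y ∈ Q0, g * φ y * g⁻¹ = φ (el 32 * y * (el 32)⁻¹) ∨
      g * φ y * g⁻¹ = φ (el 13) * φ (el 32 * y * (el 32)⁻¹) := fun y hy =>
    h.cx.eq_or (h.psi_oz (h.psi_act n32 hy).1) (h.cx.norm hg (h.psi_oz hy)) (by
      rw [(h.psi_act n32 hy).2, h.cx.act _ hg _ (h.psi_oz hy), rg])
  have k2 : ∀ y ∈ Q0, g * φ (y * (el 23 * y * (el 23)⁻¹)) * g⁻¹ =
      φ (el 32 * (y * (el 23 * y * (el 23)⁻¹)) * (el 32)⁻¹) := fun y hy => by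
    have h1 := (h.psi_act n23 hy).1
    have h2 := (h.psi_act n32 hy).1
    have h3 := (h.psi_act n23 h2).1
    have e1 : el 32 * (y * (el 23 * y * (el 23)⁻¹)) * (el 32)⁻¹ =
        el 32 * y * (el 32)⁻¹ * (el 23 * (el 32 * y * (el 32)⁻¹) * (el 23)⁻¹) := by
      have c : Commute (el 23) (el 32) := (psi_d 23 (by decide)).2
      calc _ = el 32 * y * (el 32)⁻¹ * ((el 32 * el 23) * y * (el 32 * el 23)⁻¹) := by group
        _ = _ := by rw [← c.eq]; group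
    have e2 : g * (φ y * (φ (el 23) * φ y * (φ (el 23))⁻¹)) * g⁻¹ =
        g * φ y * g⁻¹ * (φ (el 23) * (g * φ y * g⁻¹) * (φ (el 23))⁻¹) := by
      calc _ = g * φ y * g⁻¹ * ((g * φ (el 23)) * φ y * (g * φ (el 23))⁻¹) := by group
        _ = _ := by rw [cg]; group
    rw [e1, m _ (psi_Q0 hy) _ (psi_Q0 h1), m _ (psi_Q0 h2) _ (psi_Q0 h3), m.conj d1 (psi_Q0 hy),
      m.conj d1 (psi_Q0 h2), e2]
    rcases k1 y hy with e | e <;> rw [e]
    have c1 := mem_Cz.1 (h.cx.le (h.psi_oz h2))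
    rw [← conj_mul, conj_eq_of_Cz hd, mul_assoc, ← mul_assoc _ (φ (el 13)), c1, mul_assoc, ← mul_assoc,
      h.cx.lx.sq, one_mul]
  obtain ⟨a, ha, ea⟩ := h.cx.surj (ap (ol 23) (π (φ x)))
  obtain ⟨y, hy, rfl⟩ := (h.oz a).1 ha
  have h1 := h.psi_act n23 hy
  have h2 : y * (el 23 * y * (el 23)⁻¹) ∈ Q0 := mul_mem hy h1.1
  have e : π (φ (y * (el 23 * y * (el 23)⁻¹))) = π (φ x) := by
    rw [m _ (psi_Q0 hy) _ (psi_Q0 h1.1), h.cx.add _ ha _ (h.psi_oz h1.1), h1.2, ea, psi_fpf]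
  rcases h.cx.eq_or (h.psi_oz h2) (h.psi_oz hx) e with e | e
  · rw [h.h0.injOn (h.psi_K (psi_Q0 hx)) (h.psi_K (psi_Q0 h2)) e]
    exact k2 y hy
  · rw [← m _ (psi_Q0 z_mem) _ (psi_Q0 h2)] at e
    rw [h.h0.injOn (h.psi_K (psi_Q0 hx)) (h.psi_K (psi_Q0 (mul_mem z_mem h2))) e,
      m _ (psi_Q0 z_mem) _ (psi_Q0 h2), ← conj_mul, k2 y hy, conj_eq_of_Cz hg, ← conj_mul (a := el 13) (b := el 32),
      conj_eq_of_Cz (nq_Cz 32 n32), m _ (psi_Q0 z_mem) _ (psi_Q0 (h.psi_act n32 h2).1)]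

omit [Finite G] in
theorem Fr.psi_DA (h : Fr φ K bd π ρ) {x : Y} (hx : x ∈ C1) : ρ (φ x) ∈ DD ⊔ AA := by
  have hle : C1 ≤ ((DD ⊔ AA).comap (h.cx.hom.comp (h.psi_m.hom.codRestrict _ fun a => h.psi_cz a.2))).map
      C1.subtype := by
    conv_lhs => rw [C1_eq]
    refine gp_le fun i hi => ?_
    have k : ∀ i ∈ [15, 16, 17, 18, 19, 20, 21, 22, 23, 25, 27, 29, 30, 31],
        i ∈ [15, 16, 17, 18, 19, 20, 21, 22] ∨ i ∈ [23, 25, 27, 29, 30, 31] ∧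
          (i ∈ [23, 25, 27] ∨ i ∈ [29, 30, 31]) := by decide
    rcases k i hi with e | ⟨e, e'⟩
    · have h1 : el i ∈ Q0 := el_mem_gp e
      refine ⟨⟨_, psi_Q0 h1⟩, ?_, rfl⟩
      change ρ (φ (el i)) ∈ DD ⊔ AA
      rw [(h.cx.ρ_eq_one (h.psi_cz (psi_Q0 h1))).2 (h.psi_oz h1)]
      exact one_mem _
    · refine ⟨⟨_, (h.psi_rho e).1⟩, ?_, rfl⟩
      change ρ (φ (el i)) ∈ DD ⊔ AA
      rw [(h.psi_rho e).2]
      exact e'.elim (fun e => mem_sup_left (ol_mem_go e)) fun e => mem_sup_right (ol_mem_go e)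
  obtain ⟨a, ha, rfl⟩ := hle hx
  exact ha

theorem Fr.psi (h : Fr φ K bd π ρ) (hE : ol 32 ∈ h.cx.hom.range) : ∃ ψ, Ps φ ψ ρ := by
  classical
  obtain ⟨g, hg, rg, g3, cg⟩ := h.psi_g hE
  have m := h.psi_m
  obtain ⟨d1, rd⟩ := h.psi_rho (i := 23) (by decide)
  have sub : ∀ {i}, i ∈ [23, 25, 27] ∨ i ∈ [29, 30, 31] → i ∈ [23, 25, 27, 29, 30, 31] := by
    intro i hi; simp only [List.mem_cons, List.not_mem_nil, or_false] at hi ⊢; omega
  have cj : ∀ x ∈ C1, (x * el 23 = el 23 * x ∨ el 23 * x * el 23 = x) →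
      φ x * g * (φ x)⁻¹ * φ (el 23) = φ (el 23) * (φ x * g * (φ x)⁻¹) := fun x hx e => by
    have c : Commute g (φ (el 23)) := cg
    rcases e with e | e
    · have c2 : Commute (φ x) (φ (el 23)) := by
        change _ = _
        rw [← m _ hx _ d1, e, m _ d1 _ hx]
      exact ((c2.mul_left c).mul_left c2.inv_left).eq
    · have e2 := congrArg φ e
      rw [m _ (mul_mem d1 hx) _ d1, m _ d1 _ hx] at e2
      have e3 : φ (el 23) = φ x * (φ (el 23))⁻¹ * (φ x)⁻¹ := by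
        rw [eq_mul_inv_iff_mul_eq, eq_mul_inv_iff_mul_eq, e2]
      rw [e3, conj_mul, conj_mul, c.inv_right.eq]
  have hD : ∀ i ∈ [23, 25, 27], φ (el i) * g = g * φ (el i) := fun i hi => by
    obtain ⟨x1, rx⟩ := h.psi_rho (sub (Or.inl hi))
    have hx := h.psi_cz x1
    refine mul_inv_eq_iff_eq_mul.1 (h.psi_uniq (mul_mem (mul_mem hx hg) (inv_mem hx)) hg
      (cj _ x1 (Or.inl (psi_d i hi).1)) cg (by rw [conj_pow, g3]; group) g3 ?_)
    rw [h.cx.ρ_mul (mul_mem hx hg) (inv_mem hx), h.cx.ρ_mul hx hg, h.cx.ρ_inv hx, rx, rg, psi_od i hi,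
      mul_inv_cancel_right]
  have hA : ∀ i ∈ [29, 30, 31], g * φ (el i) * g = φ (el i) := fun i hi => by
    obtain ⟨x1, rx⟩ := h.psi_rho (sub (Or.inr hi))
    have hx := h.psi_cz x1
    have := h.psi_uniq (mul_mem (mul_mem hx hg) (inv_mem hx)) (inv_mem hg)
      (cj _ x1 (psi_a i hi).1) (show Commute g _ from cg).inv_left.eq (by rw [conj_pow, g3]; group)
      (by rw [inv_pow, g3, inv_one]) (by
        rw [h.cx.ρ_mul (mul_mem hx hg) (inv_mem hx), h.cx.ρ_mul hx hg, h.cx.ρ_inv hx, h.cx.ρ_inv hg, rx, rg,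
          mul_inv_eq_iff_eq_mul, eq_inv_mul_iff_mul_eq, ← mul_assoc, psi_oa i hi])
    rw [mul_inv_eq_iff_eq_mul, eq_inv_mul_iff_mul_eq, ← mul_assoc] at this
    exact this
  set p : G × Y := (g, el 32) with hp
  have hN : p ∈ normalizer (graph (m.mono psi_Q0) : Set (G × Y)) :=
    mem_normalizer_fintype fun q hq => ⟨(h.psi_act (by decide) hq.1).1, by
      have := h.psi_q hg rg cg hq.1
      rw [← hq.2] at this
      exact this⟩
  have mv : ∀ s ∈ graph m, PsiMv (graph m) p s := by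
    have key : ∀ x ∈ gp [15, 16, 17, 18, 19, 20, 21, 22, 23, 25, 27, 29, 30, 31],
        PsiMv (graph m) p (φ x, x) := by
      have k : ∀ i ∈ [15, 16, 17, 18, 19, 20, 21, 22, 23, 25, 27, 29, 30, 31],
          i ∈ [15, 16, 17, 18, 19, 20, 21, 22] ∨ i ∈ [23, 25, 27] ∨ i ∈ [29, 30, 31] := by decide
      intro x hx
      induction hx using closure_induction'' with
      | mem x hx =>
        obtain ⟨i, hi, rfl⟩ := hx
        rcases k i hi with e | e | e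
        · exact .of_norm (graph_mono m psi_Q0) hN ⟨el_mem_gp e, rfl⟩
        · exact .of_comm ⟨(h.psi_rho (sub (Or.inl e))).1, rfl⟩ (Prod.ext (hD i e) (psi_d i e).2)
        · exact .of_inv ⟨(h.psi_rho (sub (Or.inr e))).1, rfl⟩ (Prod.ext (hA i e) (psi_a i e).2)
      | inv_mem x hx =>
        obtain ⟨i, hi, rfl⟩ := hx
        rcases k i hi with e | e | e
        · exact .of_norm (graph_mono m psi_Q0) hN ⟨inv_mem (el_mem_gp e), rfl⟩
        · have x1 := (h.psi_rho (sub (Or.inl e))).1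
          refine .of_comm ⟨inv_mem x1, rfl⟩ ?_
          rw [m.inv x1]
          exact Prod.ext (show Commute _ g from hD i e).inv_left.eq
            (show Commute _ (el 32) from (psi_d i e).2).inv_left.eq
        · have x1 := (h.psi_rho (sub (Or.inr e))).1
          refine .of_inv ⟨inv_mem x1, rfl⟩ ?_
          rw [m.inv x1]
          have aux : ∀ {B : Type _} [Group B] {u s : B}, u * s * u = s → u * s⁻¹ * u = s⁻¹ := by
            intro B _ u s e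
            conv_lhs => rw [← e]
            group
          have aux2 : ∀ {u s : Y}, u * s * u = s → u * s⁻¹ * u = s⁻¹ := by
            intro u s e
            conv_lhs => rw [← e]
            group
          exact Prod.ext (aux (hA i e)) (aux2 (psi_a i e).2)
      | one => exact .of_comm ⟨one_mem _, rfl⟩ (by rw [m.one]; exact Prod.ext (by simp) (by simp))
      | mul x y hx hy h1 h2 =>
        rw [m _ (C1_eq ▸ hx) _ (C1_eq ▸ hy)]
        exact h1.mul h2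
    rintro ⟨a, x⟩ ⟨hx, e⟩
    obtain rfl : a = φ x := e
    exact key x (C1_eq ▸ hx)
  have p3 : p ^ (3 : ℤ) = 1 := by
    rw [show (3 : ℤ) = ((3 : ℕ) : ℤ) from rfl, zpow_natCast]
    exact Prod.ext g3 (psi_cube (by decide +kernel))
  have nm : el 32 ∉ C1 := fun e => om_nmem (h.rho_el (by decide) (h.psi_K e) ▸ h.psi_DA e)
  have gd : Good (PsiW (graph m) p mv) := by
    rintro _ ⟨s, hs, i, rfl⟩ e
    obtain ⟨k, hk⟩ : ∃ k, i = 3 * k ∨ i = 3 * k + 1 ∨ i = 3 * k + -1 := ⟨(i + 1) / 3, by omega⟩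
    rcases hk with rfl | rfl | rfl
    · rw [zpow_mul, p3, one_zpow, mul_one] at e ⊢
      exact good_graph m s hs e
    · rw [zpow_add, zpow_mul, p3, one_zpow, one_mul, zpow_one] at e
      exact absurd (eq_inv_of_mul_eq_one_right e ▸ inv_mem hs.1 : p.2 ∈ C1) nm
    · rw [zpow_add, zpow_mul, p3, one_zpow, one_mul, zpow_neg_one] at e
      exact absurd ((mul_inv_eq_one.1 e : s.2 = p.2) ▸ hs.1 : p.2 ∈ C1) nm
  have m1 : ∀ x ∈ C1, (φ x, x) ∈ PsiW (graph m) p mv := fun x hx => ⟨(φ x, x), ⟨hx, rfl⟩, 0, by simp⟩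
  have m2 : p ∈ PsiW (graph m) p mv := ⟨1, one_mem _, 1, by simp⟩
  have m3 : C0 ≤ (PsiW (graph m) p mv).map (MonoidHom.snd G Y) := by
    rw [C0_eq]
    refine gp_le fun i hi => ?_
    have k : ∀ i ∈ [15, 16, 17, 18, 19, 20, 21, 22, 23, 25, 27, 29, 30, 31, 32],
        i ∈ [15, 16, 17, 18, 19, 20, 21, 22, 23, 25, 27, 29, 30, 31] ∨ i = 32 := by decide
    rcases k i hi with e | rfl
    · exact ⟨_, m1 _ (C1_eq ▸ el_mem_gp e), rfl⟩
    · exact ⟨_, m2, rfl⟩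
  let f : Y → G := fun x => if hx : ∃ a, (a, x) ∈ PsiW (graph m) p mv then hx.choose else 1
  have f1 : ∀ {a x}, (a, x) ∈ PsiW (graph m) p mv → f x = a := fun {a x} hx => by
    have hx' : ∃ a, (a, x) ∈ PsiW (graph m) p mv := ⟨a, hx⟩
    simp only [f, dif_pos hx']
    exact congrArg Prod.fst (gd.eq hx'.choose_spec hx rfl)
  refine ⟨f, fun a ha b hb => ?_, fun x hx => f1 (m1 x hx), ?_⟩
  · obtain ⟨⟨u, _⟩, hu, rfl⟩ := m3 ha
    obtain ⟨⟨v, _⟩, hv, rfl⟩ := m3 hb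
    exact (f1 (mul_mem hu hv)).trans (by rw [MonoidHom.coe_snd, f1 hu, f1 hv]; rfl)
  · rw [f1 m2]
    exact ⟨hg, rg⟩

end Cfsg.Agent.P83
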