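import Cfsg.Agent.P83.BaseG

/-! The hexagon relation. -/

set_option autoImplicit false
set_option maxRecDepth 100000

namespace Cfsg.Agent.P83

open Subgroup H97 H15 H11 CO1 CO2 QuadraticMap H4.GF

namespace R2

/-- generators of a subgroup normalised by the letters `5` and `37` -/
def Rw : List (List ℕ) := [[15], [16], [17], [18], [13], [36], [20, 22], [19, 21, 22], [30, 31]]

/-- the subgroup generated by `Rw` -/
noncomputable def RR : Subgroup Y := closure (ev '' {w | w ∈ Rw})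

theorem gen {w : List ℕ} (h : w ∈ Rw) : ev w ∈ RR := subset_closure ⟨w, h, rfl⟩

theorem RR_le : RR ≤ C1 := (closure_le _).2 (by
  rintro _ ⟨w, hw, rfl⟩
  have k : ∀ w ∈ Rw, ∀ i ∈ w, i ∈ [13, 14, 15, 16, 17, 18, 19, 20, 21, 22, 23, 24, 25, 26, 27, 28, 29, 30, 31, 36] := by
    decide
  exact ev_mem fun i hi => mem_C1 i (k w hw i hi))

theorem flat {l : List ℕ} (h : ∀ i ∈ l, i < 9) : ev (l.flatMap fun i => Rw.getD i []) ∈ RR := by
  induction l with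
  | nil => exact one_mem _
  | cons i l ih =>
    rw [List.flatMap_cons, ev_append]
    have k : ∀ i < 9, Rw.getD i [] ∈ Rw := by decide
    exact mul_mem (gen (k i (h i List.mem_cons_self))) (ih fun j hj => h j (List.mem_cons_of_mem _ hj))

theorem conj_mem {a : ℕ} (ha : el a * el a = 1)
    (h : ∀ w ∈ Rw, ∃ l : List ℕ, (∀ i ∈ l, i < 9) ∧
      eqp (wC (a :: (w ++ [a]))) (wC (l.flatMap fun i => Rw.getD i [])) = true) {x : Y} (hx : x ∈ RR) :
    el a * x * (el a)⁻¹ ∈ RR := by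
  induction hx using closure_induction with
  | mem y hy =>
    obtain ⟨w, hw, rfl⟩ := hy
    obtain ⟨l, hl, e⟩ := h w hw
    have e := (ev_eq _ _).2 e
    rw [ev_cons, ev_append, ev_one] at e
    rw [inv_eq_of_mul_eq_one_right ha, mul_assoc, e]
    exact flat hl
  | one => rw [mul_one, mul_inv_cancel]; exact one_mem _
  | mul x y _ _ h1 h2 => rw [← conj_mul]; exact mul_mem h1 h2
  | inv x _ h1 => rw [← conj_inv]; exact inv_mem h1

theorem sq_of {a : ℕ} (h : eqp (wC [a, a]) (wC []) = true) : el a * el a = 1 := by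
  have := (ev_eq _ _).2 h
  rwa [ev_cons, ev_one, ev_nil] at this

theorem sq5 : el 5 * el 5 = 1 := sq_of (by decide +kernel)
theorem sq37 : el 37 * el 37 = 1 := sq_of (by decide +kernel)

theorem conj5 {x : Y} (hx : x ∈ RR) : el 5 * x * (el 5)⁻¹ ∈ RR := by
  refine conj_mem sq5 (fun w hw => ?_) hx
  have k : ∀ w ∈ Rw, ∃ l ∈ [[0], [5], [0, 4], [1, 3, 5], [0, 2], [1], [6], [8], [7]], (∀ i ∈ l, i < 9) ∧
      eqp (wC (5 :: (w ++ [5]))) (wC (l.flatMap fun i => Rw.getD i [])) = true := by decide +kernel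
  obtain ⟨l, -, hl⟩ := k w hw
  exact ⟨l, hl⟩

theorem conj37 {x : Y} (hx : x ∈ RR) : el 37 * x * (el 37)⁻¹ ∈ RR := by
  refine conj_mem sq37 (fun w hw => ?_) hx
  have k : ∀ w ∈ Rw, ∃ l ∈ [[0], [1], [2, 3, 4], [3], [4], [5], [6], [7], [8]], (∀ i ∈ l, i < 9) ∧
      eqp (wC (37 :: (w ++ [37]))) (wC (l.flatMap fun i => Rw.getD i [])) = true := by decide +kernel
  obtain ⟨l, -, hl⟩ := k w hw
  exact ⟨l, hl⟩

theorem hex : (el 5 * el 37) ^ 3 = 1 := by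
  have := (ev_eq [5, 37, 5, 37, 5, 37] []).2 (by decide +kernel)
  simp only [ev_cons, ev_nil, mul_one] at this
  rw [← this]; simp only [pow_succ, pow_zero, one_mul, mul_assoc]

theorem qw_RR : ∀ c ∈ [0, 1, 2, 4, 8, 112, 5, 11, 14], qw c ∈ RR := by
  intro c hc
  have k : ∀ c ∈ [0, 1, 2, 4, 8, 112, 5, 11, 14], ∃ l ∈ [[], [0], [1], [2], [3], [6, 7], [4, 6, 7], [0, 2], [0, 1, 3],
      [1, 2, 3]], (∀ i ∈ l, i < 9) ∧ eqp (wC (qL c)) (wC (l.flatMap fun i => Rw.getD i [])) = true := by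
    decide +kernel
  obtain ⟨l, -, hl, e⟩ := k c hc
  rw [qw, (ev_eq _ _).2 e]
  exact flat hl

theorem z_RR : el 13 ∈ RR := ev_one 13 ▸ gen (by decide)

theorem cen_code {c : ℕ} (hc : c < 256) (h : ∀ y ∈ RR, qw c * y = y * qw c) : c ∈ [0, 5, 11, 14] := by
  have k : ∀ c < 256, ([[15], [16], [17], [18], [20, 22], [19, 21, 22]].all
      fun w => eqp (wC (qL c ++ w)) (wC (w ++ qL c))) = true → c ∈ [0, 5, 11, 14] := by decide +kernel
  refine k c hc (List.all_eq_true.2 fun w hw => (ev_eq _ _).1 ?_)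
  rw [ev_append, ev_append]
  have k2 : ∀ w ∈ [[15], [16], [17], [18], [20, 22], [19, 21, 22]], w ∈ Rw := by decide
  exact h _ (gen (k2 w hw))

theorem fix_code {c : ℕ} (hc : c ∈ [0, 5, 11, 14]) {x : Y} (hx : x = qw c ∨ x = el 13 * qw c)
    (h : el 5 * el 37 * x = x * (el 5 * el 37)) : x = 1 ∨ x = qw 11 := by
  have k : ∀ c ∈ [0, 5, 11, 14], ∀ u ∈ [qL c, 13 :: qL c], eqp (wC ([5, 37] ++ u)) (wC (u ++ [5, 37])) = true →
      eqp (wC u) (wC []) = true ∨ eqp (wC u) (wC (qL 11)) = true := by decide +kernel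
  obtain ⟨u, hu, rfl⟩ : ∃ u ∈ [qL c, 13 :: qL c], x = ev u := by
    rcases hx with rfl | rfl
    · exact ⟨_, List.mem_cons_self, rfl⟩
    · exact ⟨_, List.mem_cons_of_mem _ List.mem_cons_self, (ev_cons _ _).symm⟩
  refine (k c hc u hu ((ev_eq _ _).1 ?_)).imp (ev_eq _ _).2 (ev_eq _ _).2
  rw [ev_append, ev_append, ev_cons, ev_one]
  exact h

theorem m1 : el 37 * (el 21 * el 22) * (el 37)⁻¹ = el 22 := by
  have := (ev_eq [37, 21, 22, 37] [22]).2 (by decide +kernel)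
  simp only [ev_cons, ev_nil, mul_one] at this
  rw [inv_eq_of_mul_eq_one_right sq37, ← this]; simp only [mul_assoc, this]

theorem m2 : el 5 * el 22 * (el 5)⁻¹ = el 31 := by
  have := (ev_eq [5, 22, 5] [31]).2 (by decide +kernel)
  simp only [ev_cons, ev_nil, mul_one] at this
  rw [inv_eq_of_mul_eq_one_right sq5, mul_assoc, this]

theorem m3 : (el 5 * (el 21 * el 22)) ^ 3 = 1 := by
  have := (ev_eq [5, 21, 22, 5, 21, 22, 5, 21, 22] []).2 (by decide +kernel)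
  simp only [ev_cons, ev_nil, mul_one] at this
  rw [← this]; simp only [pow_succ, pow_zero, one_mul, mul_assoc]

theorem m4 : (qw 11 * el 37 * el 31) ^ 3 = el 13 := by
  have := (ev_eq (qL 11 ++ (37 :: 31 :: (qL 11 ++ (37 :: 31 :: (qL 11 ++ [37, 31]))))) [13]).2 (by decide +kernel)
  simp only [ev_append, ev_cons, ev_nil, mul_one] at this
  rw [← this]; simp only [pow_succ, pow_zero, one_mul, mul_assoc, qw]

end R2

variable {G : Type*} [Group G] [Finite G] {φ ψ ν : Y → G} {K : Subgroup Y} {bd : ℕ} {π : G → V8} {ρ : G → OG Q8}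

open R2 in
theorem Fr.r2 (h : Fr φ K bd π ρ) (p : Ps φ ψ ρ) (l : LC h.cx.hom.range (Om (φ (el 13)) π) EE) :
    (φ (el 5) * ψ (el 37)) ^ 3 = 1 := by
  have hCK : C1 ≤ K := C1_le_KL.trans h.h0.le
  have h5 : el 5 ∈ K := h.h0.le (el_mem_gp (by decide))
  have h37 : el 37 ∈ C0 := mem_C0 37 (by decide)
  have cV : ∀ x ∈ C1, el 37 * x * (el 37)⁻¹ ∈ C1 →
      ψ (el 37) * φ x * (ψ (el 37))⁻¹ = φ (el 37 * x * (el 37)⁻¹) := fun x hx hy => by
    rw [← p.eq x hx, ← p.mul.conj h37 (C1_le_C0 hx), p.eq _ hy]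
  have key : ∀ x ∈ RR, el 5 * el 37 * x * (el 5 * el 37)⁻¹ ∈ RR ∧
      φ (el 5) * ψ (el 37) * φ x * (φ (el 5) * ψ (el 37))⁻¹ = φ (el 5 * el 37 * x * (el 5 * el 37)⁻¹) := by
    intro x hx
    have e : el 5 * el 37 * x * (el 5 * el 37)⁻¹ = el 5 * (el 37 * x * (el 37)⁻¹) * (el 5)⁻¹ := by group
    rw [e, h.h0.mul.conj h5 (hCK (RR_le (conj37 hx))), ← cV x (RR_le hx) (RR_le (conj37 hx))]
    exact ⟨conj5 (conj37 hx), by group⟩
  generalize hk : el 5 * el 37 = k at key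
  generalize hH : φ (el 5) * ψ (el 37) = H at key
  have hk3 : k ^ 3 = 1 := hk ▸ hex
  have cen : ∀ x ∈ RR, H ^ 3 * φ x = φ x * H ^ 3 := by
    intro x hx
    obtain ⟨a1, e1⟩ := key x hx
    obtain ⟨a2, e2⟩ := key _ a1
    obtain ⟨-, e3⟩ := key _ a2
    have e : k * (k * (k * x * k⁻¹) * k⁻¹) * k⁻¹ = x := by
      calc _ = k ^ 3 * x * (k ^ 3)⁻¹ := by simp only [pow_succ, pow_zero, one_mul]; group
        _ = x := by rw [hk3]; simp
    rw [e, ← e2, ← e1] at e3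
    rw [← mul_inv_eq_iff_eq_mul]
    refine Eq.trans ?_ e3
    simp only [pow_succ, pow_zero, one_mul, mul_inv_rev, mul_assoc]
  have hz : H ^ 3 ∈ Cz (φ (el 13)) := mem_Cz.2 (cen _ z_RR)
  have hρ : ρ (H ^ 3) = 1 := by
    refine l.rk _ ⟨⟨_, hz⟩, rfl⟩ fun c hc => ?_
    have k1 : ∀ c ∈ [1, 2, 4, 8, 112], c < 256 ∧ c ∈ [0, 1, 2, 4, 8, 112, 5, 11, 14] := by decide
    have := h.cx.act _ hz (φ (qw c)) ((h.oz _).2 ⟨_, qw_mem c, rfl⟩)
    rw [cen _ (qw_RR c (k1 c hc).2), mul_inv_cancel_right, h.pi c (k1 c hc).1] at this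
    exact this.symm
  obtain ⟨x, hx, e⟩ := (h.oz _).1 ((h.cx.ρ_eq_one hz).1 hρ)
  have hxC : x ∈ C1 := T0_le_C1 (Q0_le_T0 hx)
  obtain ⟨c, hc, hxc⟩ := mem_Q0.1 hx
  have cx : ∀ y ∈ RR, x * y = y * x := fun y hy => by
    refine h.h0.injOn (hCK (mul_mem hxC (RR_le hy))) (hCK (mul_mem (RR_le hy) hxC)) ?_
    rw [h.h0.mul _ (hCK hxC) _ (hCK (RR_le hy)), h.h0.mul _ (hCK (RR_le hy)) _ (hCK hxC), e, cen y hy]
  have hc4 : c ∈ [0, 5, 11, 14] := by
    refine cen_code hc fun y hy => ?_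
    rcases hxc with rfl | rfl
    · exact cx y hy
    · have hy2 : y * el 13 = el 13 * y := mem_Cz.1 (C0_le_Cz (C1_le_C0 (RR_le hy)))
      have := cx y hy
      rwa [← mul_assoc y, hy2, mul_assoc, mul_assoc, mul_left_cancel_iff] at this
  have hxR : x ∈ RR := by
    have k1 : ∀ c ∈ [0, 5, 11, 14], c ∈ [0, 1, 2, 4, 8, 112, 5, 11, 14] := by decide
    rcases hxc with rfl | rfl
    · exact qw_RR c (k1 c hc4)
    · exact mul_mem z_RR (qw_RR c (k1 c hc4))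
  have hkx : k * x * k⁻¹ = x := by
    obtain ⟨a1, e1⟩ := key x hxR
    refine h.h0.injOn (hCK (RR_le a1)) (hCK hxC) ?_
    rw [← e1, e]; group
  rcases fix_code hc4 hxc (by rw [hk]; exact mul_inv_eq_iff_eq_mul.1 hkx) with rfl | rfl
  · rw [← e, h.h0.mul.one]
  exfalso
  have c21 : el 21 ∈ C1 := mem_C1 21 (by decide)
  have c22 : el 22 ∈ C1 := mem_C1 22 (by decide)
  have c31 : el 31 ∈ C1 := mem_C1 31 (by decide)
  have e1 := cV _ (mul_mem c21 c22) (m1.symm ▸ c22)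
  have e2 := h.h0.mul.conj h5 (hCK c22)
  have e3 := h.h0.mul.pow (mul_mem h5 (hCK (mul_mem c21 c22))) 3
  have e4 := p.mul.pow (mul_mem (mul_mem (C1_le_C0 hxC) h37) (C1_le_C0 c31)) 3
  have eW : φ (el 5) * φ (el 5) = 1 := by rw [← h.h0.mul _ h5 _ h5, sq5, h.h0.mul.one]
  have eV : ψ (el 37) * ψ (el 37) = 1 := by rw [← p.mul _ h37 _ h37, sq37, p.mul.one]
  rw [m1] at e1
  rw [m2] at e2
  rw [m3, h.h0.mul.one, h.h0.mul _ h5 _ (hCK (mul_mem c21 c22))] at e3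
  rw [m4, p.mul _ (mul_mem (C1_le_C0 hxC) h37) _ (C1_le_C0 c31), p.mul _ (C1_le_C0 hxC) _ h37, p.eq _ hxC,
    p.eq _ c31, p.eq _ (RR_le z_RR), e, e2, ← e1, ← hH] at e4
  refine z_ne (h.h0.inj _ (hCK (RR_le z_RR)) ?_)
  generalize φ (el 5) = W at *
  generalize ψ (el 37) = V at *
  generalize φ (el 21 * el 22) = A at *
  have iW : W⁻¹ = W := inv_eq_of_mul_eq_one_right eW
  have iV : V⁻¹ = V := inv_eq_of_mul_eq_one_right eV
  have wW : ∀ y, W * (W * y) = y := fun y => by rw [← mul_assoc, eW, one_mul]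
  have wV : ∀ y, V * (V * y) = y := fun y => by rw [← mul_assoc, eV, one_mul]
  have e5 : (W * V) ^ 3 * V * (W * (V * A * V⁻¹) * W⁻¹) = (W * V) * (W * A) * (W * V)⁻¹ := by
    simp only [pow_succ, pow_zero, one_mul, mul_inv_rev, iW, iV, mul_assoc, wW, wV]
  rw [e4, e5, conj_pow, ← e3]
  simp

end Cfsg.Agent.P83
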