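import Cfsg.Agent.P83.R3a

/-! The commuting relation. -/

set_option autoImplicit false
set_option linter.unusedSectionVars false

namespace Cfsg.Agent.P83

open Subgroup H97 H15 H11 CO1 CO2 QuadraticMap H4.GF

section
variable {H : Type*} [Group H] [Finite H]

theorem r3_one {x : H} {k : ℕ} (h2 : x ^ 2 ^ k = 1) (h3 : x ^ 3 = 1) : x = 1 := by
  have := pow_gcd_eq_one.2 ⟨h2, h3⟩
  rwa [(Nat.Coprime.pow_left k (by norm_num : Nat.Coprime 2 3)).gcd_eq_one, pow_one] at this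

theorem r3_abs0 {F : Subgroup H} (hF2 : ∀ a ∈ F, a * a = 1) {y r : H} (hy : y ∈ F)
    (hr : ∀ a, a * r = r * a) (r3 : r ^ 3 = 1) (hC : ∀ g, g * y = y * g → ∃ f ∈ F, ∃ j : ℕ, g = f * r ^ j)
    (hN : ∀ g, (∀ f ∈ F, g * f * g⁻¹ ∈ F) → g * y = y * g) {a b : H} (ha : a ^ 3 = 1) (hb : b ^ 3 = 1) :
    ∃ j : ℕ, a * b = b * a * r ^ j := by
  have : Fact (Nat.Prime 2) := ⟨Nat.prime_two⟩
  have rj : ∀ (j : ℕ) (a : H), a * r ^ j = r ^ j * a := fun j a => (Commute.pow_right (hr a) j).eq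
  have rj3 : ∀ j : ℕ, (r ^ j) ^ 3 = 1 := fun j => by rw [← pow_mul, mul_comm, pow_mul, r3, one_pow]
  have fi : ∀ a ∈ F, a⁻¹ = a := fun a ha => inv_eq_of_mul_eq_one_right (hF2 a ha)
  have fc : ∀ a ∈ F, ∀ b ∈ F, a * b = b * a := fun a ha b hb => by
    rw [← fi _ (mul_mem ha hb), mul_inv_rev, fi a ha, fi b hb]
  have hp : IsPGroup 2 F := fun x => ⟨1, Subtype.ext (by simpa [pow_two] using hF2 x x.2)⟩
  obtain ⟨S, hS⟩ := hp.exists_le_sylow
  have hSF : (S : Subgroup H) ≤ F := by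
    by_contra hne
    have := S.isPGroup'.isNilpotent
    have hlt : F.subgroupOf S < ⊤ := lt_top_iff_ne_top.2 fun e => hne (subgroupOf_eq_top.1 e)
    obtain ⟨g, hg, hg'⟩ := SetLike.exists_of_lt (Group.normalizerCondition_of_isNilpotent _ hlt)
    obtain ⟨f, hf, j, e⟩ := hC g (hN g fun f hf => (mem_normalizer_iff.1 hg ⟨f, hS hf⟩).1 hf)
    have m : r ^ j ∈ (S : Subgroup H) := by
      rw [show r ^ j = f⁻¹ * g by rw [e]; group]
      exact mul_mem (inv_mem (hS hf)) g.2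
    obtain ⟨k, hk⟩ := S.isPGroup' ⟨_, m⟩
    have e1 : r ^ j = 1 := r3_one (congrArg Subtype.val hk) (rj3 j)
    rw [e1, mul_one] at e
    exact hg' (mem_subgroupOf.2 (e ▸ hf))
  have hP : normalizer ((S : Subgroup H) : Set H) ≤ centralizer ((S : Subgroup H) : Set H) := fun g hg x hx => by
    obtain ⟨f, hf, j, rfl⟩ := hC g (hN g fun f hf => hSF ((mem_normalizer_iff.1 hg f).1 (hS hf)))
    rw [← mul_assoc, fc x (hSF hx) f hf, mul_assoc, rj j x, mul_assoc]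
  set N := (MonoidHom.transferSylow S hP).ker
  have hn : N.Normal := inferInstance
  have hodd : ¬ 2 ∣ Nat.card N := MonoidHom.not_dvd_card_ker_transferSylow S hP
  have m3 : ∀ x : H, x ^ 3 = 1 → x ∈ N := fun x hx => by
    obtain ⟨k, hk⟩ := S.isPGroup' (MonoidHom.transferSylow S hP x)
    have : Finite S := inferInstance
    exact r3_one hk (by rw [← map_pow, hx, map_one])
  have od : ∀ u ∈ N, u ^ (Nat.card N) = 1 := fun u hu =>
    congrArg Subtype.val (pow_card_eq_one' (x := (⟨u, hu⟩ : N)))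
  obtain ⟨c, hc⟩ : Odd (Nat.card N) := Nat.not_even_iff_odd.1 fun e => hodd e.two_dvd
  have y2 := hF2 y hy
  have yi := fi y hy
  have cN : ∀ g ∈ N, y * g * y⁻¹ = g → ∃ j : ℕ, g = r ^ j := fun g hg e => by
    obtain ⟨f, hf, j, rfl⟩ := hC g (mul_inv_eq_iff_eq_mul.1 e).symm
    have := od f ((mul_mem_cancel_right (pow_mem (m3 r r3) j)).1 hg)
    rw [hc, pow_succ, pow_mul, pow_two, hF2 f hf, one_pow, one_mul] at this
    exact ⟨j, by rw [this, one_mul]⟩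
  have dec : ∀ a ∈ N, ∃ j : ℕ, ∃ b ∈ N, y * b * y⁻¹ = b⁻¹ ∧ a = r ^ j * b := fun a ha => by
    have hu : a⁻¹ * (y * a * y⁻¹) ∈ N := mul_mem (inv_mem ha) (hn.conj_mem a ha y)
    have iu : y * (a⁻¹ * (y * a * y⁻¹)) * y⁻¹ = (a⁻¹ * (y * a * y⁻¹))⁻¹ := by
      calc _ = y * a⁻¹ * (y * a) * (y * y)⁻¹ := by group
        _ = y * a⁻¹ * (y⁻¹ * a) := by rw [y2, yi]; group
        _ = _ := by group
    have ea : y * a * y⁻¹ = a * (a⁻¹ * (y * a * y⁻¹)) := by group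
    generalize a⁻¹ * (y * a * y⁻¹) = u at hu iu ea
    have ib : y * u ^ (c + 1) * y⁻¹ = (u ^ (c + 1))⁻¹ := by rw [← conj_pow, iu, inv_pow]
    have b2 : u = u ^ (c + 1) * u ^ (c + 1) := by
      rw [← pow_add, show c + 1 + (c + 1) = 2 * c + 1 + 1 by ring, pow_succ, ← hc, od u hu, one_mul]
    have hb := pow_mem hu (c + 1)
    generalize u ^ (c + 1) = b at ib b2 hb
    obtain ⟨j, e⟩ := cN (a * b) (mul_mem ha hb) (by
      rw [← conj_mul, ea, ib, b2]; group)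
    exact ⟨j, b⁻¹, inv_mem hb, by rw [← conj_inv, ib], by rw [← e]; group⟩
  obtain ⟨i, a', ha', ia, rfl⟩ := dec a (m3 a ha)
  obtain ⟨j, b', hb', ib, rfl⟩ := dec b (m3 b hb)
  obtain ⟨k, c', -, ic, e⟩ := dec _ (mul_mem ha' hb')
  have e1 : a'⁻¹ * b'⁻¹ = r ^ k * c'⁻¹ := by
    rw [← ia, ← ib, conj_mul, e, ← conj_mul, ic, rj k y, mul_inv_cancel_right]
  have e2 : a' * b' = b' * a' * r ^ (k + k) := by
    have e3 : b' * a' = c' * (r ^ k)⁻¹ := by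
      rw [← inv_inj, mul_inv_rev, e1, mul_inv_rev, inv_inv]
    rw [e3, e, pow_add, ← rj k c']; group
  refine ⟨k + k, ?_⟩
  calc r ^ i * a' * (r ^ j * b') = r ^ i * (a' * r ^ j) * b' := by group
    _ = r ^ i * r ^ j * (a' * b') := by rw [rj j a']; group
    _ = r ^ j * (r ^ i * b') * a' * r ^ (k + k) := by rw [e2]; group
    _ = _ := by rw [← rj i b']; group

theorem r3_abs {A F : Subgroup H} (hFA : F ≤ A) (hF2 : ∀ a ∈ F, a * a = 1) {y r : H} (hy : y ∈ F) (hrA : r ∈ A)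
    (hr : ∀ a ∈ A, a * r = r * a) (r3 : r ^ 3 = 1)
    (hC : ∀ g ∈ A, g * y = y * g → ∃ f ∈ F, ∃ j : ℕ, g = f * r ^ j)
    (hN : ∀ g ∈ A, (∀ f ∈ F, g * f * g⁻¹ ∈ F) → g * y = y * g) {a b : H} (aA : a ∈ A) (bA : b ∈ A)
    (ha : a ^ 3 = 1) (hb : b ^ 3 = 1) : ∃ j : ℕ, a * b = b * a * r ^ j := by
  obtain ⟨j, e⟩ := r3_abs0 (H := A) (F := F.subgroupOf A) (fun a ha => Subtype.ext (hF2 a ha))
    (y := ⟨y, hFA hy⟩) (r := ⟨r, hrA⟩) hy (fun a => Subtype.ext (hr a a.2)) (Subtype.ext r3)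
    (fun g e => by
      obtain ⟨f, hf, j, e⟩ := hC g g.2 (congrArg Subtype.val e)
      exact ⟨⟨f, hFA hf⟩, hf, j, Subtype.ext e⟩)
    (fun g e => Subtype.ext (hN g g.2 fun f hf => e ⟨f, hFA hf⟩ hf))
    (a := ⟨a, aA⟩) (b := ⟨b, bA⟩) (Subtype.ext ha) (Subtype.ext hb)
  exact ⟨j, congrArg Subtype.val e⟩

end

/-- the sign changes -/
noncomputable def r3_f (k : ℕ) : Y := ev (bw [15, 16, 13, 36] k)

/-- the conjugating words -/
def r3_u (k : ℕ) : List ℕ := [[], [], [11], [19, 34, 11], [], [19], [20, 11], [34, 11], [35, 11], [11, 19], [35, 19],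
  [11], [19, 34], [19, 11], [34], [34, 19]].getD k []

/-- the representatives -/
def r3_b (k : ℕ) : ℕ := if k ∈ [4, 11, 12, 13, 14] then 13 else 15

theorem r3_mem {k : ℕ} (hk : k < 16) : r3_f k ∈ F5 := mem_F5.2 ⟨k, hk, rfl⟩

theorem r3_conj {k : ℕ} (hk : k < 16) (h0 : k ≠ 0) : ev (r3_u k) * el (r3_b k) * (ev (r3_u k))⁻¹ = r3_f k := by
  have h : ∀ k < 16, k ≠ 0 → eqp (wC (r3_u k ++ [r3_b k])) (wC (bw [15, 16, 13, 36] k ++ r3_u k)) = true := by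
    decide +kernel
  have := (ev_eq _ _).2 (h k hk h0)
  rw [ev_append, ev_append, ev_one] at this
  rw [this, mul_inv_cancel_right, r3_f]

theorem r3_u_mem {k : ℕ} (hk : k < 16) : ev (r3_u k) ∈ N0 := by
  have h : ∀ k < 16, ∀ i ∈ r3_u k, i ∈ [8, 9, 11, 34, 35, 37] ∨
    i ∈ [13, 14, 15, 16, 17, 18, 19, 20, 21, 22, 27, 28, 29, 30, 31, 36] := by decide
  exact ev_mem fun i hi => (h k hk i hi).elim (mem_N0 i) fun e => B0_le_N0 (mem_B0 i e)

theorem r3_mul {k j : ℕ} (hk : k < 16) (hj : j < 16) : r3_f k * r3_f j = r3_f (k ^^^ j) := by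
  have h : ∀ k < 16, ∀ j < 16, eqp (wC (bw [15, 16, 13, 36] k ++ bw [15, 16, 13, 36] j))
    (wC (bw [15, 16, 13, 36] (k ^^^ j))) = true := by decide +kernel
  have := (ev_eq _ _).2 (h k hk j hj)
  rwa [ev_append] at this

theorem r3_m {k : ℕ} (hk : k < 16) : el 34 * r3_f k * (el 34)⁻¹ ∈ F5 := by
  have h : ∀ k < 16, eqp (wC (34 :: bw [15, 16, 13, 36] k)) (wC (bw [15, 16, 13, 36]
    ([0, 1, 7, 6, 14, 15, 9, 8, 2, 3, 5, 4, 12, 13, 11, 10].getD k 0) ++ [34])) = true ∧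
    [0, 1, 7, 6, 14, 15, 9, 8, 2, 3, 5, 4, 12, 13, 11, 10].getD k 0 < 16 := by decide +kernel
  have := (ev_eq _ _).2 (h k hk).1
  rw [ev_append, ev_cons, ev_one] at this
  rw [r3_f, this, mul_inv_cancel_right]
  exact r3_mem (h k hk).2

theorem r3_r {k : ℕ} (hk : k < 16) : r3_f k * el 8 = el 8 * r3_f k := by
  have h : ∀ k < 16, eqp (wC (bw [15, 16, 13, 36] k ++ [8])) (wC (8 :: bw [15, 16, 13, 36] k)) = true := by
    decide +kernel
  have := (ev_eq _ _).2 (h k hk)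
  rwa [ev_append, ev_cons 8 (bw _ _), ev_one] at this

theorem r3_two {i j k l : ℕ} (h : eqp (wC [i, j]) (wC [k, l]) = true) : el i * el j = el k * el l := by
  have := (ev_eq _ _).2 h
  simpa only [ev_cons, ev_nil, mul_one] using this

theorem r3_cube {i : ℕ} (h : eqp (wC [i, i, i]) (wC []) = true) : el i ^ 3 = 1 := by
  have := (ev_eq _ _).2 h
  simp only [ev_cons, ev_nil, mul_one] at this
  rw [pow_succ', pow_two, this]

theorem r3_f0 : r3_f 0 = 1 := rfl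
theorem r3_f1 : r3_f 1 = el 15 := ev_one 15
theorem r3_f2 : r3_f 2 = el 16 := ev_one 16

theorem r3_mz : el 34 * el 13 = r3_f 14 * el 34 := by
  have := r3_conj (k := 14) (by norm_num) (by norm_num)
  rw [show r3_u 14 = [34] from rfl, show r3_b 14 = 13 from rfl, ev_one] at this
  exact mul_inv_eq_iff_eq_mul.1 this

theorem r3_nz : el 11 * el 13 = r3_f 11 * el 11 := by
  have := r3_conj (k := 11) (by norm_num) (by norm_num)
  rw [show r3_u 11 = [11] from rfl, show r3_b 11 = 13 from rfl, ev_one] at this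
  exact mul_inv_eq_iff_eq_mul.1 this

theorem r3_nn : el 11 * el 11 = 1 := by
  have : ev [11, 11] = ev [] := (ev_eq _ _).2 (by decide +kernel)
  simpa only [ev_cons, ev_nil, mul_one] using this

theorem r3_inv : r3_f 11 * el 6 * (r3_f 11)⁻¹ = (el 6)⁻¹ := by
  have : ev (bw [15, 16, 13, 36] 11 ++ [6]) = ev (7 :: bw [15, 16, 13, 36] 11) := (ev_eq _ _).2 (by decide +kernel)
  rw [ev_append, ev_one, ev_cons] at this
  rw [r3_f, this, mul_inv_cancel_right, el_inv]; rfl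

theorem r3_ne : el 15 ≠ el 13 := fun e => by
  have : ¬ ev [15] = ev [13] := fun e => absurd ((ev_eq _ _).1 e) (by decide +kernel)
  exact this (by rw [ev_one, ev_one, e])

variable {G : Type*} [Group G] [Finite G] {φ ψ ν : Y → G} {K : Subgroup Y} {bd : ℕ} {π : G → V8} {ρ : G → OG Q8}

theorem r3_cls {z x : G} (g : G) : g * x * g⁻¹ ∈ cls z ↔ x ∈ cls z :=
  ⟨fun ⟨k, e⟩ => ⟨g⁻¹ * k, by rw [mul_inv_rev, inv_inv, ← mul_assoc, mul_assoc _ k, mul_assoc g⁻¹, e]; group⟩,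
    fun ⟨k, e⟩ => ⟨g * k, by rw [← e]; group⟩⟩

theorem Fr.r3_cls (h : Fr φ K bd π ρ) (l : LC h.cx.hom.range (Om (φ (el 13)) π) EE)
    (n : Nu φ ψ ν) {k : ℕ} (hk : k < 16) : φ (r3_f k) ∈ cls (φ (el 13)) ↔ k ∈ [4, 11, 12, 13, 14] := by
  have q0 : el 15 ∈ Q0 := el_mem_gp (by decide)
  have hQ : ∀ {a : Y}, a ∈ Q0 → a ∈ K := fun ha => h.h0.le (C1_le_KL (T0_le_C1 (Q0_le_T0 ha)))
  have nq : φ (el 15) ∉ cls (φ (el 13)) := fun e => l.nu ⟨_, e, (h.oz _).2 ⟨_, q0, rfl⟩,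
    fun e => r3_ne (h.h0.injOn (hQ q0) (hQ z_mem) e), by
      have := h.pi 1 (by norm_num)
      rwa [show qw 1 = el 15 from qw_pow (i := 0) (by norm_num)] at this⟩
  by_cases h0 : k = 0
  · subst h0
    rw [r3_f0, h.h0.mul.one]
    refine iff_of_false (fun ⟨g, e⟩ => h.cx.lx.ne ?_) (by decide)
    simpa using e
  have bB : el (r3_b k) ∈ B0 := mem_B0 _ (by unfold r3_b; split_ifs <;> decide)
  rw [← n.eq _ (T0_le_B0 (F5_le_T0 (r3_mem hk))), ← r3_conj hk h0, n.mul.conj (r3_u_mem hk) (B0_le_N0 bB),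
    P83.r3_cls, n.eq _ bB]
  unfold r3_b
  split_ifs with c
  · exact iff_of_true (self_mem_cls _) c
  · exact iff_of_false nq c

theorem Fr.r3 (h : Fr φ K bd π ρ) (p : Ps φ ψ ρ) (l : LC h.cx.hom.range (Om (φ (el 13)) π) EE)
    (n : Nu φ ψ ν) : Commute (φ (el 6)) (ν (el 11) * φ (el 6) * ν (el 11)) := by
  have FB : ∀ {x : Y}, x ∈ F5 → x ∈ B0 := fun hx => T0_le_B0 (F5_le_T0 hx)
  have FC : ∀ {x : Y}, x ∈ F5 → x ∈ C1 := fun hx => T0_le_C1 (F5_le_T0 hx)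
  have CK : ∀ {x : Y}, x ∈ C1 → x ∈ K := fun hx => h.h0.le (C1_le_KL hx)
  have fK : ∀ {k : ℕ}, k < 16 → r3_f k ∈ K := fun hk => CK (FC (r3_mem hk))
  have s1 : el 6 ∈ C1 := el_mem_gp (by decide)
  have r0 : el 8 ∈ C0 := mem_C0 8 (by decide)
  have rN : el 8 ∈ N0 := mem_N0 8 (by decide)
  have nN : el 11 ∈ N0 := mem_N0 11 (by decide)
  have mN : el 34 ∈ N0 := mem_N0 34 (by decide)
  have B15 : el 15 ∈ B0 := mem_B0 15 (by decide)
  have B16 : el 16 ∈ B0 := mem_B0 16 (by decide)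
  have B13 : el 13 ∈ B0 := mem_B0 13 (by decide)
  have B36 : el 36 ∈ B0 := mem_B0 36 (by decide)
  have C15 : el 15 ∈ C1 := mem_C1 15 (by decide)
  have C16 : el 16 ∈ C1 := mem_C1 16 (by decide)
  have C13 : el 13 ∈ C1 := mem_C1 13 (by decide)
  have fm : ∀ {k j : ℕ}, k < 16 → j < 16 → φ (r3_f k) * φ (r3_f j) = φ (r3_f (k ^^^ j)) := fun hk hj => by
    rw [← h.h0.mul _ (fK hk) _ (fK hj), r3_mul hk hj]
  have fc : ∀ {k j : ℕ}, k < 16 → j < 16 → φ (r3_f k) * φ (r3_f j) = φ (r3_f j) * φ (r3_f k) := fun hk hj => by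
    rw [fm hk hj, fm hj hk, Nat.xor_comm]
  -- transport of relations
  have tφ : ∀ {a b c d : Y}, a ∈ C1 → b ∈ C1 → c ∈ C1 → d ∈ C1 → a * b = c * d → φ a * φ b = φ c * φ d :=
    fun ha hb hc hd e => by rw [← h.h0.mul _ (CK ha) _ (CK hb), ← h.h0.mul _ (CK hc) _ (CK hd), e]
  have tψ : ∀ {a : Y}, a ∈ C1 → a * el 8 = el 8 * a → φ a * ψ (el 8) = ψ (el 8) * φ a := fun ha e => by
    rw [← p.eq _ ha, ← p.mul _ (C1_le_C0 ha) _ r0, ← p.mul _ r0 _ (C1_le_C0 ha), e]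
  have tν : ∀ {a b c : Y}, a ∈ N0 → b ∈ B0 → c ∈ B0 → a * b = c * a → ν a * φ b = φ c * ν a :=
    fun ha hb hc e => by
      rw [← n.eq _ hb, ← n.eq _ hc, ← n.mul _ ha _ (B0_le_N0 hb), ← n.mul _ (B0_le_N0 hc) _ ha, e]
  have tr : ∀ {a : Y}, a ∈ N0 → a * el 8 = el 8 * a → ν a * ψ (el 8) = ψ (el 8) * ν a := fun ha e => by
    rw [← n.r, ← n.mul _ ha _ rN, ← n.mul _ rN _ ha, e]
  have N2 : ν (el 11) * ν (el 11) = 1 := by rw [← n.mul _ nN _ nN, r3_nn, n.mul.one]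
  have Ni : (ν (el 11))⁻¹ = ν (el 11) := inv_eq_of_mul_eq_one_right N2
  have n1 := tν nN B15 B16 (r3_two (by decide +kernel))
  have n2 := tν nN B16 B15 (r3_two (by decide +kernel))
  have n3 := tr nN (r3_two (by decide +kernel))
  have n4 := tν nN B13 (FB (r3_mem (k := 11) (by norm_num))) r3_nz
  have m1 := tν mN B13 (FB (r3_mem (k := 14) (by norm_num))) r3_mz
  have m2 := tν mN B15 B15 (r3_two (by decide +kernel))
  have m3 := tν mN B36 B16 (r3_two (by decide +kernel))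
  have m4 := tr mN (r3_two (by decide +kernel))
  have a1 := tφ s1 C15 C15 s1 (r3_two (by decide +kernel))
  have a2 := tφ s1 C16 C16 s1 (r3_two (by decide +kernel))
  have a3 := tψ s1 (r3_two (by decide +kernel))
  have a4 := tφ s1 C13 C13 s1 (r3_two (by decide +kernel))
  have a5 := tψ C13 (r3_two (by decide +kernel))
  have a6 : φ (r3_f 11) * φ (el 6) * (φ (r3_f 11))⁻¹ = (φ (el 6))⁻¹ := by
    rw [← h.h0.mul.conj (fK (by norm_num)) (CK s1), r3_inv, h.h0.mul.inv (CK s1)]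
  have c6 : φ (el 6) ^ 3 = 1 := by
    rw [← h.h0.mul.pow (CK s1), r3_cube (by decide +kernel), h.h0.mul.one]
  have c8 : ψ (el 8) ^ 3 = 1 := by rw [← p.mul.pow r0, r3_cube (by decide +kernel), p.mul.one]
  let A : Subgroup G := Cz (φ (el 15)) ⊓ Cz (φ (el 16)) ⊓ Cz (ψ (el 8))
  have mA : ∀ {g : G}, g ∈ A ↔ (g * φ (el 15) = φ (el 15) * g ∧ g * φ (el 16) = φ (el 16) * g) ∧
      g * ψ (el 8) = ψ (el 8) * g := by
    intro g; simp only [A, mem_inf, mem_Cz]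
  let F : Subgroup G := (F5.subgroupOf K).map h.h0.mul.hom
  have mF : ∀ {g : G}, g ∈ F ↔ ∃ k < 16, g = φ (r3_f k) := by
    intro g
    refine ⟨?_, ?_⟩
    · rintro ⟨x, hx, rfl⟩
      obtain ⟨k, hk, e⟩ := mem_F5.1 (mem_subgroupOf.1 hx)
      exact ⟨k, hk, congrArg φ e⟩
    · rintro ⟨k, hk, rfl⟩
      exact ⟨⟨_, fK hk⟩, mem_subgroupOf.2 (r3_mem hk), rfl⟩
  have sA : φ (el 6) ∈ A := mA.2 ⟨⟨a1, a2⟩, a3⟩
  have cjN : ∀ {x u v : G}, ν (el 11) * u = v * ν (el 11) → x * u = u * x →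
      ν (el 11) * x * ν (el 11) * v = v * (ν (el 11) * x * ν (el 11)) := by
    intro x u v e1 e2
    have : v = ν (el 11) * u * (ν (el 11))⁻¹ := by rw [e1]; group
    nth_rewrite 2 [← Ni]
    nth_rewrite 4 [← Ni]
    rw [this, conj_mul, conj_mul, e2]
  have tA : ν (el 11) * φ (el 6) * ν (el 11) ∈ A := mA.2 ⟨⟨cjN n2 a2, cjN n1 a1⟩, cjN n3 a3⟩
  obtain ⟨j, e⟩ := r3_abs (A := A) (F := F) (y := φ (r3_f 15)) (r := ψ (el 8))
    (fun g hg => by
      obtain ⟨k, hk, rfl⟩ := mF.1 hg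
      exact mA.2 ⟨⟨r3_f1 ▸ fc hk (by norm_num), r3_f2 ▸ fc hk (by norm_num)⟩, tψ (FC (r3_mem hk)) (r3_r hk)⟩)
    (fun g hg => by
      obtain ⟨k, hk, rfl⟩ := mF.1 hg
      rw [fm hk hk, Nat.xor_self, r3_f0, h.h0.mul.one])
    (mF.2 ⟨15, by norm_num, rfl⟩)
    (mA.2 ⟨⟨(tψ C15 (r3_two (by decide +kernel))).symm, (tψ C16 (r3_two (by decide +kernel))).symm⟩, rfl⟩)
    (fun a ha => (mA.1 ha).2) c8
    (fun g hg e => by
      obtain ⟨⟨g1, g2⟩, g3⟩ := mA.1 hg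
      have cj : ∀ {u v : G}, ν (el 34) * u = v * ν (el 34) → g * v = v * g →
          (ν (el 34))⁻¹ * g * ν (el 34) ∈ Cz u := by
        intro u v e1 e2
        have : u = (ν (el 34))⁻¹ * v * ν (el 34) := by rw [mul_assoc, ← e1]; group
        rw [mem_Cz, this]
        calc _ = (ν (el 34))⁻¹ * (g * v) * ν (el 34) := by group
          _ = _ := by rw [e2]; group
      have g4 : g * φ (r3_f 14) = φ (r3_f 14) * g := by
        rw [show 14 = 15 ^^^ 1 from rfl, ← fm (by norm_num) (by norm_num), r3_f1, ← mul_assoc, e, mul_assoc, g1,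
          mul_assoc]
      obtain ⟨x, hx, j, -, e1⟩ := h.r3a p l (cj m1 g4) (cj m2 g1) (cj m3 g2) (cj m4 g3)
      obtain ⟨k, hk, rfl⟩ := mem_F5.1 hx
      have w := r3_m hk
      obtain ⟨k', hk', w'⟩ := mem_F5.1 w
      refine ⟨φ (r3_f k'), mF.2 ⟨k', hk', rfl⟩, j, ?_⟩
      have e2 := tν mN (FB hx) (FB (r3_mem hk')) (mul_inv_eq_iff_eq_mul.1 w')
      have e3 : ν (el 34) * ψ (el 8) ^ j = ψ (el 8) ^ j * ν (el 34) := (Commute.pow_right m4 j).eq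
      calc g = ν (el 34) * ((ν (el 34))⁻¹ * g * ν (el 34)) * (ν (el 34))⁻¹ := by group
        _ = _ := by rw [e1, ← mul_assoc, e2, mul_assoc _ (ν _), e3]; group)
    (fun g hg e => by
      obtain ⟨⟨g1, g2⟩, -⟩ := mA.1 hg
      obtain ⟨k, hk, e1⟩ := mF.1 (e _ (mF.2 ⟨15, by norm_num, rfl⟩))
      have x1 : k ^^^ 1 < 16 := Nat.xor_lt_two_pow (n := 4) hk (by norm_num)
      have x2 : k ^^^ 2 < 16 := Nat.xor_lt_two_pow (n := 4) hk (by norm_num)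
      have k0 : k ∉ [4, 11, 12, 13, 14] := by
        rw [← h.r3_cls l n hk, ← e1, P83.r3_cls, h.r3_cls l n (by norm_num)]; decide
      have g1' : g * φ (r3_f 1) * g⁻¹ = φ (r3_f 1) := mul_inv_eq_iff_eq_mul.2 (by rw [r3_f1]; exact g1)
      have g2' : g * φ (r3_f 2) * g⁻¹ = φ (r3_f 2) := mul_inv_eq_iff_eq_mul.2 (by rw [r3_f2]; exact g2)
      have k1 : k ^^^ 1 ∈ [4, 11, 12, 13, 14] := by
        rw [← h.r3_cls l n x1, ← fm hk (by norm_num), ← e1, ← g1', conj_mul,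
          P83.r3_cls, fm (by norm_num) (by norm_num), h.r3_cls l n (by decide)]; decide
      have k2 : k ^^^ 2 ∈ [4, 11, 12, 13, 14] := by
        rw [← h.r3_cls l n x2, ← fm hk (by norm_num), ← e1, ← g2', conj_mul,
          P83.r3_cls, fm (by norm_num) (by norm_num), h.r3_cls l n (by decide)]; decide
      have : k = 15 := (by decide : ∀ k < 16, k ∉ [4, 11, 12, 13, 14] → k ^^^ 1 ∈ [4, 11, 12, 13, 14] →
        k ^^^ 2 ∈ [4, 11, 12, 13, 14] → k = 15) k hk k0 k1 k2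
      rw [this] at e1
      exact mul_inv_eq_iff_eq_mul.1 e1)
    sA tA c6 (by nth_rewrite 2 [← Ni]; rw [conj_pow, c6]; group)
  have iz : φ (el 13) * (ν (el 11) * φ (el 6) * ν (el 11)) * (φ (el 13))⁻¹ = (ν (el 11) * φ (el 6) * ν (el 11))⁻¹ := by
    have : φ (el 13) = (ν (el 11))⁻¹ * φ (r3_f 11) * ν (el 11) := by rw [mul_assoc, ← n4]; group
    rw [this]
    calc _ = (ν (el 11))⁻¹ * φ (r3_f 11) * (ν (el 11) * ν (el 11)) * φ (el 6) * (φ (r3_f 11))⁻¹ * ν (el 11) := by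
          group
      _ = (ν (el 11))⁻¹ * (φ (r3_f 11) * φ (el 6) * (φ (r3_f 11))⁻¹) * ν (el 11) := by rw [N2]; group
      _ = _ := by rw [a6, mul_inv_rev, mul_inv_rev, Ni, mul_assoc]
  have c1 : Commute (ψ (el 8) ^ j) (ν (el 11) * φ (el 6) * ν (el 11)) :=
    Commute.pow_left (mA.1 tA).2.symm j
  have c2 : φ (el 13) * ψ (el 8) ^ j * (φ (el 13))⁻¹ = ψ (el 8) ^ j :=
    mul_inv_eq_iff_eq_mul.2 (Commute.pow_right a5 j).eq
  have c3 : (ψ (el 8) ^ j) ^ 3 = 1 := by rw [← pow_mul, mul_comm, pow_mul, c8, one_pow]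
  have c4 : φ (el 13) * φ (el 6) * (φ (el 13))⁻¹ = φ (el 6) := mul_inv_eq_iff_eq_mul.2 a4.symm
  generalize ν (el 11) * φ (el 6) * ν (el 11) = b at e iz c1
  generalize ψ (el 8) ^ j = s at e c1 c2 c3
  have e2 : φ (el 6) * b⁻¹ = b⁻¹ * φ (el 6) * s := by
    rw [← iz, ← c4, ← c2, conj_mul, conj_mul, conj_mul, e]
  have e3 : s * s = 1 := by
    have e4 : b⁻¹ * φ (el 6) * b = φ (el 6) * s := by rw [mul_assoc, e]; group
    have e5 : φ (el 6) = b⁻¹ * φ (el 6) * b * s := by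
      rw [mul_assoc, ← c1.eq, ← mul_assoc, ← e2]; group
    rw [e4, mul_assoc] at e5
    exact (left_eq_mul.1 e5)
  have e6 : s = 1 := r3_one (k := 1) (by rw [pow_one, pow_two, e3]) c3
  rw [e6, mul_one] at e
  exact e

end Cfsg.Agent.P83
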