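import Cfsg.Agent.P83.Crd
import Cfsg.Agent.P83.BaseQ
import Cfsg.Agent.S0817
import Cfsg.Agent.H44.Components

/-! From the hypotheses of the statement to `H0`. -/

set_option autoImplicit false

namespace Cfsg.Agent.P83

open Subgroup H97 H15 H11 CO1 CO2 QuadraticMap H4.GF

namespace Red1

/-- a Sylow subgroup of a subgroup of odd index is a Sylow subgroup -/
theorem exists_syl {G : Type*} [Group G] [Finite G] (H : Subgroup G) (hidx : ¬ 2 ∣ H.index)
    (T : Sylow 2 H) : ∃ S : Sylow 2 G, (S : Subgroup G) = (T : Subgroup H).map H.subtype := by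
  have : Fact (Nat.Prime 2) := ⟨Nat.prime_two⟩
  refine ⟨(T.isPGroup'.map H.subtype).toSylow ?_, rfl⟩
  rw [index_map_subtype]
  exact fun h => (Nat.prime_two.dvd_mul.1 h).elim T.not_dvd_index hidx

theorem card_aut : Nat.card (MulAut KL) = 1045094400 := by
  have : Fact (Nat.Prime 2) := ⟨Nat.prime_two⟩
  obtain ⟨e⟩ := KL_equiv
  have h := S0817.result (F := ZMod 2) 2 1 le_rfl (by simp) 4 le_rfl
  rw [← Nat.card_congr e.toEquiv, card_KL] at h
  rw [Nat.card_congr (MulAut.congr e).toEquiv, h]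
  norm_num

theorem KO_le : KO ≤ normalizer (KL : Set Y) := fun g hg =>
  mem_normalizer_iff.2 fun x => ⟨KL_normal g hg x, fun h => by
    have := KL_normal g⁻¹ (inv_mem hg) _ h
    simpa [mul_assoc] using this⟩

/-- the action of `KO` on `KL` -/
noncomputable def bt : KO →* MulAut KL := (normalizerMonoidHom KL).comp (inclusion KO_le)

theorem bt_apply (k : KO) (x : KL) : ((bt k x : KL) : Y) = k * x * (k : Y)⁻¹ := rfl

theorem bt_inj : Function.Injective bt := (injective_iff_map_eq_one _).2 fun k hk =>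
  Subtype.ext (cen_KL k k.2 fun x hx => by
    have := bt_apply k ⟨x, hx⟩
    rw [hk] at this
    exact (eq_mul_inv_iff_mul_eq.1 this).symm)

theorem bt_KL (x : KL) : bt ⟨x, KL_le_KO x.2⟩ = MulAut.conj x := by
  ext y; rfl

theorem bt_index : ¬ 2 ∣ bt.range.index := by
  have h := bt.range.card_mul_index
  rw [card_aut, ← Nat.card_congr (MonoidHom.ofInjective bt_inj).toEquiv, card_KO] at h
  omega

theorem exists_al {H : Type*} [Group H] [Finite H] (L : Subgroup H) [L.Normal]
    (hc : centralizer (L : Set H) ≤ L) (e : L ≃* KL) (T : Sylow 2 H) :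
    ∃ α : H →* MulAut KL, Function.Injective α ∧ (∀ x : KL, MulAut.conj x ∈ α.range) ∧
      ∀ t ∈ (T : Subgroup H), α t ∈ bt.range := by
  have : Fact (Nat.Prime 2) := ⟨Nat.prime_two⟩
  let α : H →* MulAut KL := (MulAut.congr e).toMonoidHom.comp (MulAut.conjNormal (H := L))
  have ha : ∀ (h : H) (l : L), α h (e l) = e (MulAut.conjNormal h l) := fun h l => by
    simp [α]
  have hL : ∀ l : L, α l = MulAut.conj (e l) := fun l => by
    refine MulEquiv.ext fun x => ?_
    obtain ⟨y, rfl⟩ := e.surjective x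
    rw [ha, MulAut.conj_apply, ← map_inv, ← map_mul, ← map_mul]
    rfl
  have hi : Function.Injective α := (injective_iff_map_eq_one _).2 fun h hh => by
    have h1 : h ∈ L := hc (mem_centralizer_iff.2 fun l hl => by
      have := ha h ⟨l, hl⟩
      rw [hh] at this
      have := congrArg Subtype.val (e.injective this)
      exact eq_mul_inv_iff_mul_eq.1 this)
    have h2 := hL ⟨h, h1⟩
    rw [hh, ← bt_KL] at h2
    have h3 : e ⟨h, h1⟩ = 1 :=
      Subtype.ext (congrArg (fun k : KO => (k : Y)) ((injective_iff_map_eq_one _).1 bt_inj _ h2.symm))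
    exact congrArg Subtype.val ((map_eq_one_iff e e.injective).1 h3)
  obtain ⟨S0⟩ : Nonempty (Sylow 2 bt.range) := inferInstance
  obtain ⟨S, hS⟩ := exists_syl bt.range bt_index S0
  obtain ⟨P, hP⟩ := (T.isPGroup'.map α).exists_le_sylow
  obtain ⟨g, hg⟩ := MulAction.exists_smul_eq (MulAut KL) P S
  refine ⟨(MulAut.conj g).toMonoidHom.comp α, (MulAut.conj g).injective.comp hi, fun x => ?_,
    fun t ht => ?_⟩
  · refine ⟨e.symm (g⁻¹ x), ?_⟩
    change g * α _ * g⁻¹ = _
    rw [hL, MulEquiv.apply_symm_apply]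
    ext y
    simp
  · have h1 : g * α t * g⁻¹ ∈ (S : Subgroup (MulAut KL)) := by
      rw [← hg]
      exact ⟨α t, hP ⟨t, ht, rfl⟩, rfl⟩
    rw [hS] at h1
    exact map_subtype_le _ h1

theorem two_le {n m b : ℕ} (k : ℕ) (hm : Odd m) (h : 2 ^ n ∣ 2 ^ k * m) (hb : 2 ^ k = b) : 2 ^ n ≤ b :=
  hb ▸ Nat.le_of_dvd (by positivity)
    ((Nat.Coprime.pow_left n (Nat.coprime_two_left.2 hm)).dvd_of_dvd_mul_right h)

end Red1

open Red1 in
theorem red1 {G : Type*} [Group G] [Finite G] (H : Subgroup G) (hidx : ¬ 2 ∣ H.index)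
    (e : ↥(generalizedFittingSubgroup ↥H) ≃* KL) : ∃ (φ : Y → G) (K : Subgroup Y) (bd : ℕ), H0 φ K bd := by
  classical
  have : Fact (Nat.Prime 2) := ⟨Nat.prime_two⟩
  obtain ⟨T⟩ : Nonempty (Sylow 2 H) := inferInstance
  obtain ⟨α, hi, hL, hT⟩ := exists_al _ H44.centralizer_gfitting_le e T
  obtain ⟨S, hS⟩ := exists_syl H hidx T
  let K0 : Subgroup KO := α.range.comap bt
  let K : Subgroup Y := K0.map KO.subtype
  have h1 : KL ≤ K := fun x hx => ⟨⟨x, KL_le_KO hx⟩,
    (hL ⟨x, hx⟩).imp fun _ h => h.trans (bt_KL ⟨x, hx⟩).symm, rfl⟩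
  have hex : ∀ k : Y, ∃ g : H, ∀ hk : k ∈ K, α g = bt ⟨k, map_subtype_le _ hk⟩ := fun k => by
    by_cases hk : k ∈ K
    · obtain ⟨k, ⟨g, hg⟩, rfl⟩ := hk
      exact ⟨g, fun _ => hg⟩
    · exact ⟨1, fun h => absurd h hk⟩
  choose f hf using hex
  have hd : Nat.card T ∣ Nat.card K := by
    rw [card_map_of_injective KO.subtype_injective, ← card_map_of_injective (K := K0) bt_inj,
      ← card_map_of_injective (K := (T : Subgroup H)) hi]
    refine card_dvd_of_le ?_
    rintro _ ⟨t, ht, rfl⟩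
    obtain ⟨k, hk⟩ := hT t ht
    exact ⟨k, ⟨t, hk.symm⟩, hk⟩
  obtain ⟨n, hn⟩ := T.isPGroup'.exists_card_eq
  have hP : ∀ P : Subgroup G, IsPGroup 2 P → Nat.card P ≤ 2 ^ n := fun P hP => by
    obtain ⟨R, hR⟩ := hP.exists_le_sylow
    refine (card_le_of_le hR).trans (le_of_eq ?_)
    rw [Nat.card_congr (Sylow.equiv R S).toEquiv, ← hn, ← card_map_of_injective H.subtype_injective,
      ← hS]
  have hm : MulOn (fun k => (f k : G)) K := fun a ha b hb => by
    have : f (a * b) = f a * f b := hi (by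
      rw [map_mul, hf a ha, hf b hb, hf _ (mul_mem ha hb), ← map_mul]; rfl)
    simp only [this, coe_mul]
  have hj : ∀ x ∈ K, (f x : G) = 1 → x = 1 := fun x hx h => by
    have h2 := hf x hx
    rw [show f x = 1 from Subtype.ext h, map_one] at h2
    exact congrArg Subtype.val ((injective_iff_map_eq_one _).1 bt_inj _ h2.symm)
  rw [hn] at hd
  rcases eq_KL_or h1 (map_subtype_le _) with h | h
  · rw [h, card_KL] at hd
    exact ⟨_, K, 4096, Or.inl ⟨h, rfl⟩, hm, hj, fun P p => (hP P p).trans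
      (two_le (m := 42525) 12 (by decide) hd (by norm_num))⟩
  · rw [h, card_KO] at hd
    exact ⟨_, K, 8192, Or.inr ⟨h, rfl⟩, hm, hj, fun P p => (hP P p).trans
      (two_le (m := 42525) 13 (by decide) hd (by norm_num))⟩

end Cfsg.Agent.P83
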