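import Cfsg.Agent.P83.BaseG
import Cfsg.Agent.P83.ModD
import Cfsg.Agent.H44.Cores
import Cfsg.Agent.H42.SylIn
import Cfsg.Prelude.Def_LocalStructure

/-! Parabolic characteristic two gives the large extraspecial subgroup. -/

set_option autoImplicit false

namespace Cfsg.Agent.P83

open Subgroup H97 H15 H11 CO1 CO2 QuadraticMap H4.GF

variable {G : Type*} [Group G] [Finite G] {φ ψ ν : Y → G} {K : Subgroup Y} {bd : ℕ} {π : G → V8} {ρ : G → OG Q8}

theorem red2_z {x : Y} (hx : x ∈ Q0) : x * el 13 = el 13 * x :=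
  mem_Cz.1 (T1_le_Cz (T0_le_T1 (Q0_le_T0 hx)))

theorem red2_sq {x : Y} {c : ℕ} (e : x = qw c ∨ x = el 13 * qw c) : x * x = qw c * qw c := by
  rcases e with rfl | rfl
  · rfl
  · rw [mul_assoc, ← mul_assoc (qw c), red2_z (qw_mem c), mul_assoc, ← mul_assoc, z_sq, one_mul]

/-- the centre of `Q0` -/
theorem red2_cen {x : Y} (hx : x ∈ Q0) (h : ∀ y ∈ Q0, x * y = y * x) : x = 1 ∨ x = el 13 := by
  obtain ⟨c, hc, e⟩ := mem_Q0.1 hx
  have hq : ∀ y ∈ Q0, qw c * y = y * qw c := fun y hy => by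
    rcases e with rfl | rfl
    · exact h y hy
    · have := h y hy
      rw [← mul_assoc, red2_z hy, mul_assoc, mul_assoc] at this
      exact mul_left_cancel this
  have k : ∀ c < 256, c = 0 ∨ ∃ d < 256, c ^^^ d < 256 ∧
      M8.testBit (c ^^^ d) ≠ xor (M8.testBit c) (M8.testBit d) := by decide +kernel
  rcases k c hc with rfl | ⟨d, hd, hcd, n⟩
  · rw [qw_zero, mul_one] at e; exact e
  exfalso
  have e1 := red2_sq (qw_mul hc hd)
  rw [mul_assoc, ← mul_assoc (qw d), ← hq _ (qw_mem d), mul_assoc, ← mul_assoc, qw_sq hc, qw_sq hd,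
    qw_sq hcd] at e1
  have z1 := z_ne
  have z2 := z_sq
  revert n e1
  cases M8.testBit (c ^^^ d) <;> cases M8.testBit c <;> cases M8.testBit d <;> simp [z1, z2, z1.symm]

theorem H0.h1 (h : H0 φ K bd) (hG : IsOfParabolicCharacteristic 2 G) : H1 φ K bd := by
  have QK : Q0 ≤ K := Q0_le_T0.trans (T0_le_C1.trans (C1_le_KL.trans h.le))
  have zK := QK z_mem
  obtain ⟨z, hz⟩ : ∃ z, z = φ (el 13) := ⟨_, rfl⟩
  have z2 : z * z = 1 := by rw [hz, ← h.mul _ zK _ zK, z_sq, h.mul.one]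
  have z1 : z ≠ 1 := fun e => z_ne (h.inj _ zK (hz ▸ e))
  have mz : ∀ {a}, a ∈ zpowers z → a = 1 ∨ a = z := by
    rintro _ ⟨i, rfl⟩
    have e2 : z ^ (2 : ℤ) = 1 := by rw [zpow_two, z2]
    rcases Int.even_or_odd' i with ⟨j, rfl | rfl⟩
    · exact Or.inl (by simp only [zpow_mul, e2, one_zpow])
    · exact Or.inr (by simp only [zpow_add, zpow_mul, e2, one_zpow, one_mul, zpow_one])
  have hp : IsPGroup 2 (zpowers z) := fun a => ⟨1, Subtype.ext (by
    rcases mz a.2 with e | e <;> simp [e, pow_two, z2])⟩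
  set N := normalizer (zpowers z : Set G) with hN
  have mN : ∀ {g}, g ∈ N ↔ g ∈ Cz z := fun {g} => ⟨fun hg => by
      rcases mz (H42.conj_mem_of_mem_normalizer hg (mem_zpowers z)) with e | e
      · exact (z1 (by simpa using e)).elim
      · exact mem_Cz.2 (mul_inv_eq_iff_eq_mul.1 e),
    fun hg => H42.mem_normalizer_of_conj_mem fun a ha => by
      rcases mz ha with rfl | rfl
      · simp
      · rw [conj_eq_of_Cz hg]; exact mem_zpowers _⟩
  obtain ⟨T, -, hT⟩ := h.exists_T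
  have TN : (T : Subgroup G) ≤ N := fun g hg => by
    obtain ⟨x, h1, h2, rfl⟩ := (hT g).1 hg
    exact mN.2 (hz ▸ h.cz h2 (T1_le_Cz h1))
  have hc := hG _ hp (fun e => z1 (mem_bot.1 (e ▸ mem_zpowers z))) ⟨T, TN⟩
  set O := (pCore 2 N).map N.subtype with hO
  have nO : N ≤ normalizer (O : Set G) := H44.le_normalizer_pCoreOf N
  have OT : O ≤ T := by
    have := T.is_maximal' (H44.isPGroup_sup_of_le_normalizer (TN.trans nO) (H44.pCoreOf_isPGroup N) T.isPGroup')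
      le_sup_right
    exact this ▸ le_sup_left
  have cen : ∀ g ∈ N, (∀ o ∈ O, o * g = g * o) → g ∈ O := fun g hg e =>
    ⟨⟨g, hg⟩, hc fun o ho => Subtype.ext (e _ ⟨o, ho, rfl⟩), rfl⟩
  let P : Subgroup Y :=
    { carrier := {x | x ∈ T1 ∧ x ∈ K ∧ φ x ∈ O}
      one_mem' := ⟨one_mem _, one_mem _, h.mul.one ▸ one_mem _⟩
      mul_mem' := fun {a b} ha hb => ⟨mul_mem ha.1 hb.1, mul_mem ha.2.1 hb.2.1,
        h.mul _ ha.2.1 _ hb.2.1 ▸ mul_mem ha.2.2 hb.2.2⟩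
      inv_mem' := fun {a} ha => ⟨inv_mem ha.1, inv_mem ha.2.1, h.mul.inv ha.2.1 ▸ inv_mem ha.2.2⟩ }
  have rep : ∀ o ∈ O, ∃ x ∈ P, φ x = o := fun o ho => by
    obtain ⟨x, h1, h2, rfl⟩ := (hT o).1 (OT ho)
    exact ⟨x, ⟨h1, h2, ho⟩, rfl⟩
  have zO : z ∈ O := H44.le_pCoreOf le_normalizer le_rfl hp (mem_zpowers z)
  rcases core_T1 (P := P) (fun _ hx => hx.1) ⟨T0_le_T1 (Q0_le_T0 z_mem), zK, hz ▸ zO⟩ (fun c hc x hx => by
      have cK := h.le (C1_le_KL hc)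
      have m := H42.conj_mem_of_mem_normalizer (nO (mN.2 (hz ▸ h.cz cK (C0_le_Cz (C1_le_C0 hc))))) hx.2.2
      obtain ⟨y, hy, e⟩ := rep _ m
      rw [← h.mul.conj cK hx.2.1] at e
      rwa [← h.injOn hy.2.1 (mul_mem (mul_mem cK hx.2.1) (inv_mem cK)) e]) with e | e
  · exfalso
    have q1 := qw_mem 1
    have qN : φ (qw 1) ∈ Cz z := hz ▸ h.cz (QK q1) (mem_Cz.2 (red2_z q1))
    have m : qw 1 ∈ P := ⟨T0_le_T1 (Q0_le_T0 q1), QK q1, cen _ (mN.2 qN) fun o ho => by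
      obtain ⟨x, hx, rfl⟩ := rep o ho
      rcases e x hx with rfl | rfl
      · rw [h.mul.one, one_mul, mul_one]
      · rw [← hz]; exact (mem_Cz.1 qN).symm⟩
    exact absurd (qw_inj (c := 1) (d := 0) (by norm_num) (by norm_num)
      (by rw [qw_zero, mul_one]; exact e _ m)) (by norm_num)
  · refine ⟨h, fun g hg => ?_, fun g hg x hx => ?_⟩
    · obtain ⟨x, hx, rfl⟩ := rep g (cen g (mN.2 (mem_Cz.2 (hz ▸ hg _ z_mem))) fun o ho => by
        obtain ⟨y, hy, rfl⟩ := rep o ho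
        exact (hg y (e ▸ hy)).symm)
      rw [e] at hx
      rcases red2_cen hx fun y hy => h.injOn (QK (mul_mem hx hy)) (QK (mul_mem hy hx)) (by
        rw [h.mul _ (QK hx) _ (QK hy), h.mul _ (QK hy) _ (QK hx), hg y hy]) with rfl | rfl
      · exact Or.inl h.mul.one
      · exact Or.inr rfl
    · rw [← e] at hx
      obtain ⟨y, hy, e'⟩ := rep _ (H42.conj_mem_of_mem_normalizer (nO (mN.2 (hz ▸ hg))) hx.2.2)
      exact ⟨y, e ▸ hy, e'.symm⟩

end Cfsg.Agent.P83
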