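import Cfsg.Agent.P83.BaseG
import Cfsg.Agent.P83.Crd
import Cfsg.Agent.H59.Bp

/-! Reduction to the simple group `F*(G)`. -/

set_option autoImplicit false
set_option linter.unusedSectionVars false

namespace Cfsg.Agent.P83

open Subgroup H97 H15 H11 CO1 CO2 QuadraticMap H4.GF

theorem red3_zc {a : Y} (ha : a ∈ Q0) : a * el 13 = el 13 * a :=
  mem_Cz.1 (T1_le_Cz (T0_le_T1 (Q0_le_T0 ha)))

theorem red3_comm0 {c d : ℕ} (hc : c < 256) (hd : d < 256) :
    qw c * qw d = qw d * qw c ∨ qw c * qw d = el 13 * (qw d * qw c) := by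
  have h1 := qw_mul hc hd
  have h2 := qw_mul hd hc
  rw [Nat.xor_comm] at h2
  rcases h1 with h1 | h1 <;> rcases h2 with h2 | h2 <;> rw [h1, h2]
  · exact Or.inl rfl
  · exact Or.inr (by rw [← mul_assoc, z_sq, one_mul])
  · exact Or.inr rfl
  · exact Or.inl rfl

theorem red3_comm {a b : Y} (ha : a ∈ Q0) (hb : b ∈ Q0) : a * b = b * a ∨ a * b = el 13 * (b * a) := by
  obtain ⟨c, hc, ea⟩ := mem_Q0.1 ha
  obtain ⟨d, hd, eb⟩ := mem_Q0.1 hb
  have k1 := red3_zc (qw_mem c)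
  have k2 := red3_zc (qw_mem d)
  have e1 : qw c * (el 13 * qw d) = el 13 * (qw c * qw d) := by rw [← mul_assoc, k1, mul_assoc]
  have e2 : qw d * (el 13 * qw c) = el 13 * (qw d * qw c) := by rw [← mul_assoc, k2, mul_assoc]
  rcases ea with rfl | rfl <;> rcases eb with rfl | rfl <;> rcases red3_comm0 hc hd with e | e <;>
    simp only [mul_assoc, e1, e2, e, true_or, or_true]

theorem red3_t : el 14 = qw 5 := (ev_one 14).symm.trans ((ev_eq _ _).2 (by decide +kernel))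

theorem red3_zt : el 19 * el 14 * (el 19)⁻¹ = el 13 * el 14 := by
  have : ev [19, 14] = ev [13, 14, 19] := (ev_eq _ _).2 (by decide +kernel)
  simp only [ev_cons, ev_nil, mul_one] at this
  rw [this]; group

theorem red3_tz : el 14 ≠ el 13 := fun e => by
  have : ¬ ev [14] = ev [13] := fun e => absurd ((ev_eq _ _).1 e) (by decide +kernel)
  exact this (by rw [ev_one, ev_one, e])

theorem red3_Q {x : Y} (hx : x ∈ Q0) : x ∈ KL := C1_le_KL (T0_le_C1 (Q0_le_T0 hx))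

theorem red3_w : el 5 ∈ KL := el_mem_gp (by decide)

theorem red3_card : Nat.card (T1 ⊓ KL : Subgroup Y) ≤ 4096 := by
  have h1 : Nat.card (T1 ⊓ KL : Subgroup Y) ∣ 2 ^ 13 := by
    have := card_dvd_of_le (inf_le_left : T1 ⊓ KL ≤ T1)
    rwa [card_T1] at this
  obtain ⟨k, hk, e⟩ := (Nat.dvd_prime_pow Nat.prime_two).1 h1
  rcases Nat.lt_or_ge k 13 with h | h
  · rw [e]; exact Nat.pow_le_pow_right (by norm_num) (by omega : k ≤ 12)
  · exfalso
    have h2 : T1 ⊓ KL = T1 := eq_of_le_of_card_ge inf_le_left (by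
      rw [e, card_T1, le_antisymm hk h]; norm_num)
    exact o_nmem ((h2.ge (el_mem_gp (by decide) : el 12 ∈ T1)).2)

variable {G : Type*} [Group G] [Finite G] {φ ψ ν : Y → G} {K : Subgroup Y} {bd : ℕ} {π : G → V8} {ρ : G → OG Q8}

theorem red3_inv {M : Subgroup G} (hM : M.Normal) {z : G} (hz : z * z = 1)
    (hf : ∀ k ∈ M, z * k * z⁻¹ = k → k = 1) : ∀ k ∈ M, z * k * z⁻¹ = k⁻¹ := by
  let f : M ≃* M := MulAut.conjNormal z
  have hφ : ∀ k : M, (f k : G) = z * k * z⁻¹ := fun k => rfl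
  have h1 : MonoidHom.FixedPointFree f := fun k hk => Subtype.ext (hf k k.2 (by rw [← hφ, hk]))
  have h2 : Function.Involutive f := fun k => Subtype.ext (by
    rw [hφ, hφ]
    calc z * (z * k * z⁻¹) * z⁻¹ = (z * z) * k * (z * z)⁻¹ := by group
      _ = k := by rw [hz]; group)
  intro k hk
  have := congrFun (h1.coe_eq_inv_of_involutive h2) ⟨k, hk⟩
  exact congrArg Subtype.val this

theorem H1.red3_cz (h : H1 φ K bd) {M : Subgroup G} (hM : M.Normal) (hz : φ (el 13) ∉ M) {x : G}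
    (hx : x ∈ M) (hc : φ (el 13) * x * (φ (el 13))⁻¹ = x) : x = 1 := by
  have hQ : ∀ {a : Y}, a ∈ Q0 → a ∈ K := fun ha => h.h0.le (red3_Q ha)
  have k : ∀ a ∈ Q0, φ a ∈ M → φ a = 1 := fun a ha hl => by
    refine (h.large (φ a) fun b hb => ?_).resolve_right fun e => hz (e ▸ hl)
    rw [← h.h0.mul a (hQ ha) b (hQ hb), ← h.h0.mul b (hQ hb) a (hQ ha)]
    refine (red3_comm ha hb).elim (congrArg φ) fun e => absurd ?_ hz
    have e2 := congrArg φ e
    rw [h.h0.mul a (hQ ha) b (hQ hb), h.h0.mul _ (hQ z_mem) _ (hQ (mul_mem hb ha)),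
      h.h0.mul b (hQ hb) a (hQ ha)] at e2
    have e3 : φ (el 13) = φ a * (φ b * (φ a)⁻¹ * (φ b)⁻¹) := by
      calc φ (el 13) = φ (el 13) * (φ b * φ a) * ((φ a)⁻¹ * (φ b)⁻¹) := by group
        _ = _ := by rw [← e2]; group
    rw [e3]
    exact mul_mem hl (hM.conj_mem _ (inv_mem hl) _)
  have hxz : x ∈ Cz (φ (el 13)) := mem_Cz.2 (mul_inv_eq_iff_eq_mul.1 hc).symm
  refine (h.large x fun a ha => ?_).resolve_right fun e => hz (e ▸ hx)
  obtain ⟨b, hb, e⟩ := h.norm x hxz a ha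
  have e1 : φ (b * a⁻¹) = x * (φ a * x⁻¹ * (φ a)⁻¹) := by
    rw [h.h0.mul b (hQ hb) _ (hQ (inv_mem ha)), h.h0.mul.inv (hQ ha), ← e]; group
  have e2 := k _ (mul_mem hb (inv_mem ha)) (e1 ▸ mul_mem hx (hM.conj_mem _ (inv_mem hx) _))
  rw [e1] at e2
  calc x * φ a = x * (φ a * x⁻¹ * (φ a)⁻¹) * (φ a * x) := by group
    _ = φ a * x := by rw [e2, one_mul]

theorem H1.red3_z (h : H1 φ K bd) {M : Subgroup G} (hM : M.Normal) (h0 : M ≠ ⊥) : φ (el 13) ∈ M := by
  by_contra hz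
  have hQ : ∀ {a : Y}, a ∈ Q0 → a ∈ K := fun ha => h.h0.le (red3_Q ha)
  have z2 : φ (el 13) * φ (el 13) = 1 := by
    rw [← h.h0.mul _ (hQ z_mem) _ (hQ z_mem), z_sq, h.h0.mul.one]
  have key : ∀ g : G, ∀ k ∈ M, (g * φ (el 13) * g⁻¹) * k * (g * φ (el 13) * g⁻¹)⁻¹ = k⁻¹ := fun g k hk => by
    have := red3_inv hM z2 (fun k hk e => h.red3_cz hM hz hk e) _ (hM.conj_mem k hk g⁻¹)
    calc _ = g * (φ (el 13) * (g⁻¹ * k * g⁻¹⁻¹) * (φ (el 13))⁻¹) * g⁻¹ := by group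
      _ = k⁻¹ := by rw [this]; group
  have t14 : el 14 ∈ Q0 := red3_t ▸ qw_mem 5
  have q19 : el 19 ∈ Q0 := el_mem_gp (by decide)
  have e1 := h.h0.t_conj
  have e2 : φ (el 19) * φ (el 14) * (φ (el 19))⁻¹ = φ (el 13) * φ (el 14) := by
    rw [← h.h0.mul.conj (hQ q19) (hQ t14), red3_zt, h.h0.mul _ (hQ z_mem) _ (hQ t14)]
  refine h0 (eq_bot_iff.2 fun k hk => mem_bot.2 (h.red3_cz hM hz hk ?_))
  have k1 := key 1 k⁻¹ (inv_mem hk)
  have k2 := key (φ (el 5)) k hk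
  have k3 := key (φ (el 19) * φ (el 5)) k hk
  have k4 := key 1 k hk
  rw [e1] at k2
  rw [show φ (el 19) * φ (el 5) * φ (el 13) * (φ (el 19) * φ (el 5))⁻¹ =
    φ (el 19) * (φ (el 5) * φ (el 13) * (φ (el 5))⁻¹) * (φ (el 19))⁻¹ by group, e1, e2] at k3
  simp only [one_mul, inv_one, mul_one, inv_inv] at k1 k4
  have : k = k⁻¹ := by
    calc k = φ (el 13) * (φ (el 14) * k * (φ (el 14))⁻¹) * (φ (el 13))⁻¹ := by rw [k2, k1]
      _ = k⁻¹ := by rw [← k3]; group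
  rw [k4, ← this]

theorem H1.red3_le (h : H1 φ K bd) {M : Subgroup G} (hM : M.Normal) (h0 : M ≠ ⊥) {x : Y} (hx : x ∈ KL) :
    φ x ∈ M := by
  have := simple_KL
  let f : KL →* G := (h.h0.mul.mono h.h0.le).hom
  rcases (hM.comap f).eq_bot_or_eq_top with e | e
  · have : (⟨el 13, red3_Q z_mem⟩ : KL) ∈ M.comap f := h.red3_z hM h0
    rw [e] at this
    exact absurd (congrArg Subtype.val (mem_bot.1 this)) z_ne
  · have : (⟨x, hx⟩ : KL) ∈ M.comap f := e ▸ mem_top _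
    exact this

theorem H1.red3_sub (h : H1 φ K bd) {M : Subgroup G} (hM : M.Normal) (h0 : M ≠ ⊥) :
    ∃ (φ' : Y → M) (K' : Subgroup Y) (bd' : ℕ), H1 φ' K' bd' ∧ (φ' (el 13) : G) = φ (el 13) := by
  classical
  let φ' : Y → M := fun x => if e : φ x ∈ M then ⟨φ x, e⟩ else 1
  have hφ : ∀ x, φ x ∈ M → (φ' x : G) = φ x := fun x e => by simp only [φ', dif_pos e]
  let K' : Subgroup Y := (M.comap h.h0.mul.hom).map K.subtype
  have hK : ∀ x, x ∈ K' ↔ x ∈ K ∧ φ x ∈ M := fun x =>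
    ⟨by rintro ⟨y, hy, rfl⟩; exact ⟨y.2, hy⟩, fun e => ⟨⟨x, e.1⟩, e.2, rfl⟩⟩
  have h1 : KL ≤ K' := fun x hx => (hK x).2 ⟨h.h0.le hx, h.red3_le hM h0 hx⟩
  have h2 : K' ≤ KO := fun x hx => by
    rcases h.h0.cases with e | e
    · exact KL_le_KO (e.1 ▸ ((hK x).1 hx).1)
    · exact e.1 ▸ ((hK x).1 hx).1
  have hq : ∀ x ∈ Q0, (φ' x : G) = φ x := fun x hx => hφ x (h.red3_le hM h0 (red3_Q hx))
  have hmul : MulOn φ' K' := fun a ha b hb => Subtype.ext (by
    rw [coe_mul, hφ _ ((hK _).1 (mul_mem ha hb)).2, hφ _ ((hK _).1 ha).2, hφ _ ((hK _).1 hb).2,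
      h.h0.mul a ((hK _).1 ha).1 b ((hK _).1 hb).1])
  have hinj : ∀ x ∈ K', φ' x = 1 → x = 1 := fun x hx e =>
    h.h0.inj x ((hK _).1 hx).1 (by rw [← hφ _ ((hK _).1 hx).2, e, coe_one])
  have main : ∀ bd', H0 φ' K' bd' → H1 φ' K' bd' := fun bd' k => by
    refine ⟨k, fun g hg => ?_, fun g hg x hx => ?_⟩
    · refine (h.large g fun x hx => ?_).imp (fun e => Subtype.ext e) fun e =>
        Subtype.ext (e.trans (hq _ z_mem).symm)
      rw [← hq x hx]; exact congrArg Subtype.val (hg x hx)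
    · obtain ⟨y, hy, e⟩ := h.norm g (mem_Cz.2 (by
        rw [← hq _ z_mem]; exact congrArg Subtype.val (mem_Cz.1 hg))) x hx
      exact ⟨y, hy, Subtype.ext (by rw [hq y hy, ← e, ← hq x hx]; rfl)⟩
  have hc : ∀ P : Subgroup M, Nat.card (P.map M.subtype) = Nat.card P := fun P =>
    card_map_of_injective M.subtype_injective
  rcases eq_KL_or h1 h2 with e | e
  · refine ⟨φ', K', 4096, main _ ⟨Or.inl ⟨e, rfl⟩, hmul, hinj, fun P hP => ?_⟩, hq _ z_mem⟩
    have : Fact (Nat.Prime 2) := ⟨Nat.prime_two⟩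
    obtain ⟨T, -, hT⟩ := h.h0.exists_T
    obtain ⟨S, hS⟩ := (hP.map M.subtype).exists_le_sylow
    obtain ⟨g, rfl⟩ := MulAction.exists_smul_eq G T S
    rw [← hc]
    refine le_trans ?_ red3_card
    have key : ∀ x : P.map M.subtype, ∃ y : (T1 ⊓ KL : Subgroup Y), φ y = g⁻¹ * x * g := fun x => by
      have hx := hS x.2
      rw [Sylow.coe_subgroup_smul, mem_pointwise_smul_iff_inv_smul_mem] at hx
      obtain ⟨y, hy, hy', e2⟩ := (hT _).1 hx
      have e3 : φ y = g⁻¹ * x * g := by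
        rw [e2, ← map_inv, MulAut.smul_def, MulAut.conj_apply, inv_inv]
      have xm : (x : G) ∈ M := map_subtype_le P x.2
      refine ⟨⟨y, hy, e ▸ (hK y).2 ⟨hy', ?_⟩⟩, e3⟩
      rw [e3]
      simpa using hM.conj_mem _ xm g⁻¹
    choose f hf using key
    refine Nat.card_le_card_of_injective f fun a b e => Subtype.ext ?_
    have := hf a
    rw [e, hf b] at this
    simpa using this.symm
  · exact ⟨φ', K', 8192, main _ ⟨Or.inr ⟨e, rfl⟩, hmul, hinj, fun P hP =>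
      hc P ▸ (h.h0.syl _ (hP.map M.subtype)).trans h.h0.bd_le⟩, hq _ z_mem⟩

theorem H1.red3 (h : H1 φ K bd) : IsSimpleGroup ↥(generalizedFittingSubgroup G) ∧
    ∃ (φ' : Y → ↥(generalizedFittingSubgroup G)) (K' : Subgroup Y) (bd' : ℕ), H1 φ' K' bd' := by
  have hQ : ∀ {a : Y}, a ∈ Q0 → a ∈ K := fun ha => h.h0.le (red3_Q ha)
  have z1 : φ (el 13) ≠ 1 := fun e => z_ne (h.h0.inj _ (hQ z_mem) e)
  have t14 : el 14 ∈ Q0 := red3_t ▸ qw_mem 5
  have nc : φ (el 5) * φ (el 13) ≠ φ (el 13) * φ (el 5) := fun e => by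
    have := h.h0.t_conj
    rw [e, mul_inv_cancel_right] at this
    exact red3_tz (h.h0.injOn (hQ t14) (hQ z_mem) this.symm)
  set N := normalClosure ({φ (el 13)} : Set G) with hN
  have hz : φ (el 13) ∈ N := subset_normalClosure rfl
  have hn : N.Normal := inferInstance
  have h0 : N ≠ ⊥ := fun e => z1 (mem_bot.1 (e ▸ hz))
  obtain ⟨φ', K', bd', k, ez⟩ := h.red3_sub hn h0
  have hs : IsSimpleGroup N := by
    have : Nontrivial N := (nontrivial_iff_ne_bot N).2 h0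
    refine ⟨fun M hM => or_iff_not_imp_left.2 fun m0 => ?_⟩
    have key : ∀ g : G, g * φ (el 13) * g⁻¹ ∈ M.map N.subtype := fun g => by
      let f : N ≃* N := MulAut.conjNormal g
      have h1 : (M.comap f.toMonoidHom).Normal := hM.comap _
      have h2 : M.comap f.toMonoidHom ≠ ⊥ := fun e => m0 (eq_bot_iff.2 fun x hx => by
        have : f.symm x ∈ M.comap f.toMonoidHom := by
          change f (f.symm x) ∈ M
          rwa [f.apply_symm_apply]
        rw [e, mem_bot] at this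
        exact mem_bot.2 (by rw [← f.apply_symm_apply x, this, map_one]))
      refine ⟨f (φ' (el 13)), k.red3_z h1 h2, ?_⟩
      rw [← ez]; rfl
    have h3 : N ≤ M.map N.subtype := by
      refine (closure_le _).2 fun x hx => ?_
      obtain ⟨a, ha, hc⟩ := Group.mem_conjugatesOfSet_iff.1 hx
      obtain ⟨g, rfl⟩ := isConj_iff.1 hc
      rw [Set.mem_singleton_iff.1 ha]
      exact key g
    refine eq_top_iff.2 fun x _ => ?_
    obtain ⟨y, hy, e⟩ := h3 x.2
    exact (Subtype.ext e : y = x) ▸ hy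
  have hw : φ (el 5) ∈ N := h.red3_le hn h0 red3_w
  have hc : ¬ IsMulCommutative N := fun c =>
    nc (congrArg Subtype.val (c.is_comm.comm (⟨_, hw⟩ : N) ⟨_, hz⟩))
  have hC : centralizer (N : Set G) = ⊥ := by_contra fun n =>
    nc (h.red3_le inferInstance n red3_w _ hz).symm
  have hF : generalizedFittingSubgroup G = N := by
    refine H59.gfitting_eq_of_centralizer_eq_bot (H44.qs_iff.2 (H44.isQuasisimple_iff.2
      ⟨?_, inferInstance, fun N hN => (hN.eq_bot_or_eq_top).symm.imp id fun e => e.le.trans bot_le⟩)) hC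
    refine ((inferInstance : (_root_.commutator N).Normal).eq_bot_or_eq_top).resolve_left fun e => hc ?_
    rw [commutator_eq_bot_iff_center_eq_top] at e
    exact ⟨⟨fun a b => mem_center_iff.1 (e ▸ mem_top b : b ∈ center N) a⟩⟩
  rw [hF]
  exact ⟨hs, φ', K', bd', k⟩

end Cfsg.Agent.P83
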