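import Cfsg.Agent.P83.BaseQ

/-! The reflection `o` in the model. -/

set_option autoImplicit false
set_option maxRecDepth 100000

namespace Cfsg.Agent.P83

open Subgroup H97 H15 H11 CO1 CO2 QuadraticMap H4.GF

namespace MC

open BQ

theorem aL_Cz (k : ℕ) : ev (aL k) ∈ Cz (el 13) := ev_mem fun i hi => nq_Cz i (aL_nq k i hi)

/-- an element of `Q0` commuting with `q a` has its code fixed by `a` -/
theorem nc1 {y q a : Y} {M d : ℕ} (hd : d < 256) (hy : Ez y (qw d)) (hq : q ∈ Q0) (ha : ActQ a M)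
    (hz : a ∈ Cz (el 13)) (e : y * (q * a) = q * a * y) : apn M d = apn I8 d := by
  have h1 : Ez (a * y * a⁻¹) (qw (apn M d)) := ((hy.left hz).right _).trans (ha.conj hz hd)
  have hi : q⁻¹ ∈ Cz (el 13) := Q0_Cz (inv_mem hq)
  have h2 : Ez (q⁻¹ * y * q⁻¹⁻¹) (qw (apn I8 d)) :=
    ((hy.left hi).right _).trans ((actQ_Q0 (inv_mem hq)).conj hi hd)
  have h3 : a * y * a⁻¹ = q⁻¹ * y * q⁻¹⁻¹ := by
    calc a * y * a⁻¹ = q⁻¹ * (q * a * y) * a⁻¹ := by group
      _ = q⁻¹ * y * q⁻¹⁻¹ := by rw [← e]; group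
  exact qw_inj (apn_lt _ _) (apn_lt _ _) (h1.symm.trans (h3 ▸ h2))

theorem idx {T C : Subgroup Y} (hC : C ≤ T) {n : ℕ} (g : Fin n → Y) (hg : ∀ i, g i ∈ T)
    (h : ∀ i j, (g i)⁻¹ * g j ∈ C → i = j) : n * Nat.card C ≤ Nat.card T := by
  let f : Fin n × C → T := fun p => ⟨g p.1 * p.2, mul_mem (hg _) (hC p.2.2)⟩
  have hf : Function.Injective f := by
    rintro ⟨i, c⟩ ⟨j, d⟩ e
    have e' : g i * c = g j * d := congrArg Subtype.val e
    have e2 : (g i)⁻¹ * g j = c * (d : Y)⁻¹ := by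
      calc (g i)⁻¹ * g j = (g i)⁻¹ * (g j * d) * (d : Y)⁻¹ := by group
        _ = c * (d : Y)⁻¹ := by rw [← e']; group
    obtain rfl := h i j (e2 ▸ mul_mem c.2 (inv_mem d.2))
    rw [Subtype.ext (mul_left_cancel e')]
  simpa using Nat.card_le_card_of_injective f hf

theorem let_So : ∀ j ∈ [15, 16, 17, 18, 21, 22, 31, 36, 12], el j ∈ T1 ⊓ Cz (el 12) := fun j hj => by
  have k : ∀ j ∈ [15, 16, 17, 18, 21, 22, 31, 36, 12], eqp (wC [j, 12]) (wC [12, j]) = true := by decide +kernel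
  have := (ev_eq _ _).2 (k j hj)
  rw [ev_cons j, ev_one, ev_cons 12, ev_one, ← mem_Cz] at this
  refine ⟨?_, this⟩
  by_cases h : j = 36
  · rw [h, ← ev_one, (ev_eq [36] [29, 30]).2 (by decide +kernel)]
    exact ev_mem_gp (by decide)
  · exact el_mem_gp ((by decide : ∀ j ∈ [15, 16, 17, 18, 21, 22, 31, 36, 12], j ≠ 36 →
      j ∈ [15, 16, 17, 18, 19, 20, 21, 22, 29, 30, 31, 12]) j hj h)

theorem tau_T1 : el 30 ∈ T1 := el_mem_gp (by decide)

/-- an element of `Q0 τ` does not commute with `q a` -/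
theorem nc2 {r q : Y} (hr : r ∈ Q0) (hq : q ∈ Q0) {k : ℕ} (hk : k = 8 ∨ k = 11)
    (e : r * el 30 * (q * ev (aL k)) = q * ev (aL k) * (r * el 30)) : False := by
  have ht : el 30 ∈ Cz (el 13) := nq_Cz _ (by decide)
  have h1 := (actQ_Q0 hr).mul (Q0_Cz hr) (actQ_el 30 (by decide))
  have h2 := (actQ_Q0 hq).mul (Q0_Cz hq) (actQ_ev (aL_nq k))
  have h3 := h1.mul (mul_mem (Q0_Cz hr) ht) h2
  have h4 := h2.mul (mul_mem (Q0_Cz hq) (aL_Cz k)) h1
  have h5 := h3.uniq (e ▸ h4)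
  revert h5
  rcases hk with rfl | rfl <;> decide +kernel

end MC

open BQ MC

theorem card_So : 1024 ≤ Nat.card ↥(T1 ⊓ Cz (el 12)) := by
  let g : ℕ → List ℕ := bw [19, 20, 30]
  have hg : ∀ i, ev (g i) ∈ T1 := fun i => ev_mem fun j hj =>
    el_mem_gp ((by decide : ∀ j ∈ [19, 20, 30], j ∈ [15, 16, 17, 18, 19, 20, 21, 22, 29, 30, 31, 12]) j (bw_sub hj))
  have k : ∀ i < 8, ∀ j ∈ [15, 16, 17, 18, 19, 20, 21, 22, 29, 30, 31, 12], ∃ m < 8,
      eqp (wC (iw (g i ++ [j]) ++ 12 :: (g i ++ [j]))) (wC (iw (g m) ++ 12 :: g m)) = true := by decide +kernel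
  have h : ∀ x ∈ T1, ∃ i < 8, x⁻¹ * (el 12 * x) = (ev (g i))⁻¹ * (el 12 * ev (g i)) := by
    refine ind ⟨0, by decide, by rw [show g 0 = [] from rfl, ev_nil]⟩ ?_
    rintro x ⟨i, hi, e⟩ j hj
    obtain ⟨m, hm, e2⟩ := k i hi j hj
    have e3 := (ev_eq _ _).2 e2
    rw [ev_append, ev_append (iw (g m)), ev_iw, ev_iw, ev_cons, ev_cons, ev_append, ev_one] at e3
    refine ⟨m, hm, Eq.trans ?_ e3⟩
    calc (x * el j)⁻¹ * (el 12 * (x * el j)) = (el j)⁻¹ * (x⁻¹ * (el 12 * x)) * el j := by group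
      _ = _ := by rw [e]; group
  let f : ↥(T1 ⊓ Cz (el 12)) × Fin 8 → T1 := fun p => ⟨p.1 * ev (g p.2), mul_mem p.1.2.1 (hg _)⟩
  have hf : Function.Surjective f := by
    rintro ⟨x, hx⟩
    obtain ⟨i, hi, e⟩ := h x hx
    refine ⟨(⟨x * (ev (g i))⁻¹, T1.mul_mem hx (T1.inv_mem (hg i)), mem_Cz.2 ?_⟩, ⟨i, hi⟩), Subtype.ext ?_⟩
    · calc x * (ev (g i))⁻¹ * el 12 = x * ((ev (g i))⁻¹ * (el 12 * ev (g i))) * (ev (g i))⁻¹ := by group
        _ = _ := by rw [← e]; group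
    · exact inv_mul_cancel_right _ _
  have := Nat.card_le_card_of_surjective f hf
  rw [card_T1, Nat.card_prod, Nat.card_eq_fintype_card (α := Fin 8), Fintype.card_fin] at this
  omega

theorem cen_So : ∀ x ∈ T0, (∀ y ∈ T1 ⊓ Cz (el 12), x * y = y * x) →
    x = 1 ∨ x = el 13 ∨ x = qw 1 ∨ x = el 13 * qw 1 := by
  intro x hx h
  obtain ⟨q, hq, k, hk, rfl⟩ := mem_T0.1 hx
  have h1 : ∀ i ∈ [0, 1, 2, 3, 6, 7], apn (cW (aL k)) (2 ^ i) = apn I8 (2 ^ i) := fun i hi => by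
    have i8 : i < 8 := by revert i; decide
    exact nc1 (y := el (15 + i)) (Nat.pow_lt_pow_right (a := 2) (by decide) i8) (Or.inl (qw_pow i8).symm) hq
      (actQ_ev (aL_nq k)) (aL_Cz k) (h _ (let_So _ (by revert i; decide))).symm
  obtain rfl : k = 0 := (by decide +kernel : ∀ k < 8,
    (∀ i ∈ [0, 1, 2, 3, 6, 7], apn (cW (aL k)) (2 ^ i) = apn I8 (2 ^ i)) → k = 0) k hk h1
  rw [show aL 0 = [] from rfl, ev_nil, mul_one] at h ⊢
  obtain ⟨c, hc, e⟩ := mem_Q0.1 hq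
  have h2 : ∀ j ∈ [15, 16, 17, 18, 21, 22, 31, 36, 12], eqp (wC (qL c ++ [j])) (wC (j :: qL c)) = true :=
    fun j hj => by
      rw [← ev_eq, ev_append, ev_one, ev_cons]
      have h3 := h _ (let_So j hj)
      rcases e with rfl | rfl
      · exact h3
      · rw [← mul_assoc, mem_Cz.1 (T1_le_Cz (let_So j hj).1), mul_assoc, mul_assoc] at h3
        exact mul_left_cancel h3
  have h4 : c = 0 ∨ c = 1 := by
    have k : ∀ c < 256, (∀ j ∈ [15, 16, 17, 18, 21, 22, 31, 36, 12],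
      eqp (wC (qL c ++ [j])) (wC (j :: qL c)) = true) → c = 0 ∨ c = 1 := by decide +kernel
    exact k c hc h2
  rcases h4 with rfl | rfl
  · rw [qw_zero, mul_one] at e
    exact e.imp_right Or.inl
  · exact Or.inr (Or.inr e)

theorem z_sq_So : ∃ h ∈ T1 ⊓ Cz (el 12), h * h = el 13 :=
  ⟨qw 68, ev_mem fun j hj => let_So j (by revert j; decide), by
    rw [qw_sq (by decide), if_pos (by decide +kernel)]⟩

theorem sq_T1 : ∀ x ∈ T1, x * x ∈ T0 := by
  intro x hx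
  obtain ⟨q, hq, k, hk, rfl⟩ := mem_T1.1 hx
  obtain ⟨m, hm, e⟩ := (by decide +kernel : ∀ k < 16, ∃ m < 8, eqp (wC (aL k ++ aL k)) (wC (aL m)) = true) k hk
  have e2 := (ev_eq _ _).2 e
  rw [ev_append] at e2
  refine mem_T0.2 ⟨q * (ev (aL k) * q * (ev (aL k))⁻¹),
    mul_mem hq (conj_Q0 (actQ_ev (aL_nq k)) (aL_Cz k) hq), m, hm, ?_⟩
  rw [← e2]; group

theorem o_T1 : el 12 ∈ T1 ∧ el 12 ∉ T0 ∧ el 12 * el 12 = 1 := by
  refine ⟨el_mem_gp (by decide), fun h => ?_,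
    (((has_el 12).mul (has_el 12)).eq_iff Has.one).2 (by decide +kernel)⟩
  obtain ⟨q, hq, k, hk, e⟩ := mem_T0.1 h
  have := aL_inj (a := 8) (b := k) (one_mem Q0) hq (by decide) (by omega)
    (by rw [one_mul, show aL 8 = [12] from rfl, ev_one]; exact e)
  omega

theorem small_T1 : ∀ q ∈ Q0, ∀ k, k = 8 ∨ k = 11 → Nat.card ↥(T1 ⊓ Cz (q * ev (aL k))) ≤ 1024 := by
  intro q hq k hk
  let d : ℕ → ℕ := fun i => (i % 4) * if k = 8 then 16 else 64
  have hd : ∀ i, d i < 256 := fun i => by simp only [d]; split_ifs <;> omega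
  have ht : el 30 ∈ Cz (el 13) := nq_Cz _ (by decide)
  have tt : (el 30)⁻¹ = el 30 := el_inv 30
  let g : Fin 8 → Y := fun i => (if i.1 < 4 then 1 else el 30) * qw (d i)
  have h := idx (T := T1) (C := T1 ⊓ Cz (q * ev (aL k))) inf_le_left g (fun i => mul_mem
    (by split_ifs; exacts [one_mem _, tau_T1]) (T0_le_T1 (Q0_le_T0 (qw_mem _)))) fun i j hij => by
      have e := mem_Cz.1 hij.2
      have same : (g i)⁻¹ * g j = (qw (d i))⁻¹ * qw (d j) → i.1 % 4 = j.1 % 4 := fun e1 => by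
        have h1 : Ez ((qw (d i))⁻¹ * qw (d j)) (qw (d i ^^^ d j)) := by
          have h2 := Ez.left (Ez.symm (qw_mul (hd i) (xlt (hd i) (hd j)))) (Q0_Cz (inv_mem (qw_mem (d i))))
          rwa [← Nat.xor_assoc, Nat.xor_self, Nat.zero_xor, inv_mul_cancel_left] at h2
        have h3 := nc1 (xlt (hd i) (hd j)) h1 hq (actQ_ev (aL_nq k)) (aL_Cz k) (e1 ▸ e)
        exact (by decide +kernel : ∀ k ∈ [8, 11], ∀ i j : Fin 8,
          apn (cW (aL k)) (((i.1 % 4) * if k = 8 then 16 else 64) ^^^ ((j.1 % 4) * if k = 8 then 16 else 64)) =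
          apn I8 (((i.1 % 4) * if k = 8 then 16 else 64) ^^^ ((j.1 % 4) * if k = 8 then 16 else 64)) →
          i.1 % 4 = j.1 % 4) k (by simpa using hk) i j h3
      have diff : (g i)⁻¹ * g j = (qw (d i))⁻¹ * el 30 * qw (d j) → False := fun e1 => by
        refine nc2 (r := (qw (d i))⁻¹ * (el 30 * qw (d j) * (el 30)⁻¹)) (mul_mem (inv_mem (qw_mem _))
          (conj_Q0 (actQ_el 30 (by decide)) ht (qw_mem _))) hq hk ?_
        rw [show (qw (d i))⁻¹ * (el 30 * qw (d j) * (el 30)⁻¹) * el 30 = (qw (d i))⁻¹ * el 30 * qw (d j) by group,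
          ← e1]
        exact e
      by_cases hi : i.1 < 4 <;> by_cases hj : j.1 < 4
      · have := same (by simp only [g, if_pos hi, if_pos hj]; group)
        exact Fin.ext (by omega)
      · exact (diff (by simp only [g, if_pos hi, if_neg hj]; group)).elim
      · exact (diff (by simp only [g, if_neg hi, if_pos hj]; rw [mul_inv_rev, tt]; group)).elim
      · have := same (by simp only [g, if_neg hi, if_neg hj]; group)
        exact Fin.ext (by omega)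
  rw [card_T1] at h
  omega

end Cfsg.Agent.P83
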