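import Cfsg.Agent.P83.Loc
import Cfsg.Agent.P83.Lin1
import Cfsg.Agent.P83.ModB
import Cfsg.Agent.P83.ModC
import Cfsg.Agent.S0111
import Cfsg.Agent.H42.SylIn

/-! Transfer: the case `O₈⁺(2)` does not occur in a simple group. -/

set_option autoImplicit false

namespace Cfsg.Agent.P83

open Subgroup H97 H15 H11 CO1 CO2 QuadraticMap H4.GF

variable {G : Type*} [Group G] [Finite G] {φ ψ ν : Y → G} {K : Subgroup Y} {bd : ℕ} {π : G → V8} {ρ : G → OG Q8}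

namespace Tr

open H42 (SylIn cj)

omit [Finite G] in
/-- the image of a subgroup -/
theorem exists_im (h : H0 φ K bd) {A : Subgroup Y} (hA : A ≤ K) :
    ∃ B : Subgroup G, Nat.card B = Nat.card A ∧ ∀ g, g ∈ B ↔ ∃ x ∈ A, φ x = g := by
  refine ⟨(h.mul.mono hA).hom.range, ?_, fun g => ⟨fun ⟨x, e⟩ => ⟨x, x.2, e⟩, fun ⟨x, hx, e⟩ => ⟨⟨x, hx⟩, e⟩⟩⟩
  exact (Nat.card_congr (MonoidHom.ofInjective (f := (h.mul.mono hA).hom) fun a b e =>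
    Subtype.ext (h.injOn (hA a.2) (hA b.2) e)).toEquiv).symm

omit [Finite G] in
theorem cz_iff (h : H0 φ K bd) {x y : Y} (hx : x ∈ K) (hy : y ∈ K) : φ x ∈ Cz (φ y) ↔ x ∈ Cz y := by
  rw [mem_Cz, mem_Cz, ← h.mul _ hx _ hy, ← h.mul _ hy _ hx]
  exact ⟨h.injOn (mul_mem hx hy) (mul_mem hy hx), congrArg φ⟩

theorem aL_mem {k : ℕ} (hk : k < 16) : ∀ i ∈ aL k, i ∈ nq ∧ el i ∈ KO := fun i hi =>
  have e : ∀ k < 16, ∀ i ∈ aL k, i ∈ nq ∧ i ∈ [15, 16, 17, 18, 19, 20, 21, 22, 29, 30, 31, 12] := by decide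
  ⟨(e k hk i hi).1, T1_le_KO (el_mem_gp (e k hk i hi).2)⟩

/-- an element that normalises the image of `T1 ⊓ C(o)` centralises `z` -/
theorem norm_So (h : Fr φ KO 8192 π ρ) {S : Subgroup G} (hS : ∀ g, g ∈ S ↔ ∃ x ∈ T1 ⊓ Cz (el 12), φ x = g)
    {n : G} (hn : n ∈ normalizer (S : Set G)) : n ∈ Cz (φ (el 13)) := by
  obtain ⟨a, ha, e1⟩ := z_sq_So
  obtain ⟨b, hb, e2⟩ := (hS _).1 (H42.conj_mem_of_mem_normalizer hn ((hS _).2 ⟨a, ha, rfl⟩))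
  have ka := T1_le_KO ha.1
  have kb := T1_le_KO hb.1
  have e3 : φ (b * b) = n * φ (el 13) * n⁻¹ := by
    rw [← e1, h.h0.mul _ kb _ kb, h.h0.mul _ ka _ ka, e2]; group
  by_contra hc
  have hne : φ (b * b) ≠ φ (el 13) := fun e => hc (Cz_of_conj (e3.symm.trans e))
  have k : ∀ x ∈ Q0, b * b = x → π (φ x) = dc8 1 → False := fun x hx e e' => by
    obtain ⟨c, hc, e4⟩ := h.ld16.th (dc8 1) ⟨φ (b * b), ⟨n, e3.symm⟩, (h.oz _).2 ⟨x, hx, by rw [e]⟩, hne,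
      by rw [e, e']⟩
    exact one_nmem_Th c hc e4
  have kq : qw 1 ∈ KO := T1_le_KO (T0_le_T1 (Q0_le_T0 (qw_mem 1)))
  have kz : el 13 ∈ KO := T1_le_KO (T0_le_T1 (Q0_le_T0 z_mem))
  rcases cen_So (b * b) (sq_T1 b hb.1) (fun y hy => by
    obtain ⟨c, hc, e4⟩ := (hS _).1 (H42.conj_mem_of_mem_normalizer (inv_mem hn) ((hS _).2 ⟨y, hy, rfl⟩))
    have e5 := mem_Cz.1 (h.h0.cz (T1_le_KO hc.1) (T1_le_Cz hc.1))
    refine mem_Cz.1 ((cz_iff h.h0 (mul_mem kb kb) (T1_le_KO hy.1)).1 (mem_Cz.2 ?_))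
    rw [e3]
    rw [e4] at e5
    calc n * φ (el 13) * n⁻¹ * φ y = n * (φ (el 13) * (n⁻¹ * φ y * n⁻¹⁻¹)) * n⁻¹ := by group
      _ = _ := by rw [← e5]; group) with e | e | e | e
  · rw [e, h.h0.mul.one, eq_comm, conj_eq_one_iff] at e3
    exact h.cx.lx.ne e3
  · exact hne (congrArg φ e)
  · exact k _ (qw_mem 1) e (h.pi 1 (by decide))
  · refine k _ (mul_mem z_mem (qw_mem 1)) e ?_
    rw [h.h0.mul _ kz _ kq, h.cx.π_zmul ((h.oz _).2 ⟨_, qw_mem 1, rfl⟩), h.pi 1 (by decide)]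

/-- a 2-subgroup of `C(z, u)` that contains `u` has order at most 1024 -/
theorem card_le (h : Fr φ KO 8192 π ρ) {P : Subgroup G} (hP : IsPGroup 2 P) (h1 : P ≤ Cz (φ (el 13)))
    (h2 : P ≤ Cz (φ (el 12))) (h3 : φ (el 12) ∈ P) : Nat.card P ≤ 1024 := by
  obtain ⟨T, -, hT⟩ := h.h0.exists_T
  obtain ⟨c, hc, e1⟩ := (H42.sylIn_of_le T (H := Cz (φ (el 13))) fun g hg => by
    obtain ⟨x, hx, hk, rfl⟩ := (hT g).1 hg
    exact h.h0.cz hk (T1_le_Cz hx)).exists_conj hP h1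
  obtain ⟨x, hx, kx, e2⟩ := (hT _).1 (e1 _ h3)
  obtain ⟨q, hq, k, hk, rfl⟩ := mem_T1.1 hx
  have kq : q ∈ KO := T1_le_KO (T0_le_T1 (Q0_le_T0 hq))
  have ka : ev (aL k) ∈ KO := (mul_mem_cancel_left kq).1 kx
  have oq : φ q ∈ Oz (φ (el 13)) := (h.oz _).2 ⟨q, hq, rfl⟩
  have e3 := congrArg ρ e2
  have e4 : ρ (φ (el 12)) = ow (aL 8) := by
    rw [← h.rho_ev (aL_mem (k := 8) (by decide)), show aL 8 = [12] by decide, ev_one]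
  rw [h.h0.mul _ kq _ ka, h.cx.ρ_mul (h.cx.le oq) (h.h0.cz ka (ev_mem fun i hi => nq_Cz i (aL_mem hk i hi).1)),
    (h.cx.ρ_eq_one (h.cx.le oq)).2 oq, one_mul, h.rho_ev (aL_mem hk), h.cx.ρ_mul (mul_mem hc (h1 h3)) (inv_mem hc),
    h.cx.ρ_mul hc (h1 h3), h.cx.ρ_inv hc, e4] at e3
  have e5 := typ_o (j := 8) (by decide) hk e3.symm
  obtain ⟨B, c1, hB⟩ := exists_im h.h0 (A := T1 ⊓ Cz (q * ev (aL k))) (inf_le_left.trans T1_le_KO)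
  refine le_trans ?_ (small_T1 q hq k (by simpa using e5))
  rw [← c1, ← H42.card_cj c P]
  refine card_le_of_le (H42.cj_le_iff.2 fun r hr => ?_)
  obtain ⟨y, hy, ky, e6⟩ := (hT _).1 (e1 r hr)
  refine (hB _).2 ⟨y, ⟨hy, (cz_iff h.h0 ky kx).1 (mem_Cz.2 ?_)⟩, e6⟩
  rw [e6, e2]
  calc _ = c * (r * φ (el 12)) * c⁻¹ := by group
    _ = _ := by rw [mem_Cz.1 (h2 hr)]; group

/-- the image of `T1 ⊓ C(o)` is a Sylow subgroup of `C(u)` -/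
theorem syl_So (h : Fr φ KO 8192 π ρ) :
    ∃ S, SylIn 2 S (Cz (φ (el 12))) ∧ ∀ g, g ∈ S ↔ ∃ x ∈ T1 ⊓ Cz (el 12), φ x = g := by
  obtain ⟨S, c1, hS⟩ := exists_im h.h0 (A := T1 ⊓ Cz (el 12)) (inf_le_left.trans T1_le_KO)
  obtain ⟨T, -, hT⟩ := h.h0.exists_T
  have ko := T1_le_KO o_T1.1
  obtain ⟨P, hP, h1⟩ := H42.exists_sylIn (p := 2) (R := S) (H := Cz (φ (el 12))) (T.2.to_le fun g hg =>
    let ⟨x, hx, e⟩ := (hS g).1 hg; (hT g).2 ⟨x, hx.1, T1_le_KO hx.1, e⟩) fun g hg => by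
      obtain ⟨x, hx, rfl⟩ := (hS g).1 hg
      exact (cz_iff h.h0 (T1_le_KO hx.1) ko).2 hx.2
  rcases h1.eq_or_lt with rfl | h2
  · exact ⟨S, hP, hS⟩
  have h3 := H42.lt_inf_normalizer hP.isP h2
  have h4 := card_le h (P := P ⊓ normalizer (S : Set G)) hP.isP.to_inf_left (fun n hn => norm_So h hS hn.2)
    (inf_le_left.trans hP.le) (h3.le ((hS _).2 ⟨_, ⟨o_T1.1, mem_Cz.2 rfl⟩, rfl⟩))
  exact absurd (eq_of_le_of_card_ge h3.le (h4.trans (card_So.trans c1.ge))) h3.ne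

end Tr

theorem Fr.tr (h : Fr φ KO 8192 π ρ) : ∃ M : Subgroup G, M.Normal ∧ M.index = 2 := by
  obtain ⟨T, c1, hT⟩ := h.h0.exists_T
  have k0 : T0 ≤ KO := T0_le_T1.trans T1_le_KO
  obtain ⟨U, c2, hU⟩ := Tr.exists_im h.h0 k0
  have ko := T1_le_KO o_T1.1
  have l1 : U ≤ T := fun g hg => let ⟨x, hx, e⟩ := (hU g).1 hg; (hT g).2 ⟨x, T0_le_T1 hx, k0 hx, e⟩
  have e1 := H42.card_mul_relIndex l1
  rw [c2, card_T0, show Nat.card (T : Subgroup G) = 8192 from c1] at e1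
  have u2 : φ (el 12) * φ (el 12) = 1 := by rw [← h.h0.mul _ ko _ ko, o_T1.2.2, h.h0.mul.one]
  have un : φ (el 12) ∉ U := fun hu => by
    obtain ⟨x, hx, e⟩ := (hU _).1 hu
    exact o_T1.2.1 (h.h0.injOn (k0 hx) ko e ▸ hx)
  rcases S0111.result T U l1 (by omega) (φ (el 12))
    (orderOf_eq_prime (by rw [pow_two, u2]) fun e => un (e ▸ U.one_mem))
    ((hT _).2 ⟨_, o_T1.1, ko, rfl⟩) un with ⟨M, h1, h2, -⟩ | ⟨g, hg⟩
  · exact ⟨M, h1, h2⟩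
  exfalso
  obtain ⟨x, hx, e2⟩ := (hU _).1 hg
  obtain ⟨a, ha, rfl⟩ := sqr_T0 x hx (h.h0.inj _ (mul_mem (k0 hx) (k0 hx)) (by
    rw [h.h0.mul _ (k0 hx) _ (k0 hx), e2]
    calc _ = g * (φ (el 12) * φ (el 12)) * g⁻¹ := by group
      _ = 1 := by rw [u2]; group))
  have ka := KL_le_KO ha
  obtain ⟨k, e3⟩ : ∃ k, k * k = φ (el 12) := ⟨g⁻¹ * φ a * g, by
    calc _ = g⁻¹ * (φ a * φ a) * g := by group
      _ = _ := by rw [← h.h0.mul _ ka _ ka, e2]; group⟩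
  obtain ⟨S, hS, h3⟩ := Tr.syl_So h
  have k4 : k ^ 2 ^ 2 = 1 := by rw [← u2, ← e3, pow_two 2, pow_mul, pow_two, pow_two]
  obtain ⟨c, hc, h4⟩ := hS.exists_conj (R := zpowers k) (fun y => ⟨2, by
    obtain ⟨_, i, rfl⟩ := y
    exact Subtype.ext (by
      change (k ^ i) ^ 2 ^ 2 = 1
      rw [← zpow_natCast, ← zpow_mul, mul_comm, zpow_mul, zpow_natCast, k4, one_zpow])⟩)
    (zpowers_le_of_mem (mem_Cz.2 (by rw [← e3, mul_assoc])))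
  obtain ⟨s, hs, e4⟩ := (h3 _).1 (h4 k (mem_zpowers k))
  have ks := T1_le_KO hs.1
  refine o_T1.2.1 (h.h0.injOn (mul_mem ks ks) ko ?_ ▸ sq_T1 s hs.1)
  rw [h.h0.mul _ ks _ ks, e4, ← conj_eq_of_Cz hc, ← e3]; group

end Cfsg.Agent.P83
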