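import Cfsg.Agent.P83.BaseG
import Cfsg.Agent.P83.Crd2
import Cfsg.Agent.P83.Grf
import Cfsg.Agent.P83.Cert.T15

/-! The extension of `φ` to the monomial group. -/

set_option autoImplicit false

namespace Cfsg.Agent.P83

open Subgroup H97 H15 H11 CO1 CO2 QuadraticMap H4.GF

variable {G : Type*} [Group G] [Finite G] {φ ψ ν : Y → G} {K : Subgroup Y} {bd : ℕ} {π : G → V8} {ρ : G → OG Q8}

theorem el_KL : ∀ i ∈ [0, 1, 2, 3, 4, 5, 6, 7, 10], el i ∈ KL := fun i hi => by
  rcases List.mem_cons.1 hi with rfl | hi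
  · exact el_zero ▸ one_mem _
  · exact ev_one i ▸ ev_mem_gp (by revert i; decide)

theorem el_C1 : ∀ i ∈ [1, 2, 3, 4, 6, 7, 10], el i ∈ C1 := fun i hi =>
  ev_one i ▸ ev_mem_gp (by revert i; decide)

theorem el_C0 : ∀ i ∈ [1, 2, 3, 4, 6, 7, 8, 9, 10], el i ∈ C0 := fun i hi =>
  ev_one i ▸ ev_mem_gp (by revert i; decide)

theorem exists_nu (h : MulOn φ KL) (p : Ps φ ψ ρ) (r2 : (φ (el 5) * ψ (el 37)) ^ 3 = 1) :
    ∃ ν, Nu φ ψ ν := by
  let g : ℕ → G := fun i => if i = 8 ∨ i = 9 then ψ (el i) else if i = 11 then 1 else φ (el i)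
  have g1 : ∀ i ∈ [0, 1, 2, 3, 4, 5, 6, 7, 10], el i ∈ KL ∧ g i = φ (el i) := fun i hi =>
    ⟨el_KL i hi, (if_neg (by revert i; decide)).trans (if_neg (by revert i; decide))⟩
  have g2 : ∀ i ∈ [1, 2, 3, 4, 6, 7, 8, 9, 10], el i ∈ C0 ∧ g i = ψ (el i) := fun i hi => ⟨el_C0 i hi, by
    by_cases e : i = 8 ∨ i = 9
    · exact if_pos e
    · rw [(g1 i (by revert i; decide)).2, p.eq _ (el_C1 i (by revert i; decide))]⟩
  have R : H58.RuleOK (pr g) T15.rels ivP := by
    refine rule_pr (by rw [(g1 0 (by decide)).2, el_zero, h.one]) (fun x hx => ?_) (fun r hr => ?_)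
      (by decide +kernel) (by decide +kernel)
    · by_cases e : x ∈ [0, 1, 2, 3, 4, 5, 6, 7, 10]
      · rw [(g1 x e).2, (g1 _ (by revert x; decide)).2, ← el_inv, h.inv (g1 x e).1]
      by_cases e2 : x ∈ [1, 2, 3, 4, 6, 7, 8, 9, 10]
      · rw [(g2 x e2).2, (g2 _ (by revert x; decide)).2, ← el_inv, p.mul.inv (g2 x e2).1]
      · obtain rfl : x = 11 := by revert x; decide
        exact inv_one.symm
    · have e : ev r = 1 := (ev_eq r []).2 (by revert r; decide +kernel)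
      have k : (∀ i ∈ r, i ∈ [0, 1, 2, 3, 4, 5, 6, 7, 10]) ∨ (∀ i ∈ r, i ∈ [1, 2, 3, 4, 6, 7, 8, 9, 10]) ∨
          r = [8, 2, 5, 8, 2, 5, 8, 2, 5] := by clear e; revert r; decide +kernel
      rcases k with k | k | rfl
      · rw [prod_eq h fun i hi => g1 i (k i hi), e, h.one]
      · rw [prod_eq p.mul fun i hi => g2 i (k i hi), e, p.mul.one]
      · have a : g 8 * g 2 = ψ (el 37) := by
          have := prod_eq p.mul (w := [8, 2]) fun i hi => g2 i (by revert i; decide)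
          rw [(ev_eq [8, 2] [37]).2 (by decide +kernel), ev_one] at this
          simpa using this
        rw [← a, ← (g1 5 (by decide)).2] at r2
        simp only [List.map_cons, List.map_nil, List.prod_cons, List.prod_nil, mul_one]
        calc _ = (g 5)⁻¹ * (g 5 * (g 8 * g 2)) ^ 3 * g 5 := by simp only [pow_succ, pow_zero]; group
          _ = 1 := by rw [r2]; group
  obtain ⟨H, hH, hm⟩ := exists_graph (h.mono B0_le_KL)
  have h2 := H58.card_le_of_relIndex (T15.relIndex_le R H fun x hx => by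
    rw [pr, if_pos (by revert x; decide), (g1 x (by revert x; decide)).2]
    exact hm _ (el_mem_gp hx)) hH
  obtain ⟨ν, h3, h4⟩ := exists_ext (l := [1, 2, 3, 4, 5, 8, 10]) (D := gr g [1, 2, 3, 4, 5, 8, 10])
    (fun i hi => ⟨_, pr_mem hi (by revert i; decide)⟩) ⟨h2.1, h2.2.trans card_N0⟩
  refine ⟨ν, h3, fun x hx => h4 x (B0_le_N0 hx) _ (graph_mem (h.mono B0_le_KL) (fun i hi => ?_) hx), ?_⟩
  · rw [← (g1 i (by revert i; decide)).2]
    exact pr_mem (by revert i; decide) (by revert i; decide)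
  · exact h4 _ (el_mem_gp (by decide)) _ (pr_mem (g := g) (by decide) (by decide))

end Cfsg.Agent.P83
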