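import Cfsg.Agent.P83.BaseG

/-! A centraliser in `C(z)`. -/

set_option autoImplicit false
set_option maxRecDepth 100000

namespace Cfsg.Agent.P83

open Subgroup H97 H15 H11 CO1 CO2 QuadraticMap H4.GF

variable {G : Type*} [Group G] [Finite G] {φ ψ ν : Y → G} {K : Subgroup Y} {bd : ℕ} {π : G → V8} {ρ : G → OG Q8}

namespace R3a

theorem el_comm {i j : ℕ} (h : eqp (wC [i, j]) (wC [j, i]) = true) : el i * el j = el j * el i := by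
  have := (ev_eq _ _).2 h
  rwa [ev_cons, ev_one, ev_cons, ev_one] at this

theorem cut : ∀ c < 256, apn (cc 8) c = c → eqp (wC (qL c ++ [15])) (wC (15 :: qL c)) = true →
    eqp (wC (qL c ++ [36])) (wC (36 :: qL c)) = true → c < 4 := by decide +kernel

theorem qw_F5 {c : ℕ} (h : c < 4) : qw c ∈ F5 :=
  ev_mem_gp ((by decide : ∀ c < 4, ∀ i ∈ qL c, i ∈ [15, 16, 13, 36] ∨ Il.getD i 0 ∈ [15, 16, 13, 36]) c h)

omit [Finite G] in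
theorem cz_of {S : Subgroup Y} (m : MulOn ψ S) {a b : Y} (ha : a ∈ S) (hb : b ∈ S) (e : a * b = b * a) :
    ψ a ∈ Cz (ψ b) := mem_Cz.2 (by rw [← m a ha b hb, e, m b hb a ha])

end R3a

theorem Fr.r3a (h : Fr φ K bd π ρ) (p : Ps φ ψ ρ) (l : LC h.cx.hom.range (Om (φ (el 13)) π) EE) {g : G}
    (h1 : g ∈ Cz (φ (el 13))) (h2 : g ∈ Cz (φ (el 15))) (h3 : g ∈ Cz (φ (el 36))) (h4 : g ∈ Cz (ψ (el 8))) :
    ∃ x ∈ F5, ∃ j < 3, g = φ x * ψ (el 8) ^ j := by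
  have cK : C1 ≤ K := C1_le_KL.trans h.h0.le
  have qK : Q0 ≤ K := (Q0_le_T0.trans T0_le_C1).trans cK
  have fK : F5 ≤ K := (F5_le_T0.trans T0_le_C1).trans cK
  have c13 := mem_C1 13 (by decide)
  have c15 := mem_C1 15 (by decide)
  have c36 := mem_C1 36 (by decide)
  have c8 := mem_C0 8 (by decide)
  have oq : ∀ c, φ (qw c) ∈ Oz (φ (el 13)) := fun c => (h.oz _).2 ⟨_, qw_mem c, rfl⟩
  have q15 : qw 1 = el 15 := qw_pow (i := 0) (by decide)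
  have o15 : φ (el 15) ∈ Oz (φ (el 13)) := q15 ▸ oq 1
  have p15 : π (φ (el 15)) = dc8 1 := q15 ▸ h.pi 1 (by decide)
  have ze : φ (el 36) ∈ Cz (φ (el 13)) := h.h0.cz (cK c36) (nq_Cz 36 (by decide))
  have zr : ψ (el 8) ∈ Cz (φ (el 13)) := h.ps_cz p c8
  have re : ρ (φ (el 36)) = ol 36 := h.rho_el (by decide) (cK c36)
  have rr : ρ (ψ (el 8)) = ol 8 := h.ps_rho p (by decide) c8
  have f1 : ap (ρ g) (dc8 1) = dc8 1 := by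
    rw [← p15, ← h.cx.act g h1 _ o15, conj_eq_of_Cz h2]
  obtain ⟨i, -, j, hj, e⟩ := cen_EA (l.fix (ρ g) ⟨⟨g, h1⟩, rfl⟩ f1) f1
    (by rw [← re, ← h.cx.ρ_mul h1 ze, mem_Cz.1 h3, h.cx.ρ_mul ze h1])
    (by rw [← rr, ← h.cx.ρ_mul h1 zr, mem_Cz.1 h4, h.cx.ρ_mul zr h1])
  have zu : φ (el 36) ^ i * ψ (el 8) ^ j ∈ Cz (φ (el 13)) := mul_mem (pow_mem ze i) (pow_mem zr j)
  obtain ⟨x, hx, ex⟩ := (h.oz _).1 (h.cx.mem_of_ρ h1 zu (by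
    rw [h.cx.ρ_mul (pow_mem ze i) (pow_mem zr j), h.cx.ρ_pow ze, h.cx.ρ_pow zr, re, rr, e]))
  let H : Subgroup G := Cz (φ (el 15)) ⊓ Cz (φ (el 36)) ⊓ Cz (ψ (el 8))
  have r15 : ψ (el 8) ∈ Cz (φ (el 15)) := by
    rw [← p.eq _ c15]; exact R3a.cz_of p.mul c8 (C1_le_C0 c15) (R3a.el_comm (by decide +kernel))
  have r36 : ψ (el 8) ∈ Cz (φ (el 36)) := by
    rw [← p.eq _ c36]; exact R3a.cz_of p.mul c8 (C1_le_C0 c36) (R3a.el_comm (by decide +kernel))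
  have He : φ (el 36) ∈ H :=
    ⟨⟨R3a.cz_of h.h0.mul (cK c36) (cK c15) (R3a.el_comm (by decide +kernel)), mem_Cz.2 rfl⟩, Cz_symm r36⟩
  have Hr : ψ (el 8) ∈ H := ⟨⟨r15, r36⟩, mem_Cz.2 rfl⟩
  have Hz : φ (el 13) ∈ H := ⟨⟨Cz_symm (h.cx.le o15), Cz_symm ze⟩, Cz_symm zr⟩
  have Hx : φ x ∈ H := ex ▸ H.mul_mem ⟨⟨h2, h3⟩, h4⟩ (H.inv_mem (H.mul_mem (H.pow_mem He i) (H.pow_mem Hr j)))
  obtain ⟨c, hc, ec⟩ := mem_Q0.1 hx
  have Hc : φ (qw c) ∈ H := by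
    rcases ec with rfl | rfl
    · exact Hx
    · rwa [h.h0.mul _ (cK c13) _ (qK (qw_mem c)), H.mul_mem_cancel_left Hz] at Hx
  have cm : ∀ k, el k ∈ K → φ (qw c) ∈ Cz (φ (el k)) → eqp (wC (qL c ++ [k])) (wC (k :: qL c)) = true :=
    fun k hk e1 => (ev_eq _ _).1 (by
      rw [ev_append, ev_one, ev_cons]
      change qw c * el k = el k * qw c
      exact h.h0.injOn (K.mul_mem (qK (qw_mem c)) hk) (K.mul_mem hk (qK (qw_mem c))) (by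
        rw [h.h0.mul _ (qK (qw_mem c)) _ hk, h.h0.mul _ hk _ (qK (qw_mem c))]; exact mem_Cz.1 e1))
  have c4 : c < 4 := R3a.cut c hc (cd_dc8.inj _ (apn_lt _ _) _ hc (by
    rw [← (is_ol 8 (by decide)).ap_dc cd_dc8 hc, ← rr, ← h.pi c hc, ← h.cx.act _ zr _ (oq c),
      conj_eq_of_Cz (Cz_symm Hc.2)])) (cm 15 (cK c15) Hc.1.1) (cm 36 (cK c36) Hc.1.2)
  have xF : x ∈ F5 := by
    rcases ec with rfl | rfl
    · exact R3a.qw_F5 c4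
    · exact F5.mul_mem (el_mem_gp (by decide)) (R3a.qw_F5 c4)
  refine ⟨x * el 36 ^ i, F5.mul_mem xF (F5.pow_mem (el_mem_gp (by decide)) i), j, hj, ?_⟩
  rw [h.h0.mul _ (fK xF) _ (K.pow_mem (cK c36) i), h.h0.mul.pow (cK c36), ex]
  group

end Cfsg.Agent.P83
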